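import Cfsg.Agent.Lib.McLThree.Defs
import Cfsg.Prelude.Def_Transfer
import Cfsg.Prelude.Def_SporadicB

/-!
# The McLaughlin group from the centralizer of an involution: interface

`Cov` is what is used about a double cover `2A₈` as the centralizer of the involution `t`, with named lifts
`z ↦ (0 1 2)`, `b ↦ (3 4 5)`, `s ↦ (0 3)(1 4)(2 5)(6 7)`, `r ↦ (0 1)(3 4)`, `e ↦ (0 1)(6 7)`.
-/

set_option autoImplicit false

namespace CfsgLib.McLDouble

open Subgroup Equiv

universe u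

/-- The centralizer of an involution is a non-split double cover of `A₈`. -/
structure Cov (G : Type u) [Group G] where
  t : G
  ord_t : orderOf t = 2
  π : ↥(centralizer ({t} : Set G)) →* alternatingGroup (Fin 8)
  π_surj : Function.Surjective π
  π_ker : ∀ x, π x = 1 ↔ (x : G) ∈ zpowers t
  card_C : Nat.card (centralizer ({t} : Set G)) = 40320
  /-- commutation is decided in `A₈` when one of the elements has odd order -/
  comm_odd : ∀ x y : ↥(centralizer ({t} : Set G)), Odd (orderOf (y : G)) → Commute (π x) (π y) →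
    Commute (x : G) (y : G)
  dbl_quat : ∀ (x : ↥(centralizer ({t} : Set G))) (i j k l : Fin 8), [i, j, k, l].Nodup →
    (π x : Perm (Fin 8)) = swap i j * swap k l → (x : G) * x = t
  quad_invol : ∀ x : ↥(centralizer ({t} : Set G)), π x * π x = 1 →
    (∀ i, (π x : Perm (Fin 8)) i ≠ i) → (x : G) * x = 1
  z : G
  b : G
  s : G
  r : G
  e : G
  mem_z : z ∈ centralizer ({t} : Set G)
  mem_b : b ∈ centralizer ({t} : Set G)
  mem_s : s ∈ centralizer ({t} : Set G)
  mem_r : r ∈ centralizer ({t} : Set G)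
  mem_e : e ∈ centralizer ({t} : Set G)
  π_z : (π ⟨z, mem_z⟩ : Perm (Fin 8)) = swap 0 1 * swap 1 2
  π_b : (π ⟨b, mem_b⟩ : Perm (Fin 8)) = swap 3 4 * swap 4 5
  π_s : (π ⟨s, mem_s⟩ : Perm (Fin 8)) = swap 0 3 * swap 1 4 * swap 2 5 * swap 6 7
  π_r : (π ⟨r, mem_r⟩ : Perm (Fin 8)) = swap 0 1 * swap 3 4
  π_e : (π ⟨e, mem_e⟩ : Perm (Fin 8)) = swap 0 1 * swap 6 7
  ord_z : orderOf z = 3
  ord_b : orderOf b = 3
  ord_s : orderOf s = 2
  s_ne : s ≠ t
  zb : Commute z b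
  sz : s * z * s⁻¹ = b
  sb : s * b * s⁻¹ = z
  rs : r * s * r⁻¹ = s * t
  ez : e * z * e⁻¹ = z⁻¹
  eb : e * b * e⁻¹ = b
  invol : ∀ v ∈ centralizer ({t} : Set G), orderOf v = 2 →
    v = t ∨ ∃ k ∈ centralizer ({t} : Set G), k * s * k⁻¹ = v
  z_invol : ∀ v ∈ centralizer ({t} : Set G), Commute v z → orderOf v = 2 → v = t
  cardTz : Nat.card ↥(centralizer ({t} : Set G) ⊓ centralizer ({z} : Set G)) = 360
  cardTE : Nat.card ↥(centralizer ({t} : Set G) ⊓ centralizer ({z} : Set G) ⊓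
    centralizer ({b} : Set G)) = 18
  cardTw : Nat.card ↥(centralizer ({t} : Set G) ⊓ centralizer ({z * b} : Set G)) = 36
  cardTN : Nat.card ↥(centralizer ({t} : Set G) ⊓
    normalizer ((closure ({z, b} : Set G) : Subgroup G) : Set G)) = 144
  cardTs : Nat.card ↥(centralizer ({t} : Set G) ⊓ centralizer ({s} : Set G)) = 192

variable {G : Type u} [Group G]

/-- The element of the second class of order three. -/
def Cov.w (D : Cov G) : G := D.z * D.b

/-- The subgroup `⟨z, b⟩`. -/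
def Cov.E (D : Cov G) : Subgroup G := closure ({D.z, D.b} : Set G)

/-- `t` is fused to `s`. -/
structure Fused (D : Cov G) where
  x : G
  xw : Commute x D.w
  xt : x * D.t * x⁻¹ = D.s
  xs : x * D.s * x⁻¹ = D.s * D.t
  xord : ∃ k : ℕ, orderOf x = 3 ^ k
  one : ∀ v : G, orderOf v = 2 → Commute v D.t → ∃ k : G, k * D.t * k⁻¹ = v

/-- The abelian subgroup of order `81`. -/
structure JData (D : Cov G) (F : Fused D) where
  J : Subgroup G
  cardJ : Nat.card J = 81
  commJ : ∀ a ∈ J, ∀ c ∈ J, a * c = c * a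
  expJ : ∀ a ∈ J, a ^ 3 = 1
  zJ : D.z ∈ J
  bJ : D.b ∈ J
  tJ : D.t ∈ normalizer (J : Set G)
  sJ : D.s ∈ normalizer (J : Set G)
  xJ : F.x ∈ normalizer (J : Set G)
  tfix : ∀ a ∈ J, Commute D.t a → a ∈ D.E
  cardCE : Nat.card ↥(centralizer ({D.z} : Set G) ⊓ centralizer ({D.b} : Set G)) = 162
  normE : ∀ g ∈ normalizer (D.E : Set G), Odd (orderOf g) → g ∈ J
  wtype : ∃ w₂ ∈ J, w₂ ≠ 1 ∧ D.t * w₂ * D.t⁻¹ = w₂⁻¹ ∧ ∃ k : G, k * D.w * k⁻¹ = w₂

/-- The centralizer of `z`. -/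
structure XData (D : Cov G) (F : Fused D) (K : JData D F) where
  Q : Subgroup G
  cardQ : Nat.card Q = 3 ^ 5
  expQ : ∀ q ∈ Q, q ^ 3 = 1
  zQ : D.z ∈ Q
  b_notQ : D.b ∉ Q
  centerQ : ∀ q ∈ Q, (∀ y ∈ Q, Commute q y) → q ∈ zpowers D.z
  commQ : ∀ q ∈ Q, ∀ y ∈ Q, q * y * q⁻¹ * y⁻¹ ∈ zpowers D.z
  cQ : Q ≤ centralizer ({D.z} : Set G)
  nQ : normalizer (zpowers D.z : Set G) ≤ normalizer (Q : Set G)
  centQ : centralizer (Q : Set G) ≤ Q
  tQ : ∀ q ∈ Q, D.t * q * D.t⁻¹ * q ∈ zpowers D.z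
  gen_z : centralizer ({D.z} : Set G) =
    Q ⊔ (centralizer ({D.z} : Set G) ⊓ centralizer ({D.t} : Set G))
  syl : 729 ∣ Nat.card G ∧ ¬ 2187 ∣ Nat.card G
  fix_b : Nat.card ↥(Q ⊓ centralizer ({D.b} : Set G)) = 27 ∧
    IsMulCommutative ↥(Q ⊓ centralizer ({D.b} : Set G))
  J_eq : (Q ⊓ centralizer ({D.b} : Set G)) ⊔ zpowers D.b = K.J

/-- Piece P1a: the named elements and counts. -/
def StmtCov : Prop := ∀ (G : Type u) [Group G] [Finite G] (t : G), orderOf t = 2 →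
  Cfsg.IsNonsplitDoubleCover (centralizer ({t} : Set G)) (alternatingGroup (Fin 8)) →
  ∃ D : Cov G, D.t = t

/-- Piece P1b: the dichotomy from the `Z*`-theorem. -/
def StmtFused : Prop := ∀ (G : Type u) [Group G] [Finite G] (D : Cov G),
  centralizer ({D.t} : Set G) ⊔ Cfsg.oddCore G = ⊤ ∨ Nonempty (Fused D)

/-- Piece P2: the Sylow 3-subgroups have order more than `9`. -/
def StmtThree : Prop := ∀ (G : Type u) [Group G] [Finite G] (D : Cov G),
  Fused D → 27 ∣ Nat.card G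

/-- Piece P3: the subgroup `J`. -/
def StmtJ : Prop := ∀ (G : Type u) [Group G] [Finite G] (D : Cov G) (F : Fused D),
  27 ∣ Nat.card G → Nonempty (JData D F)

/-- Piece P4: the centralizer of `w`. -/
def StmtY : Prop := ∀ (G : Type u) [Group G] [Finite G] (D : Cov G) (F : Fused D),
  JData D F → Nat.card (centralizer ({D.w} : Set G)) = 972

/-- Piece P5: the centralizer of `z`. -/
def StmtX : Prop := ∀ (G : Type u) [Group G] [Finite G] (D : Cov G) (F : Fused D) (K : JData D F),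
  Nat.card (centralizer ({D.w} : Set G)) = 972 → Nonempty (XData D F K)

end CfsgLib.McLDouble
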