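import Cfsg.Agent.Lib.McLDouble.BuildPerm
import Cfsg.Agent.Lib.McLDouble.Defs

/-!
# The data of the three-local characterization from the centralizer of an involution
-/

set_option autoImplicit false
set_option linter.unusedSectionVars false
set_option maxRecDepth 100000

namespace CfsgLib.McLDouble

open Subgroup Equiv

universe u

variable {G : Type u} [Group G] (D : Cov G)

theorem Cov.eq_of_odd (x y : ↥(centralizer ({D.t} : Set G))) (hx : Odd (orderOf (x : G)))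
    (hy : Odd (orderOf (y : G))) (h : D.π x = D.π y) : (x : G) = y := by
  have hc : Commute (x : G) (y : G) := D.comm_odd x y hy (by rw [h])
  obtain ⟨k, hk⟩ := mem_zpowers_iff.1 ((D.π_ker (x * y⁻¹)).1 (by rw [map_mul, map_inv, h, mul_inv_cancel]))
  have h2 : ((x : G) * (y : G)⁻¹) ^ 2 = 1 := by
    rw [← Subgroup.coe_inv, ← Subgroup.coe_mul, ← hk, ← zpow_natCast, ← zpow_mul, mul_comm, zpow_mul,
      zpow_natCast, ← D.ord_t, pow_orderOf_eq_one, one_zpow]
  have h3 : ((x : G) * (y : G)⁻¹) ^ (orderOf (x : G) * orderOf (y : G)) = 1 := by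
    rw [hc.inv_right.mul_pow, pow_mul, pow_orderOf_eq_one, one_pow, one_mul, inv_pow, mul_comm, pow_mul,
      pow_orderOf_eq_one, one_pow, inv_one]
  have h4 := pow_gcd_eq_one.2 ⟨h2, h3⟩
  rw [Nat.coprime_two_left.2 (hx.mul hy), pow_one, mul_inv_eq_one] at h4
  exact h4

theorem Cov.comm_t {x : G} (hx : x ∈ centralizer ({D.t} : Set G)) : Commute x D.t :=
  mem_centralizer_singleton_iff.1 hx

theorem Cov.pi_z : D.π ⟨D.z, D.mem_z⟩ = pz := Subtype.ext D.π_z

theorem Cov.pi_b : D.π ⟨D.b, D.mem_b⟩ = pb := Subtype.ext D.π_b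

theorem Cov.pi_r : D.π ⟨D.r, D.mem_r⟩ = pr := Subtype.ext D.π_r

theorem Cov.pi_e : D.π ⟨D.e, D.mem_e⟩ = pe := Subtype.ext D.π_e

theorem Cov.r_inv : D.r * D.z * D.r⁻¹ = D.z⁻¹ ∧ D.r * D.b * D.r⁻¹ = D.b⁻¹ := by
  have key : ∀ (y : G) (hy : y ∈ centralizer ({D.t} : Set G)), orderOf y = 3 →
      D.π ⟨D.r, D.mem_r⟩ * D.π ⟨y, hy⟩ * (D.π ⟨D.r, D.mem_r⟩)⁻¹ = (D.π ⟨y, hy⟩)⁻¹ →
      D.r * y * D.r⁻¹ = y⁻¹ := by
    intro y hy ho h
    refine D.eq_of_odd (⟨D.r, D.mem_r⟩ * ⟨y, hy⟩ * (⟨D.r, D.mem_r⟩)⁻¹) (⟨y, hy⟩)⁻¹ ?_ ?_ ?_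
    · show Odd (orderOf (D.r * y * D.r⁻¹))
      rw [show D.r * y * D.r⁻¹ = MulAut.conj D.r y from rfl, MulEquiv.orderOf_eq, ho]; decide
    · show Odd (orderOf y⁻¹)
      rw [orderOf_inv, ho]; decide
    · rw [map_mul, map_mul, map_inv, map_inv, h]
  exact ⟨key _ D.mem_z D.ord_z (by rw [D.pi_r, D.pi_z]; decide),
    key _ D.mem_b D.ord_b (by rw [D.pi_r, D.pi_b]; decide)⟩

theorem pz_five : ∀ j : Fin 5, ((pz : Perm (Fin (6 + 2))) ⟨j.1 + 3, by omega⟩).1 = j.1 + 3 := by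
  decide

theorem pe_five : ∀ j : Fin 5, ((pe : Perm (Fin (6 + 2)))⁻¹ ⟨j.1 + 3, by omega⟩) =
      ⟨((swap 3 4 : Perm (Fin 5))⁻¹ j).1 + 3, by omega⟩ ∧
    ((swap 3 4 : Perm (Fin 5)) j).1 + 3 = ((pe : Perm (Fin (6 + 2))) ⟨j.1 + 3, by omega⟩).1 := by
  decide

theorem val_wordA {H : Type*} [Group H] (T : Fin 6 → H) :
    McLThree.val (Fin.snoc T 1) McLThree.wordA =
      T 1 * T 3 * T 0 * (T 2)⁻¹ * T 0 * (T 1 * T 3 * T 0 * (T 2)⁻¹)⁻¹ := by
  simp [McLThree.wordA, McLThree.val, Fin.snoc]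
  group

theorem nodup_quad : ∀ i j : Fin 6, i ≠ j →
    [(0 : Fin (6 + 2)), ⟨i.1 + 2, by omega⟩, 1, ⟨j.1 + 2, by omega⟩].Nodup := by
  decide

theorem Cov.r_sq : D.r * D.r = D.t :=
  D.dbl_quat ⟨D.r, D.mem_r⟩ 0 1 3 4 (by decide) (by rw [D.π_r])

/-- The restriction of `π` to the centralizer of `z`. -/
def Cov.ρ : ↥(centralizer ({D.z} : Set G) ⊓ centralizer ({D.t} : Set G)) →*
    ↥(centralizer ({pz} : Set (alternatingGroup (Fin (6 + 2))))) :=
  (D.π.comp (inclusion inf_le_right)).codRestrict _ fun x => by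
    have h : (⟨x.1, x.2.2⟩ : ↥(centralizer ({D.t} : Set G))) * ⟨D.z, D.mem_z⟩ =
        ⟨D.z, D.mem_z⟩ * ⟨x.1, x.2.2⟩ := Subtype.ext (mem_centralizer_singleton_iff.1 x.2.1)
    rw [mem_centralizer_singleton_iff, ← D.pi_z]
    show D.π ⟨x.1, x.2.2⟩ * _ = _ * D.π ⟨x.1, x.2.2⟩
    rw [← map_mul, ← map_mul, h]

theorem Cov.rho_val (x : ↥(centralizer ({D.z} : Set G) ⊓ centralizer ({D.t} : Set G))) :
    (D.ρ x).1 = D.π ⟨x.1, x.2.2⟩ := rfl

theorem Cov.exists_lift {σ : alternatingGroup (Fin (6 + 2))} (h : Commute σ pz) :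
    ∃ x : ↥(centralizer ({D.z} : Set G) ⊓ centralizer ({D.t} : Set G)), (D.ρ x).1 = σ := by
  obtain ⟨y, hy⟩ := D.π_surj σ
  have hc : Commute (y : G) D.z := D.comm_odd y ⟨D.z, D.mem_z⟩
    (by show Odd (orderOf D.z); rw [D.ord_z]; decide) (by rw [hy, D.pi_z]; exact h)
  exact ⟨⟨y, mem_centralizer_singleton_iff.2 hc.eq, y.2⟩, hy⟩

theorem Cov.e_odd : ∃ π : Perm (Fin 5), Perm.sign π = -1 ∧
    ∀ x y : ↥(centralizer ({D.z} : Set G) ⊓ centralizer ({D.t} : Set G)),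
      (y : G) = D.e * (x : G) * D.e⁻¹ →
        restFive.comp D.ρ y = π * restFive.comp D.ρ x * π⁻¹ := by
  refine ⟨swap 3 4, by decide, fun x y hy => ?_⟩
  show restFive (D.ρ y) = swap 3 4 * restFive (D.ρ x) * (swap 3 4)⁻¹
  have hyv : (D.ρ y).1 = pe * (D.ρ x).1 * pe⁻¹ :=
    (congrArg D.π (Subtype.ext hy : (⟨y.1, y.2.2⟩ : ↥(centralizer ({D.t} : Set G))) =
      ⟨D.e, D.mem_e⟩ * ⟨x.1, x.2.2⟩ * (⟨D.e, D.mem_e⟩)⁻¹)).trans (by
        rw [map_mul, map_mul, map_inv, D.pi_e]; rfl)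
  refine Equiv.ext fun i => Fin.ext (Nat.add_right_cancel (m := 3) ?_)
  rw [restFive_val, hyv]
  simp only [Subgroup.coe_mul, Subgroup.coe_inv, Perm.mul_apply, (pe_five _).1, (pe_five _).2]
  congr 2
  exact Fin.ext (restFive_val (D.ρ x) _).symm

theorem Cov.fusion (h : G) (hh : Commute h D.t) :
    h * D.z * h⁻¹ ≠ D.z * D.b ∧ h * D.z * h⁻¹ ≠ D.z * D.b⁻¹ ∧
      h * D.z * h⁻¹ ≠ D.z⁻¹ * D.b ∧ h * D.z * h⁻¹ ≠ D.z⁻¹ * D.b⁻¹ := by
  have hhC : h ∈ centralizer ({D.t} : Set G) := mem_centralizer_singleton_iff.2 hh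
  have key : ∀ (y : ↥(centralizer ({D.t} : Set G))),
      (D.π y : Perm (Fin (6 + 2))).support.card ≠ 3 → h * D.z * h⁻¹ ≠ y := by
    intro y hc e
    apply hc
    rw [show y = ⟨h, hhC⟩ * ⟨D.z, D.mem_z⟩ * (⟨h, hhC⟩)⁻¹ from Subtype.ext e.symm, map_mul, map_mul,
      map_inv, Subgroup.coe_mul, Subgroup.coe_mul, Subgroup.coe_inv, Perm.support_conj, Finset.card_map,
      D.π_z]
    decide
  set z' : ↥(centralizer ({D.t} : Set G)) := ⟨D.z, D.mem_z⟩
  set b' : ↥(centralizer ({D.t} : Set G)) := ⟨D.b, D.mem_b⟩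
  refine ⟨key (z' * b') ?_, key (z' * b'⁻¹) ?_, key (z'⁻¹ * b') ?_, key (z'⁻¹ * b'⁻¹) ?_⟩ <;>
  · simp only [map_mul, map_inv, z', b', D.pi_z, D.pi_b]
    decide

variable {F : Fused D} {K : JData D F}

/-- The structure of `C(z)` and of its meet with `C(t)`. -/
def XData.top [Finite G] (X : XData D F K) : McLThree.Top G where
  z := D.z
  t := D.t
  a := D.b
  Q := X.Q
  ord_z := D.ord_z
  ord_t := D.ord_t
  ord_a := D.ord_b
  tz := (D.comm_t D.mem_z).symm
  ta := (D.comm_t D.mem_b).symm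
  za := D.zb
  a_notQ := X.b_notQ
  cardQ := X.cardQ
  expQ := X.expQ
  zQ := X.zQ
  centerQ := X.centerQ
  commQ := X.commQ
  cQ := X.cQ
  nQ := X.nQ
  centQ := X.centQ
  tQ := X.tQ
  gen_z := X.gen_z
  syl := X.syl
  φ := restFive.comp D.ρ
  χ := restThree.comp D.ρ
  φ_range := fun τ hτ => by
    obtain ⟨σ, hσ⟩ := restFive_range hτ
    obtain ⟨x, hx⟩ := D.exists_lift (σ := σ.1) (mem_centralizer_singleton_iff.1 σ.2)
    exact ⟨x, by rw [MonoidHom.comp_apply, show D.ρ x = σ from Subtype.ext hx, hσ]⟩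
  φ_ker := fun x => by
    constructor
    · intro h
      obtain ⟨j, hj⟩ := restFive_eq_one h
      rw [D.rho_val, ← D.pi_z, ← map_pow] at hj
      obtain ⟨k, hk⟩ := mem_zpowers_iff.1 ((D.π_ker ((⟨D.z, D.mem_z⟩ ^ (j : ℕ))⁻¹ * ⟨x.1, x.2.2⟩)).1
        (by rw [map_mul, map_inv, hj, inv_mul_cancel]))
      rw [Subgroup.coe_mul, Subgroup.coe_inv, SubmonoidClass.coe_pow] at hk
      rw [show (x : G) = D.z ^ (j : ℕ) * D.t ^ k by rw [hk, mul_inv_cancel_left]]
      exact mul_mem (pow_mem (Subgroup.subset_closure (Set.mem_insert D.z _)) _)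
        (zpow_mem (Subgroup.subset_closure (Set.mem_insert_of_mem D.z (Set.mem_singleton D.t))) _)
    · intro h
      have hle : closure ({D.z, D.t} : Set G) ≤
          (restFive.comp D.ρ).ker.map
            (centralizer ({D.z} : Set G) ⊓ centralizer ({D.t} : Set G)).subtype := by
        have hz : D.z ∈ centralizer ({D.z} : Set G) ⊓ centralizer ({D.t} : Set G) :=
          ⟨mem_centralizer_singleton_iff.2 rfl, D.mem_z⟩
        have ht : D.t ∈ centralizer ({D.z} : Set G) ⊓ centralizer ({D.t} : Set G) :=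
          ⟨mem_centralizer_singleton_iff.2 (D.comm_t D.mem_z).symm.eq, mem_centralizer_singleton_iff.2 rfl⟩
        rw [closure_le]
        rintro _ (rfl | rfl)
        · refine ⟨⟨D.z, hz⟩, ?_, rfl⟩
          show restFive (D.ρ ⟨D.z, hz⟩) = 1
          rw [show D.ρ ⟨D.z, hz⟩ = ⟨pz, mem_centralizer_singleton_iff.2 rfl⟩ from Subtype.ext D.pi_z]
          ext i
          have := restFive_val ⟨pz, mem_centralizer_singleton_iff.2 rfl⟩ i
          rw [pz_five i] at this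
          exact Nat.add_right_cancel this
        · refine ⟨⟨D.t, ht⟩, ?_, rfl⟩
          show restFive (D.ρ ⟨D.t, ht⟩) = 1
          rw [show D.ρ ⟨D.t, ht⟩ = 1 from Subtype.ext ((D.π_ker _).2 (mem_zpowers D.t)), map_one]
      obtain ⟨y, hy, e⟩ := hle h
      rwa [← Subtype.ext e (a1 := y)]
  φ_quat := fun x _ h1 h2 => by
    set σ := D.ρ x with hσ
    have h2' : restFive (σ * σ) = 1 := by rw [map_mul]; exact h2
    obtain ⟨j, hj⟩ := restFive_eq_one h2'
    -- correct by a power of `z`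
    set y : ↥(centralizer ({D.t} : Set G)) := ⟨x.1, x.2.2⟩ * (⟨D.z, D.mem_z⟩ : ↥(centralizer ({D.t} : Set G))) ^ (j : ℕ)
      with hy
    have hyz : Commute (y : G) D.z :=
      (show Commute x.1 D.z from mem_centralizer_singleton_iff.1 x.2.1).mul_left
        ((Commute.refl D.z).pow_left _)
    have hπy : D.π y = σ.1 * pz ^ (j : ℕ) := by rw [hy, map_mul, map_pow, D.pi_z]; rfl
    have hπ2 : D.π (y * y) = 1 := by
      rw [map_mul, hπy]
      have hc : Commute σ.1 (pz ^ (j : ℕ)) :=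
        (show Commute σ.1 pz from mem_centralizer_singleton_iff.1 σ.2).pow_right _
      rw [hc.symm.mul_mul_mul_comm, ← Subgroup.coe_mul, hj, ← pow_add, ← pow_add,
        show (j : ℕ) + (j + j) = 3 * j by ring, pow_mul,
        show pz ^ 3 = 1 by decide +kernel, one_pow]
    have ht := D.comm_t D.mem_z
    have hxx : (x : G) * x * D.t = ((y : G) * y) * (D.z ^ (2 * (j : ℕ)))⁻¹ * D.t := by
      have hc : Commute x.1 (D.z ^ (j : ℕ)) :=
        (show Commute x.1 D.z from mem_centralizer_singleton_iff.1 x.2.1).pow_right _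
      have e : (y : G) * y = x.1 * x.1 * D.z ^ (2 * (j : ℕ)) := by
        show x.1 * D.z ^ (j : ℕ) * (x.1 * D.z ^ (j : ℕ)) = _
        rw [hc.symm.mul_mul_mul_comm, ← pow_add, two_mul]
      rw [e, mul_inv_cancel_right]
    obtain ⟨k, hk⟩ := mem_zpowers_iff.1 ((D.π_ker _).1 hπ2)
    rw [Subgroup.coe_mul] at hk
    rcases Int.even_or_odd k with ⟨l, rfl⟩ | ⟨l, rfl⟩
    · exfalso
      rw [← two_mul, zpow_mul, zpow_ofNat, ← D.ord_t, pow_orderOf_eq_one, one_zpow] at hk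
      have hy1 : D.π y = 1 := by
        by_contra hne
        have ho : orderOf (y : G) = 2 := orderOf_eq_prime (by rw [pow_two, ← hk])
          fun e => hne (by rw [show y = 1 from Subtype.ext e, map_one])
        exact hne ((D.π_ker y).2 (by rw [D.z_invol _ y.2 hyz ho]; exact mem_zpowers _))
      apply h1
      show restFive σ = 1
      have hpz : restFive (⟨pz, mem_centralizer_singleton_iff.2 rfl⟩ :
          ↥(centralizer ({pz} : Set (alternatingGroup (Fin (6 + 2)))))) = 1 := by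
        ext i
        have := restFive_val ⟨pz, mem_centralizer_singleton_iff.2 rfl⟩ i
        rw [pz_five i] at this
        exact Nat.add_right_cancel this
      rw [show σ = (⟨pz, mem_centralizer_singleton_iff.2 rfl⟩ ^ (j : ℕ) :
          ↥(centralizer ({pz} : Set (alternatingGroup (Fin (6 + 2))))))⁻¹ from Subtype.ext (by
        rw [Subgroup.coe_inv, SubmonoidClass.coe_pow, eq_inv_iff_mul_eq_one, ← hπy, hy1]),
        map_inv, map_pow, hpz, one_pow, inv_one]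
    · rw [zpow_add, zpow_mul, zpow_ofNat, ← D.ord_t, pow_orderOf_eq_one, one_zpow, one_mul, zpow_one] at hk
      rw [hxx, ← hk, ← (ht.pow_left _).inv_left.eq, mul_assoc, ← pow_two, ← D.ord_t, pow_orderOf_eq_one,
        mul_one]
      exact inv_mem (pow_mem (mem_zpowers _) _)
  χ_z := fun x hx => by
    show restThree (D.ρ x) ≠ 1
    rw [show D.ρ x = ⟨pz, mem_centralizer_singleton_iff.2 rfl⟩ from Subtype.ext
      ((congrArg D.π (Subtype.ext hx : (⟨x.1, x.2.2⟩ : ↥(centralizer ({D.t} : Set G))) =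
        ⟨D.z, D.mem_z⟩)).trans D.pi_z)]
    decide +kernel
  χ_a := fun x hx => by
    show restThree (D.ρ x) = 1
    rw [show D.ρ x = ⟨pb, mem_centralizer_singleton_iff.2 (show pb * pz = pz * pb by decide)⟩ from
      Subtype.ext ((congrArg D.π (Subtype.ext hx : (⟨x.1, x.2.2⟩ : ↥(centralizer ({D.t} : Set G))) =
        ⟨D.b, D.mem_b⟩)).trans D.pi_b)]
    decide +kernel
  fix_a := X.fix_b

theorem XData.top_J [Finite G] (X : XData D F K) : (X.top D).J = K.J := X.J_eq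

/-- The structure from the normalizer of `J`. -/
def XData.loc [Finite G] (X : XData D F K) : McLThree.Loc G where
  toTop := X.top D
  e := D.e
  g := D.s
  et := D.comm_t D.mem_e
  ez := D.ez
  ea := D.eb
  gt := D.comm_t D.mem_s
  gz := D.sz
  ga := D.sb
  e_odd := D.e_odd
  gJ := by rw [X.top_J]; exact K.sJ
  fusion := D.fusion
  c_g := by
    have hs2 : D.s * D.s = 1 := by rw [← pow_two, ← D.ord_s, pow_orderOf_eq_one]
    have ht2 : D.t * D.t = 1 := by rw [← pow_two, ← D.ord_t, pow_orderOf_eq_one]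
    refine ⟨D.r, D.comm_t D.mem_r, D.r_inv.1, D.r_inv.2, ?_, ?_, ?_⟩
    · rw [D.r_sq, show (X.top D).t = D.t from rfl, ht2]; exact one_mem _
    · rw [hs2]; exact one_mem _
    · have hsr : D.s * D.r = D.r * D.s * D.t := by
        have h := D.rs
        rw [mul_inv_eq_iff_eq_mul, mul_assoc, ← (D.comm_t D.mem_r).eq] at h
        rw [h, mul_assoc, mul_assoc, ht2, mul_one]
      rw [inv_eq_of_mul_eq_one_right hs2, hsr,
        show D.r * D.s * D.t * D.s * D.r = D.r * (D.s * D.t) * (D.s * D.r) by group,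
        (D.comm_t D.mem_s).eq, hsr,
        show D.r * (D.t * D.s) * (D.r * D.s * D.t) = D.r * D.t * (D.s * D.r) * (D.s * D.t) by group, hsr,
        show D.r * D.t * (D.r * D.s * D.t) * (D.s * D.t) = D.r * (D.t * D.r) * (D.s * D.t) * (D.s * D.t) by
          group, ← (D.comm_t D.mem_r).eq, ← mul_assoc D.r D.r, D.r_sq, ht2, one_mul,
        (D.comm_t D.mem_s).symm.mul_mul_mul_comm, hs2, ht2, one_mul]
      exact one_mem _

theorem XData.cover [Finite G] (X : XData D F K) : Nonempty (McLThree.Cover G (X.loc D)) := by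
  have hex : ∀ i, ∃ y : ↥(centralizer ({D.t} : Set G)), D.π y = pT i ∧ y ^ 3 = 1 := by
    intro i
    obtain ⟨x, hx⟩ := D.π_surj (pT i)
    have h3 : (x : G) ^ 3 ∈ zpowers D.t := by
      rw [← SubmonoidClass.coe_pow, ← D.π_ker, map_pow, hx, pT_facts.1]
    obtain ⟨k, hk⟩ := mem_zpowers_iff.1 h3
    refine ⟨x ^ 4, by rw [map_pow, hx, pow_succ, pT_facts.1, one_mul], Subtype.ext ?_⟩
    rw [SubmonoidClass.coe_pow, SubmonoidClass.coe_pow, OneMemClass.coe_one, ← pow_mul,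
      show 4 * 3 = 3 * 4 by rfl, pow_mul, ← hk, ← zpow_natCast, ← zpow_mul, mul_comm,
      show (((4 : ℕ) : ℤ) * k) = ((2 : ℕ) : ℤ) * (2 * k) by push_cast; ring, zpow_mul, zpow_natCast,
      ← D.ord_t, pow_orderOf_eq_one, one_zpow]
  choose y hy hy3 using hex
  have hodd : ∀ i, Odd (orderOf (y i : G)) := fun i => Odd.of_dvd_nat (show Odd 3 by decide)
    (orderOf_dvd_of_pow_eq_one (by rw [← SubmonoidClass.coe_pow, hy3]; rfl))
  have hz : (y 0 : G) = D.z := D.eq_of_odd (y 0) ⟨D.z, D.mem_z⟩ (hodd 0)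
    (by show Odd (orderOf D.z); rw [D.ord_z]; decide) (by rw [hy, D.pi_z, pT_facts.2.1])
  set T : Fin 6 → G := fun i => (y i : G) with hT
  have hquat : ∀ i j, i ≠ j → (T i * T j) * (T i * T j) = D.t := by
    intro i j hij
    refine D.dbl_quat (y i * y j) 0 ⟨i.1 + 2, by omega⟩ 1 ⟨j.1 + 2, by omega⟩ ?_ ?_
    · exact nodup_quad i j hij
    · rw [map_mul, hy, hy]; exact pT_facts.2.2.1 i j hij
  have ht : D.t ∈ closure (Set.range T) := by
    rw [← hquat 0 1 (by decide)]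
    exact mul_mem (mul_mem (subset_closure ⟨0, rfl⟩) (subset_closure ⟨1, rfl⟩))
      (mul_mem (subset_closure ⟨0, rfl⟩) (subset_closure ⟨1, rfl⟩))
  have hgen : centralizer ({D.t} : Set G) ≤ closure (Set.range T) := by
    intro x hx
    set U := closure (Set.range y) with hU
    have hmap : U.map D.π = ⊤ := by
      rw [hU, MonoidHom.map_closure, ← Set.range_comp, show D.π ∘ y = pT from funext hy, closure_pT]
    obtain ⟨v, hv, ev⟩ := (hmap ▸ mem_top (D.π ⟨x, hx⟩) : D.π ⟨x, hx⟩ ∈ U.map D.π)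
    have hv' : (v : G) ∈ closure (Set.range T) := by
      have := mem_map_of_mem (centralizer ({D.t} : Set G)).subtype hv
      rw [hU, MonoidHom.map_closure, ← Set.range_comp] at this
      exact this
    have hker := (D.π_ker (v⁻¹ * ⟨x, hx⟩)).1 (by rw [map_mul, map_inv, ev, inv_mul_cancel])
    rw [show x = (v : G) * ((v : G)⁻¹ * x) by group]
    exact mul_mem hv' (zpowers_le.2 ht hker)
  have hTC : closure (Set.range T) ≤ centralizer ({D.t} : Set G) := by
    rw [closure_le]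
    rintro _ ⟨i, rfl⟩
    exact (y i).2
  refine ⟨
    { T := T
      cube := fun i => by rw [hT, ← SubmonoidClass.coe_pow, hy3]; rfl
      quat := hquat
      comm := fun i => D.comm_t (y i).2
      Tz := hz
      Ta := ?_
      gen_t := le_antisymm (hgen.trans le_sup_left) (sup_le hTC inf_le_right)
      norm_T := hgen.trans le_normalizer }⟩
  show McLThree.val (Fin.snoc T 1) McLThree.wordA = D.b
  rw [val_wordA]
  refine D.eq_of_odd (y 1 * y 3 * y 0 * (y 2)⁻¹ * y 0 * (y 1 * y 3 * y 0 * (y 2)⁻¹)⁻¹) ⟨D.b, D.mem_b⟩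
    ?_ ?_ ?_
  · show Odd (orderOf (T 1 * T 3 * T 0 * (T 2)⁻¹ * T 0 * (T 1 * T 3 * T 0 * (T 2)⁻¹)⁻¹))
    rw [← MulAut.conj_apply, MulEquiv.orderOf_eq]
    exact hodd 0
  · show Odd (orderOf D.b); rw [D.ord_b]; decide
  · simp only [map_mul, map_inv, hy, D.pi_b]
    exact pT_facts.2.2.2

end CfsgLib.McLDouble
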