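import Cfsg.Agent.Lib.McLDouble.PermFacts
import Cfsg.Agent.Lib.McLThree.Words
import Cfsg.Agent.Lib.Recog.CarmichaelPresentation

/-!
# The centralizer of a three-cycle in `A₈` and the three-cycles `(0 1 k)`
-/

set_option autoImplicit false
set_option linter.unusedSectionVars false
set_option maxRecDepth 100000

namespace CfsgLib.McLDouble

open Subgroup Equiv

theorem pT_sign : ∀ i : Fin 6,
    Perm.sign (swap (0 : Fin (6 + 2)) 1 * swap 1 ⟨i.1 + 2, by omega⟩) = 1 := by decide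

/-- `(0 1 i + 2)` -/
def pT (i : Fin 6) : alternatingGroup (Fin (6 + 2)) :=
  ⟨swap 0 1 * swap 1 ⟨i.1 + 2, by omega⟩, Perm.mem_alternatingGroup.2 (pT_sign i)⟩

theorem pT_facts : (∀ i, pT i ^ 3 = 1) ∧ pT 0 = pz ∧
    (∀ i j, i ≠ j → ((pT i * pT j : alternatingGroup (Fin (6 + 2))) : Perm (Fin (6 + 2))) =
      swap 0 ⟨i.1 + 2, by omega⟩ * swap 1 ⟨j.1 + 2, by omega⟩) ∧
    pT 1 * pT 3 * pT 0 * (pT 2)⁻¹ * pT 0 * (pT 1 * pT 3 * pT 0 * (pT 2)⁻¹)⁻¹ = pb := by
  decide +kernel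

/-- The letters of `pT`. -/
def pL : Fin 7 → Perm (Fin (6 + 2)) := Fin.snoc (fun i => (pT i : Perm (Fin (6 + 2)))) 1

theorem pL_gen : ∀ i : Fin 6, ∃ w : List (Fin 14), w ∈ ([[0], [0, 8, 0], [1, 9, 1], [2, 10, 2],
    [3, 11, 3], [4, 12, 4]] : List (List (Fin 14))) ∧
      McLThree.val pL w = Recog.carmichaelGen 6 i := by
  decide +kernel

theorem closure_pT : closure (Set.range pT) = ⊤ := by
  rw [eq_top_iff]
  intro x _
  have hle : alternatingGroup (Fin (6 + 2)) ≤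
      (closure (Set.range pT)).map (alternatingGroup (Fin (6 + 2))).subtype := by
    refine (Recog.alternatingGroup_le_closure 6 (by norm_num)).trans ((closure_le _).2 ?_)
    rintro _ ⟨i, rfl⟩
    obtain ⟨w, -, hw⟩ := pL_gen i
    rw [← hw]
    have h : closure (Set.range pL) ≤
        (closure (Set.range pT)).map (alternatingGroup (Fin (6 + 2))).subtype := by
      rw [closure_le]
      rintro _ ⟨k, rfl⟩
      refine Fin.lastCases ?_ (fun j => ?_) k
      · rw [pL, Fin.snoc_last]; exact one_mem _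
      · rw [pL, Fin.snoc_castSucc]; exact ⟨pT j, subset_closure ⟨j, rfl⟩, rfl⟩
    exact h (McLThree.mem_range pL w)
  obtain ⟨y, hy, e⟩ := hle x.2
  rwa [← Subtype.ext e (a1 := y)]

/-- The action of the centralizer of `(0 1 2)` on `{3, …, 7}`. -/
theorem cent_pz_low {σ : alternatingGroup (Fin (6 + 2))} (h : Commute σ pz) (p : Fin (6 + 2)) :
    (3 ≤ ((σ : Perm (Fin (6 + 2))) p).1 ↔ 3 ≤ p.1) := by
  have k : ∀ q : Fin (6 + 2), (pz : Perm (Fin (6 + 2))) q = q ↔ 3 ≤ q.1 := by decide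
  rw [← k, ← k]
  have h1 : (pz : Perm (Fin (6 + 2))) ((σ : Perm (Fin (6 + 2))) p) =
      (σ : Perm (Fin (6 + 2))) ((pz : Perm (Fin (6 + 2))) p) :=
    (DFunLike.congr_fun (congrArg Subtype.val h.eq) p).symm
  rw [h1, (σ : Perm (Fin (6 + 2))).injective.eq_iff]

/-- The five points. -/
def five : Fin 5 ≃ {p : Fin (6 + 2) // 3 ≤ p.1} where
  toFun i := ⟨⟨i.1 + 3, by omega⟩, Nat.le_add_left 3 _⟩
  invFun p := ⟨p.1.1 - 3, by omega⟩
  left_inv i := Fin.ext (by simp)
  right_inv p := Subtype.ext (Fin.ext (Nat.sub_add_cancel p.2))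

/-- Restriction to `{3, …, 7}`. -/
def restFive : ↥(centralizer ({pz} : Set (alternatingGroup (Fin (6 + 2))))) →* Perm (Fin 5) where
  toFun σ := five.symm.permCongr ((σ.1 : Perm (Fin (6 + 2))).subtypePerm
    fun p => cent_pz_low (mem_centralizer_singleton_iff.1 σ.2) p)
  map_one' := by ext i; simp [Equiv.permCongr_apply]
  map_mul' σ τ := by ext i; simp [Equiv.permCongr_apply]

theorem restFive_val (σ : ↥(centralizer ({pz} : Set (alternatingGroup (Fin (6 + 2)))))) (i : Fin 5) :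
    (restFive σ i).1 + 3 = ((σ.1 : Perm (Fin (6 + 2))) ⟨i.1 + 3, by omega⟩).1 := by
  have h := (cent_pz_low (mem_centralizer_singleton_iff.1 σ.2) ⟨i.1 + 3, by omega⟩).2
    (Nat.le_add_left 3 _)
  show ((σ.1 : Perm (Fin (6 + 2))) ⟨i.1 + 3, by omega⟩).1 - 3 + 3 = _
  omega

/-- The exponent on `(0 1 2)`. -/
def restThree : ↥(centralizer ({pz} : Set (alternatingGroup (Fin (6 + 2))))) →*
    Multiplicative (ZMod 3) where
  toFun σ := Multiplicative.ofAdd (((σ.1 : Perm (Fin (6 + 2))) 0).1 : ZMod 3)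
  map_one' := rfl
  map_mul' σ τ := by
    have hs := mem_centralizer_singleton_iff.1 σ.2
    have hlt : ∀ ρ : ↥(centralizer ({pz} : Set (alternatingGroup (Fin (6 + 2))))),
        ((ρ.1 : Perm (Fin (6 + 2))) 0).1 < 3 := fun ρ => by
      have := (cent_pz_low (mem_centralizer_singleton_iff.1 ρ.2) 0).1
      simp only [Fin.val_zero] at this
      omega
    have hpow : ∀ j : Fin 3, ((pz : Perm (Fin (6 + 2))) ^ j.1) 0 = ⟨j.1, by omega⟩ := by decide
    have e0 : (τ.1 : Perm (Fin (6 + 2))) 0 =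
        ((pz : Perm (Fin (6 + 2))) ^ ((τ.1 : Perm (Fin (6 + 2))) 0).1) 0 :=
      (hpow ⟨_, hlt τ⟩).symm
    have e1 : (σ.1 : Perm (Fin (6 + 2))) ((τ.1 : Perm (Fin (6 + 2))) 0) =
        ((pz : Perm (Fin (6 + 2))) ^ ((τ.1 : Perm (Fin (6 + 2))) 0).1) ((σ.1 : Perm (Fin (6 + 2))) 0) := by
      have hc : Commute σ.1 pz := hs
      have := DFunLike.congr_fun (congrArg Subtype.val (hc.pow_right ((τ.1 : Perm (Fin (6 + 2))) 0).1).eq) 0
      simp only [Subgroup.coe_mul, Perm.mul_apply, SubmonoidClass.coe_pow] at this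
      rw [← this, ← e0]
    have hadd : ∀ a b : Fin 3, (((((pz : Perm (Fin (6 + 2))) ^ b.1)
        (Fin.castLE (show 3 ≤ 6 + 2 by decide) a)).1 : ℕ) : ZMod 3) =
        (a.1 : ZMod 3) + (b.1 : ZMod 3) := by decide
    show Multiplicative.ofAdd
        ((((σ.1 : Perm (Fin (6 + 2))) ((τ.1 : Perm (Fin (6 + 2))) 0)).1 : ℕ) : ZMod 3) = _
    rw [e1, ← ofAdd_add]
    exact congrArg _ (hadd ⟨_, hlt σ⟩ ⟨_, hlt τ⟩)

theorem restFive_range : alternatingGroup (Fin 5) ≤ restFive.range := by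
  intro τ hτ
  refine ⟨⟨⟨τ.extendDomain five, Perm.mem_alternatingGroup.2 ?_⟩, mem_centralizer_singleton_iff.2 ?_⟩, ?_⟩
  · rw [Perm.sign_extendDomain]; exact Perm.mem_alternatingGroup.1 hτ
  · apply Subtype.ext
    refine Perm.Disjoint.commute fun p => ?_
    by_cases hp : 3 ≤ p.1
    · exact Or.inr ((show ∀ q : Fin (6 + 2), 3 ≤ q.1 → (pz : Perm (Fin (6 + 2))) q = q by decide) p hp)
    · exact Or.inl (Perm.extendDomain_apply_not_subtype τ five hp)
  · ext i
    have h := restFive_val ⟨⟨τ.extendDomain five, Perm.mem_alternatingGroup.2 (by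
      rw [Perm.sign_extendDomain]; exact Perm.mem_alternatingGroup.1 hτ)⟩, mem_centralizer_singleton_iff.2
        (Subtype.ext (Perm.Disjoint.commute fun p => by
          by_cases hp : 3 ≤ p.1
          · exact Or.inr ((show ∀ q : Fin (6 + 2), 3 ≤ q.1 → (pz : Perm (Fin (6 + 2))) q = q by decide) p hp)
          · exact Or.inl (Perm.extendDomain_apply_not_subtype τ five hp)))⟩ i
    have e : τ.extendDomain five ⟨i.1 + 3, by omega⟩ = ⟨(τ i).1 + 3, by omega⟩ :=
      Perm.extendDomain_apply_image τ five i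
    simp only at h
    rw [e] at h
    exact Nat.add_right_cancel h

theorem restFive_eq_one {σ : ↥(centralizer ({pz} : Set (alternatingGroup (Fin (6 + 2)))))}
    (h : restFive σ = 1) : ∃ j : Fin 3, σ.1 = pz ^ (j : ℕ) := by
  have hfix : ∀ p : Fin (6 + 2), 3 ≤ p.1 → (σ.1 : Perm (Fin (6 + 2))) p = p := fun p hp => by
    have h1 := restFive_val σ ⟨p.1 - 3, by omega⟩
    rw [h] at h1
    simp only [Perm.one_apply] at h1
    apply Fin.ext
    have e : (⟨p.1 - 3 + 3, by omega⟩ : Fin (6 + 2)) = p := Fin.ext (by show p.1 - 3 + 3 = p.1; omega)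
    rw [e] at h1
    omega
  have hb : Commute σ.1 pb := by
    apply Subtype.ext
    refine Perm.Disjoint.commute fun p => ?_
    by_cases hp : 3 ≤ p.1
    · exact Or.inl (hfix p hp)
    · exact Or.inr ((show ∀ q : Fin (6 + 2), ¬ 3 ≤ q.1 → (pb : Perm (Fin (6 + 2))) q = q by decide) p hp)
  obtain ⟨i, j, e⟩ := commute_pz_pb (mem_centralizer_singleton_iff.1 σ.2) hb
  refine ⟨i, ?_⟩
  have h3 := hfix 3 (by decide)
  rw [e] at h3
  have key : ∀ i j : Fin 3, ((pz ^ (i : ℕ) * pb ^ (j : ℕ) : alternatingGroup (Fin (6 + 2))) :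
      Perm (Fin (6 + 2))) 3 = 3 → (pz ^ (i : ℕ) * pb ^ (j : ℕ)) = pz ^ (i : ℕ) := by decide +kernel
  rw [e, key i j h3]

end CfsgLib.McLDouble
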