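import Cfsg.Agent.Lib.McLDouble.CentWBase

/-!
# The centraliser of `w` has order `972`

An involution outside `N(J)` shares its coset of `Y ∩ N(J)` with at most `25` others, since no element of
`Y ∩ N(J)` of odd order outside `J` acts trivially modulo `⟨w⟩` on a subgroup of order `27` of `J`.
The count of involutions then leaves one coset.
-/

set_option autoImplicit false

namespace CfsgLib.McLDouble.CentW

open Subgroup Three9

universe u

variable {G : Type u} [Group G] [Finite G] {D : Cov G} {F : Fused D}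

/-- `y` acts trivially modulo `⟨w⟩` on a large subgroup of `J`. -/
def Thin (J : JData D F) (y : G) : Prop :=
  ∃ A : Subgroup G, A ≤ J.J ∧ 27 ≤ Nat.card A ∧ ∀ f ∈ A, y * f * y⁻¹ * f⁻¹ ∈ zpowers D.w

theorem card_mul_le_mul_inf {A B P : Subgroup G} (hA : A ≤ P) (hB : B ≤ P) :
    Nat.card A * Nat.card B ≤ Nat.card P * Nat.card (A ⊓ B : Subgroup G) := by
  have h1 : Nat.card (A ⊓ B : Subgroup G) * A.relIndex B = Nat.card B := by
    rw [← relIndex_bot_left, ← inf_relIndex_right A B, relIndex_mul_relIndex _ _ _ bot_le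
      inf_le_right, relIndex_bot_left]
  have h2 : Nat.card A * A.relIndex P = Nat.card P := by
    rw [← relIndex_bot_left, relIndex_mul_relIndex _ _ _ bot_le hA, relIndex_bot_left]
  have h3 : A.relIndex B ≤ A.relIndex P := by
    refine relIndex_le_of_le_right hB ?_
    intro h
    rw [h, mul_zero] at h2
    exact Nat.card_pos.ne h2
  rw [← h1, ← h2]
  calc Nat.card A * (Nat.card (A ⊓ B : Subgroup G) * A.relIndex B)
      ≤ Nat.card A * (Nat.card (A ⊓ B : Subgroup G) * A.relIndex P) :=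
        Nat.mul_le_mul_left _ (Nat.mul_le_mul_left _ h3)
    _ = _ := by ring

theorem not_thin_x (J : JData D F) : ¬ Thin J F.x := by
  classical
  rintro ⟨A, hAJ, h27, hA⟩
  have hx : ∀ a ∈ J.J, F.x * a * F.x⁻¹ ∈ J.J := fun a ha => (mem_normalizer_iff.1 J.xJ a).1 ha
  let ψ : J.J →* G := MonoidHom.mk' (fun a => F.x * (a : G) * F.x⁻¹ * (a : G)⁻¹) fun a c => by
    show F.x * ((a : G) * c) * F.x⁻¹ * ((a : G) * c)⁻¹ =
      F.x * a * F.x⁻¹ * (a : G)⁻¹ * (F.x * c * F.x⁻¹ * (c : G)⁻¹)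
    have h := J.commJ (F.x * c * F.x⁻¹ * (c : G)⁻¹)
      (mul_mem (hx _ c.2) (inv_mem c.2)) (a : G)⁻¹ (inv_mem a.2)
    calc F.x * ((a : G) * c) * F.x⁻¹ * ((a : G) * c)⁻¹
        = F.x * a * F.x⁻¹ * (F.x * c * F.x⁻¹ * (c : G)⁻¹ * (a : G)⁻¹) := by group
      _ = _ := by rw [h]; group
  have hψJ : ∀ a : J.J, ψ a ∈ J.J := fun a => mul_mem (hx _ a.2) (inv_mem a.2)
  have hψW : ∀ a : J.J, (a : G) ∈ A → ψ a ∈ D.E := fun a ha =>
    zpowers_le.2 (w_mem_E D) (hA _ ha)
  let Φ : J.J × D.E →* G := MonoidHom.noncommCoprod ψ D.E.subtype fun a e =>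
    J.commJ _ (hψJ a) _ (E_le_J J e.2)
  have hΦ : ∀ a : J.J, ∀ e : D.E, Φ (a, e) = ψ a * (e : G) := fun a e => rfl
  set S : Subgroup G := Φ.range with hS
  -- size of `S`
  have hS27 : Nat.card S ≤ 27 := by
    set A' := A.subgroupOf J.J with hA'
    have hidx : A'.index ≤ 3 := by
      have h1 := card_mul_index A'
      rw [Nat.card_congr (subgroupOfEquivOfLe hAJ).toEquiv, J.cardJ] at h1
      have h2 := Nat.mul_le_mul_right A'.index h27
      rw [h1] at h2
      omega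
    let f : (J.J ⧸ A') × D.E → S := fun p => ⟨Φ (p.1.out, p.2), ⟨_, rfl⟩⟩
    have hf : Function.Surjective f := by
      rintro ⟨_, ⟨a, e⟩, rfl⟩
      obtain ⟨c, hc⟩ := QuotientGroup.mk_out_eq_mul A' a
      refine ⟨((a : J.J ⧸ A'), ⟨ψ (c : J.J)⁻¹ * e, mul_mem (hψW _ (inv_mem c.2)) e.2⟩),
        Subtype.ext ?_⟩
      show Φ (_, _) = Φ (a, e)
      rw [hΦ, hΦ, hc, map_mul]
      show ψ a * ψ (c : J.J) * (ψ (c : J.J)⁻¹ * (e : G)) = _
      rw [map_inv]; group
    have := Nat.card_le_card_of_surjective f hf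
    rw [Nat.card_prod, ← index_eq_card, D.card_E.1] at this
    exact this.trans (Nat.mul_le_mul_right 9 hidx)
  have hES : D.E ≤ S := fun e he => ⟨(1, ⟨e, he⟩), by rw [hΦ, map_one, one_mul]⟩
  have hxS : ∀ v ∈ S, F.x * v * F.x⁻¹ ∈ S := by
    rintro _ ⟨⟨a, e⟩, rfl⟩
    refine ⟨(⟨F.x * a * F.x⁻¹, hx _ a.2⟩ * ⟨e, E_le_J J e.2⟩, e), ?_⟩
    rw [hΦ, hΦ, map_mul]
    show F.x * (F.x * a * F.x⁻¹) * F.x⁻¹ * (F.x * a * F.x⁻¹)⁻¹ *
      (F.x * (e : G) * F.x⁻¹ * (e : G)⁻¹) * e = F.x * (F.x * a * F.x⁻¹ * (a : G)⁻¹ * e) * F.x⁻¹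
    group
  have hback : ∀ a ∈ J.J, F.x⁻¹ * a * F.x ∈ J.J := fun a ha => by
    simpa using (mem_normalizer_iff.1 (inv_mem J.xJ) a).1 ha
  have hshift : ∀ a : G, ∀ i j : G, F.x * i * F.x⁻¹ = j → Commute a j →
      Commute (F.x⁻¹ * a * F.x) i := fun a i j hij h => by
    show F.x⁻¹ * a * F.x * i = i * (F.x⁻¹ * a * F.x)
    calc F.x⁻¹ * a * F.x * i = F.x⁻¹ * (a * (F.x * i * F.x⁻¹)) * F.x := by group
      _ = F.x⁻¹ * (F.x * i * F.x⁻¹ * a) * F.x := by rw [hij, h.eq]
      _ = _ := by group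
  set St := J.J ⊓ centralizer ({D.t} : Set G) with hSt
  set Ss := J.J ⊓ centralizer ({D.s} : Set G) with hSs
  set Sts := J.J ⊓ centralizer ({D.t * D.s} : Set G) with hSts
  have h1 : St ≤ S := by rw [hSt, J_inf_t]; exact hES
  have h2 : Ss ≤ S := fun a ha => by
    have := hshift a D.t D.s F.xt (mem_centralizer_singleton_iff.1 ha.2)
    have hm := hxS _ (h1 ⟨hback a ha.1, (mem_C D).2 this⟩)
    rwa [show F.x * (F.x⁻¹ * a * F.x) * F.x⁻¹ = a by group] at hm
  have h3 : Sts ≤ S := fun a ha => by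
    have := hshift a D.s (D.t * D.s) (by rw [F.xs, (comm_ts D).eq])
      (mem_centralizer_singleton_iff.1 ha.2)
    have hm := hxS _ (h2 ⟨hback a ha.1, mem_centralizer_singleton_iff.2 this.eq⟩)
    rwa [show F.x * (F.x⁻¹ * a * F.x) * F.x⁻¹ = a by group] at hm
  set K := St ⊔ Ss ⊔ Sts with hK
  have hKJ : K ≤ J.J := sup_le (sup_le inf_le_left inf_le_left) inf_le_left
  have hinv : ∀ v : G, v ∈ normalizer (J.J : Set G) → Commute v D.t → Commute v D.s →
      ∀ q ∈ K, v * q * v⁻¹ ∈ K := by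
    intro v hv hvt hvs
    have key : ∀ i : G, Commute v i → J.J ⊓ centralizer ({i} : Set G) ≤ K →
        J.J ⊓ centralizer ({i} : Set G) ≤ K.comap (MulAut.conj v).toMonoidHom := by
      intro i hi hle q hq
      refine hle ⟨(mem_normalizer_iff.1 hv q).1 hq.1, mem_centralizer_singleton_iff.2 ?_⟩
      have hqi : Commute q i := mem_centralizer_singleton_iff.1 hq.2
      exact ((hi.mul_left hqi).mul_left hi.inv_left).eq
    have hle : K ≤ K.comap (MulAut.conj v).toMonoidHom :=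
      sup_le (sup_le (key _ hvt (le_sup_left.trans le_sup_left))
        (key _ hvs (le_sup_right.trans le_sup_left))) (key _ (hvt.mul_right hvs) le_sup_right)
    exact fun q hq => hle hq
  have hKodd : Odd (Nat.card K) := (J_odd J).of_dvd_nat (card_dvd_of_le hKJ)
  have fK := CentFour.four_formula_subgroup K hKodd (tt D) (ss D) (comm_ts D)
    (hinv _ J.tJ (Commute.refl _) (comm_ts D)) (hinv _ J.sJ (comm_ts D).symm (Commute.refl _))
  have fJ := CentFour.four_formula_subgroup J.J (J_odd J) (tt D) (ss D) (comm_ts D)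
    (fun a ha => (mem_normalizer_iff.1 J.tJ a).1 ha) (fun a ha => (mem_normalizer_iff.1 J.sJ a).1 ha)
  have e1 : K ⊓ centralizer ({D.t} : Set G) = J.J ⊓ centralizer ({D.t} : Set G) :=
    le_antisymm (inf_le_inf_right _ hKJ) (le_inf (le_sup_left.trans le_sup_left) inf_le_right)
  have e2 : K ⊓ centralizer ({D.s} : Set G) = J.J ⊓ centralizer ({D.s} : Set G) :=
    le_antisymm (inf_le_inf_right _ hKJ) (le_inf (le_sup_right.trans le_sup_left) inf_le_right)
  have e3 : K ⊓ centralizer ({D.t * D.s} : Set G) = J.J ⊓ centralizer ({D.t * D.s} : Set G) :=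
    le_antisymm (inf_le_inf_right _ hKJ) (le_inf le_sup_right inf_le_right)
  have e4 : K ⊓ centralizer ({D.t, D.s} : Set G) = J.J ⊓ centralizer ({D.t, D.s} : Set G) :=
    le_antisymm (inf_le_inf_right _ hKJ) (le_inf ((inf_le_inf_left _
      (centralizer_le (Set.singleton_subset_iff.2 (Set.mem_insert _ _)))).trans
      (le_sup_left.trans le_sup_left)) inf_le_right)
  rw [e1, e2, e3, e4, ← fJ] at fK
  have hK81 : Nat.card K = 81 := by
    rw [← J.cardJ]
    exact Nat.eq_of_mul_eq_mul_right (pow_pos Nat.card_pos 2) fK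
  have hKS : K ≤ S := sup_le (sup_le h1 h2) h3
  have := (card_le_of_le hKS).trans hS27
  rw [hK81] at this
  omega

theorem pdvd243 (J : JData D F) {P : Subgroup G} (hP : P ≤ NJ J) (hp : IsPGroup 3 P) :
    Nat.card P ∣ 243 := by
  haveI : Fact (Nat.Prime 3) := ⟨Nat.prime_three⟩
  obtain ⟨n, hn⟩ := hp.exists_card_eq
  have h : 3 ^ n ∣ 243 * 4 := by
    rw [← hn, show 243 * 4 = 972 by norm_num, ← card_NJ J]
    exact card_dvd_of_le hP
  rw [hn]
  exact (Nat.Coprime.pow_left n (by norm_num)).dvd_of_dvd_mul_right h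

theorem odd_isPGroup (J : JData D F) {P : Subgroup G} (hP : P ≤ NJ J)
    (hodd : Odd (Nat.card P)) : IsPGroup 3 P := by
  haveI : Fact (Nat.Prime 3) := ⟨Nat.prime_three⟩
  have h : Nat.card P ∣ 243 * 4 := by
    rw [show 243 * 4 = 972 by norm_num, ← card_NJ J]
    exact card_dvd_of_le hP
  have h' : Nat.card P ∣ 3 ^ 5 :=
    (show Nat.Coprime (Nat.card P) 4 from
      (Nat.coprime_two_right.2 hodd).pow_right 2).dvd_of_dvd_mul_right h
  obtain ⟨k, -, hk⟩ := (Nat.dvd_prime_pow Nat.prime_three).1 h'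
  exact IsPGroup.of_card hk

theorem J_le_of_card (J : JData D F) {P : Subgroup G} (hP : P ≤ NJ J)
    (h243 : Nat.card P = 243) : J.J ≤ P := by
  haveI : Fact (Nat.Prime 3) := ⟨Nat.prime_three⟩
  have hPp : IsPGroup 3 P := IsPGroup.of_card (n := 5) (by rw [h243]; norm_num)
  have hJp : IsPGroup 3 J.J := IsPGroup.of_card (n := 4) (by rw [J.cardJ]; norm_num)
  have hsup := hJp.to_sup_of_normal_left' hPp (hP.trans inf_le_right)
  have h := Nat.le_of_dvd (by norm_num) (pdvd243 J (sup_le (J_le_NJ J) hP) hsup)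
  exact le_sup_left.trans (eq_of_le_of_card_ge le_sup_right (h243 ▸ h)).ge

theorem x_not_mem (J : JData D F) : F.x ∉ J.J := fun hx => by
  have h1 : D.s * D.t⁻¹ ∈ J.J := by
    rw [← F.xt, show F.x * D.t * F.x⁻¹ * D.t⁻¹ = F.x * (D.t * F.x⁻¹ * D.t⁻¹) by group]
    exact mul_mem hx ((mem_normalizer_iff.1 J.tJ _).1 (inv_mem hx))
  have h2 : (D.s * D.t⁻¹) ^ 2 = 1 := by
    rw [(comm_ts D).symm.inv_right.mul_pow, inv_pow, sq, sq, ss, tt, inv_one, one_mul]
  have h3 := J.expJ _ h1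
  rw [pow_succ, h2, one_mul, mul_inv_eq_one] at h3
  exact D.s_ne h3

/-- No element of odd order of `Y ∩ N(J)` outside `J` is thin. -/
theorem not_thin (J : JData D F) {y : G} (hy : y ∈ NJ J) (hodd : Odd (orderOf y))
    (hyJ : y ∉ J.J) : ¬ Thin J y := by
  intro hth
  haveI : Fact (Nat.Prime 3) := ⟨Nat.prime_three⟩
  set P := J.J ⊔ zpowers F.x with hP
  have hPN : P ≤ NJ J := sup_le (J_le_NJ J) (zpowers_le.2 (x_mem_NJ J))
  obtain ⟨m, hm⟩ := F.xord
  have hJp : IsPGroup 3 J.J := IsPGroup.of_card (n := 4) (by rw [J.cardJ]; norm_num)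
  have hPp : IsPGroup 3 P := hJp.to_sup_of_normal_left'
    (IsPGroup.of_card (n := m) (by rw [Nat.card_zpowers, hm])) (zpowers_le.2 J.xJ)
  have hPc : Nat.card P = 243 := by
    obtain ⟨n, hn5, hn⟩ := (Nat.dvd_prime_pow Nat.prime_three).1
      (show Nat.card P ∣ 3 ^ 5 from pdvd243 J hPN hPp)
    rcases Nat.eq_or_lt_of_le hn5 with h | h
    · rw [hn, h]; norm_num
    · exfalso
      refine x_not_mem J ((eq_of_le_of_card_ge (le_sup_left : J.J ≤ P) ?_).ge
        (mem_sup_right (mem_zpowers _)))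
      rw [J.cardJ, hn]
      exact Nat.pow_le_pow_right (n := 3) (by norm_num) (show n ≤ 4 by omega)
  -- `y` is moved into `P`
  let R : Sylow 3 (NJ J) := Sylow.ofCard (P.subgroupOf (NJ J)) (by
    rw [Nat.card_congr (subgroupOfEquivOfLe hPN).toEquiv, hPc, card_NJ,
      show (972 : ℕ) = 3 ^ 5 * 4 by norm_num, Nat.factorization_mul (by norm_num) (by norm_num),
      Finsupp.add_apply, Nat.prime_three.factorization_pow, Finsupp.single_eq_same,
      Nat.factorization_eq_zero_of_not_dvd (by norm_num : ¬ 3 ∣ 4)]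
    norm_num)
  have hyp : IsPGroup 3 ((zpowers y).subgroupOf (NJ J)) :=
    (odd_isPGroup J (zpowers_le.2 hy) (by rwa [Nat.card_zpowers])).comap_subtype
  obtain ⟨Q, hQ⟩ := hyp.exists_le_sylow
  obtain ⟨g, hg⟩ := MulAction.exists_smul_eq (NJ J) Q R
  have hgy : (g : G) * y * (g : G)⁻¹ ∈ P := by
    have hmem : MulAut.conj g ⟨y, hy⟩ ∈ ((g • Q : Sylow 3 (NJ J)) : Subgroup (NJ J)) :=
      ⟨⟨y, hy⟩, hQ (mem_zpowers y), rfl⟩
    rw [hg] at hmem
    exact hmem
  -- thinness is kept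
  obtain ⟨A, hAJ, h27, hA⟩ := hth
  have hgw : Commute (g : G) D.w := mem_centralizer_singleton_iff.1 g.2.1
  have hth' : Thin J ((g : G) * y * (g : G)⁻¹) := by
    refine ⟨A.map (MulAut.conj (g : G)).toMonoidHom, ?_, ?_, ?_⟩
    · rintro _ ⟨f, hf, rfl⟩
      exact (mem_normalizer_iff.1 g.2.2 f).1 (hAJ hf)
    · rwa [card_map_of_injective (MulAut.conj (g : G)).injective]
    · rintro _ ⟨f, hf, rfl⟩
      obtain ⟨i, hi⟩ := mem_zpowers_iff.1 (hA f hf)
      refine mem_zpowers_iff.2 ⟨i, ?_⟩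
      show D.w ^ i = g * y * (g : G)⁻¹ * (g * f * (g : G)⁻¹) * (g * y * (g : G)⁻¹)⁻¹ *
        (g * f * (g : G)⁻¹)⁻¹
      calc D.w ^ i = g * D.w ^ i * (g : G)⁻¹ := by rw [(hgw.zpow_right i).eq, mul_inv_cancel_right]
        _ = _ := by rw [hi]; group
  -- the cosets of `J` in `P`
  set N' := J.J.subgroupOf P with hN'
  haveI : N'.Normal := normal_subgroupOf_of_le_normalizer (hPN.trans inf_le_right)
  have hidx : N'.index = 3 := by
    have h := card_mul_index N'
    rw [Nat.card_congr (subgroupOfEquivOfLe (le_sup_left : J.J ≤ P)).toEquiv, J.cardJ, hPc] at h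
    omega
  have hx3 : F.x ^ 3 ∈ J.J := by
    have h := pow_index_mem N' (⟨F.x, mem_sup_right (mem_zpowers _)⟩ : P)
    rw [hidx] at h
    exact h
  rw [← SetLike.mem_coe, hP,
    coe_mul_of_right_le_normalizer_left J.J (zpowers F.x) (zpowers_le.2 J.xJ)] at hgy
  obtain ⟨j, hj, v, hv, hjv⟩ := Set.mem_mul.1 hgy
  rw [SetLike.mem_coe] at hj hv
  obtain ⟨i, rfl⟩ := mem_zpowers_iff.1 hv
  obtain ⟨q, r, hr, rfl⟩ : ∃ q r : ℤ, (r = 0 ∨ r = 1 ∨ r = -1) ∧ i = 3 * q + r :=
    ⟨(i + 1) / 3, (i + 1) % 3 - 1, by omega, by omega⟩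
  rw [zpow_add, ← mul_assoc] at hjv
  set j' := j * F.x ^ (3 * q) with hj'
  have hj'J : j' ∈ J.J := mul_mem hj (by
    rw [zpow_mul]; exact zpow_mem (by rwa [zpow_ofNat]) q)
  rw [← hjv] at hth'
  obtain ⟨B, hBJ, hB27, hB⟩ := hth'
  -- multiplying by `J` does not matter
  have hBx : ∀ f ∈ B, F.x ^ r * f * (F.x ^ r)⁻¹ * f⁻¹ ∈ zpowers D.w := by
    intro f hf
    have hm : F.x ^ r * f * (F.x ^ r)⁻¹ ∈ J.J :=
      (mem_normalizer_iff.1 (zpow_mem J.xJ r) f).1 (hBJ hf)
    have h := hB f hf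
    rwa [show j' * F.x ^ r * f * (j' * F.x ^ r)⁻¹ * f⁻¹ =
        j' * (F.x ^ r * f * (F.x ^ r)⁻¹) * j'⁻¹ * f⁻¹ by group,
      J.commJ _ hj'J _ hm, mul_inv_cancel_right] at h
  rcases hr with rfl | rfl | rfl
  · rw [zpow_zero, mul_one] at hjv
    exact hyJ ((mem_normalizer_iff.1 g.2.2 y).2 (hjv ▸ hj'J))
  · exact not_thin_x J ⟨B, hBJ, hB27, fun f hf => by simpa using hBx f hf⟩
  · refine not_thin_x J ⟨B, hBJ, hB27, fun f hf => ?_⟩
    have h := hBx f hf
    rw [zpow_neg_one, inv_inv] at h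
    obtain ⟨k, hk⟩ := mem_zpowers_iff.1 (inv_mem h)
    refine mem_zpowers_iff.2 ⟨k, ?_⟩
    calc D.w ^ k = F.x * D.w ^ k * F.x⁻¹ := by
          rw [(F.xw.zpow_right k).eq, mul_inv_cancel_right]
      _ = _ := by rw [hk]; group

/-- An element of `Y` moving an involution of `Y ∩ N(J)` into this group lies in it. -/
theorem fusion (J : JData D F) {i g : G} (hi : i ∈ NJ J) (ho : orderOf i = 2)
    (hg : g ∈ centralizer ({D.w} : Set G)) (hgi : g * i * g⁻¹ ∈ NJ J) : g ∈ NJ J := by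
  obtain ⟨h, hh, he⟩ := invol_conj inf_le_left (four_le_NJ' J) (x_mem_NJ J) hi ho
  obtain ⟨k, hk, hke⟩ := invol_conj inf_le_left (four_le_NJ' J) (x_mem_NJ J) hgi
    (by rw [← MulAut.conj_apply, MulEquiv.orderOf_eq, ho])
  have hc : k⁻¹ * g * h ∈ NJ J := by
    refine Ct_le_NJ J ⟨mul_mem (mul_mem ((inv_mem hk : k⁻¹ ∈ NJ J)).1 hg) hh.1, (mem_C D).2 ?_⟩
    show k⁻¹ * g * h * D.t = D.t * (k⁻¹ * g * h)
    calc k⁻¹ * g * h * D.t = k⁻¹ * (g * (h * D.t * h⁻¹) * g⁻¹) * g * h := by group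
      _ = k⁻¹ * (k * D.t * k⁻¹) * g * h := by rw [he, hke]
      _ = _ := by group
  have := mul_mem (mul_mem hk hc) (inv_mem hh)
  rwa [show k * (k⁻¹ * g * h) * h⁻¹ = g by group] at this

theorem invol_sq {a : G} (ha : orderOf a = 2) : a⁻¹ = a := by
  apply inv_eq_of_mul_eq_one_right
  rw [← sq, ← ha]
  exact pow_orderOf_eq_one a

/-- An involution outside `N(J)` inverts fewer than `27` elements `d` with `d, dᵃ ∈ N(J)`. -/
theorem fibre_le (J : JData D F) {a : G} (ha : a ∈ centralizer ({D.w} : Set G))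
    (ho : orderOf a = 2) (han : a ∉ NJ J) :
    Nat.card {d : G // d ∈ NJ J ∧ a * d * a⁻¹ = d⁻¹} ≤ 26 := by
  classical
  haveI : Fact (Nat.Prime 2) := ⟨Nat.prime_two⟩
  haveI : Fact (Nat.Prime 3) := ⟨Nat.prime_three⟩
  set P := NJ J ⊓ (NJ J).comap (MulAut.conj a).toMonoidHom with hP
  have hPN : P ≤ NJ J := inf_le_left
  have hinv : a⁻¹ = a := invol_sq ho
  have hPa : ∀ d ∈ P, a * d * a⁻¹ ∈ P := by
    rintro d ⟨hd, hd'⟩
    refine ⟨hd', ?_⟩
    show a * (a * d * a⁻¹) * a⁻¹ ∈ NJ J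
    rwa [show a * (a * d * a⁻¹) * a⁻¹ = d by
      calc a * (a * d * a⁻¹) * a⁻¹ = a⁻¹ * (a * d * a⁻¹) * a := by rw [hinv]
        _ = d := by group]
  have haw : Commute a D.w := mem_centralizer_singleton_iff.1 ha
  have hodd : Odd (Nat.card P) := by
    by_contra hev
    rw [Nat.not_odd_iff_even, even_iff_two_dvd] at hev
    obtain ⟨i, hi⟩ := exists_prime_orderOf_dvd_card' (G := P) 2 hev
    exact han (fusion J i.2.1 (by rwa [orderOf_coe]) ha i.2.2)
  have hPp := odd_isPGroup J hPN hodd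
  have hwP : zpowers D.w ≤ P := zpowers_le.2
    ⟨J_le_NJ J (E_le_J J (w_mem_E D)), by
      show a * D.w * a⁻¹ ∈ NJ J
      rw [haw.eq, mul_inv_cancel_right]
      exact J_le_NJ J (E_le_J J (w_mem_E D))⟩
  set W' := (zpowers D.w).subgroupOf P with hW'
  have hidx : 3 * W'.index = Nat.card P := by
    rw [← card_mul_index W', Nat.card_congr (subgroupOfEquivOfLe hwP).toEquiv, Nat.card_zpowers,
      w_ord]
  have hmem : ∀ d : {d : G // d ∈ NJ J ∧ a * d * a⁻¹ = d⁻¹}, (d : G) ∈ P := fun d =>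
    ⟨d.2.1, show a * (d : G) * a⁻¹ ∈ NJ J from d.2.2 ▸ inv_mem d.2.1⟩
  let f : {d : G // d ∈ NJ J ∧ a * d * a⁻¹ = d⁻¹} → P ⧸ W' := fun d =>
    ((⟨(d : G), hmem d⟩ : P) : P ⧸ W')
  have hf : Function.Injective f := by
    intro d e hde
    have hc : (d : G)⁻¹ * (e : G) ∈ zpowers D.w :=
      (QuotientGroup.eq (a := (⟨(d : G), hmem d⟩ : P)) (b := ⟨(e : G), hmem e⟩)).1 hde
    set c := (d : G)⁻¹ * (e : G) with hcdef
    obtain ⟨i, hi⟩ := mem_zpowers_iff.1 hc
    have hdc : Commute (d : G) c := by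
      rw [← hi]; exact Commute.zpow_right (mem_centralizer_singleton_iff.1 d.2.1.1) i
    have hac : Commute a c := by rw [← hi]; exact haw.zpow_right i
    have hec : (e : G) = d * c := by rw [hcdef]; group
    have h := e.2.2
    rw [hec] at h
    have h1 : a * ((d : G) * c) * a⁻¹ = (d : G)⁻¹ * c := by
      calc a * ((d : G) * c) * a⁻¹ = a * d * a⁻¹ * (a * c * a⁻¹) := by group
        _ = _ := by rw [d.2.2, hac.eq, mul_inv_cancel_right]
    rw [h1, mul_inv_rev, ← hdc.inv_inv.eq] at h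
    have h2 := mul_left_cancel h
    have h3 : c = 1 := by
      have hc3 : c ^ 3 = 1 := by
        rw [← hi, ← zpow_natCast, ← zpow_mul, mul_comm, zpow_mul, zpow_natCast, w_cube, one_zpow]
      have hc2 : c * c = 1 := by
        calc c * c = c * c⁻¹ := by rw [← h2]
          _ = 1 := mul_inv_cancel c
      rwa [pow_succ, sq, hc2, one_mul] at hc3
    exact Subtype.ext (by rw [hec, h3, mul_one])
  have hle := Nat.card_le_card_of_injective f hf
  rw [← index_eq_card] at hle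
  by_contra hbig
  push Not at hbig
  obtain ⟨n, hn5, hn⟩ := (Nat.dvd_prime_pow Nat.prime_three).1
    (show Nat.card P ∣ 3 ^ 5 from pdvd243 J hPN hPp)
  have hn4 : 4 ≤ n := by
    by_contra hh
    have : (3 : ℕ) ^ n ≤ 3 ^ 3 := Nat.pow_le_pow_right (by norm_num) (by omega)
    omega
  have hPodd : ∀ y ∈ P, Odd (orderOf y) := fun y hy =>
    hodd.of_dvd_nat (Subgroup.orderOf_dvd_natCard _ hy)
  have hnorm : J.J.map (MulAut.conj a).toMonoidHom ≤ J.J → False := fun h => by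
    refine han ⟨ha, ?_⟩
    show a ∈ normalizer (J.J : Set G)
    rw [mem_normalizer_iff_map_conj_eq]
    exact eq_of_le_of_card_ge h (card_map_of_injective (MulAut.conj a).injective).ge
  rcases Nat.eq_or_lt_of_le hn5 with rfl | hn5
  · -- the group is a Sylow subgroup
    have h243 : Nat.card P = 243 := by rw [hn]; norm_num
    have hJP := J_le_of_card J hPN h243
    set J' := J.J.map (MulAut.conj a).toMonoidHom with hJ'
    have hJ'P : J' ≤ P := by
      rintro _ ⟨v, hv, rfl⟩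
      exact hPa v (hJP hv)
    have hnot : ¬ J' ≤ J.J := hnorm
    obtain ⟨y, hy, hyJ⟩ := SetLike.not_le_iff_exists.1 hnot
    refine not_thin J (hPN (hJ'P hy)) (hPodd _ (hJ'P hy)) hyJ ⟨J.J ⊓ J', inf_le_left, ?_, ?_⟩
    · have h := card_mul_le_mul_inf hJP hJ'P
      rw [hJ', card_map_of_injective (MulAut.conj a).injective, J.cardJ, h243] at h
      rw [hJ']
      omega
    · intro f hfm
      obtain ⟨y0, hy0, rfl⟩ := hy
      obtain ⟨f0, hf0, hf0e⟩ := hfm.2
      rw [← hf0e, ← map_inv, ← map_inv, ← map_mul, ← map_mul, ← map_mul,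
        J.commJ _ hy0 _ hf0, mul_inv_cancel_right, mul_inv_cancel, map_one]
      exact one_mem _
  · have hn4' : n = 4 := by omega
    subst hn4'
    have h81 : Nat.card P = 81 := by rw [hn]; norm_num
    have hnot : ¬ P ≤ J.J := fun h => by
      have he := eq_of_le_of_card_ge h (by rw [J.cardJ, h81])
      refine hnorm ?_
      rintro _ ⟨v, hv, rfl⟩
      exact he ▸ hPa v (he ▸ hv)
    have hsur : Function.Surjective f := by
      refine ((Nat.bijective_iff_injective_and_card f).2 ⟨hf, ?_⟩).2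
      rw [← index_eq_card]
      omega
    have hW : ∀ d ∈ P, a * d * a⁻¹ * d ∈ zpowers D.w := by
      intro d hd
      obtain ⟨e, he⟩ := hsur ((⟨d, hd⟩ : P) : P ⧸ W')
      have hc : (e : G)⁻¹ * d ∈ zpowers D.w :=
        (QuotientGroup.eq (a := (⟨(e : G), hmem e⟩ : P)) (b := ⟨d, hd⟩)).1 he
      obtain ⟨i, hi⟩ := mem_zpowers_iff.1 hc
      have hd' : d = e * D.w ^ i := by rw [hi]; group
      have hew : Commute (e : G) (D.w ^ i) :=
        Commute.zpow_right (mem_centralizer_singleton_iff.1 e.2.1.1) i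
      have : a * d * a⁻¹ * d = D.w ^ i * D.w ^ i := by
        calc a * d * a⁻¹ * d = a * e * a⁻¹ * (a * D.w ^ i * a⁻¹) * (e * D.w ^ i) := by
              rw [hd']; group
          _ = (e : G)⁻¹ * D.w ^ i * (D.w ^ i * e) := by
              rw [e.2.2, (haw.zpow_right i).eq, mul_inv_cancel_right, hew.eq]
          _ = (e : G)⁻¹ * (D.w ^ i * D.w ^ i * e) := by group
          _ = _ := by rw [← (hew.mul_right hew).eq, inv_mul_cancel_left]
      rw [this]
      exact mul_mem (zpow_mem (mem_zpowers _) i) (zpow_mem (mem_zpowers _) i)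
    have hcomm : ∀ d ∈ P, ∀ e ∈ P, d⁻¹ * e⁻¹ * d * e ∈ zpowers D.w := by
      intro d hd e he
      obtain ⟨i, hi⟩ := mem_zpowers_iff.1 (hW d hd)
      obtain ⟨k, hk⟩ := mem_zpowers_iff.1 (hW e he)
      have hcd : Commute (d⁻¹) (D.w ^ k) :=
        (Commute.zpow_right (mem_centralizer_singleton_iff.1 (hPN hd).1) k).inv_left
      have h := hW (d * e) (mul_mem hd he)
      rw [show a * (d * e) * a⁻¹ * (d * e) =
          (a * d * a⁻¹ * d) * (d⁻¹ * (a * e * a⁻¹ * e)) * e⁻¹ * d * e by group, ← hi, ← hk,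
        hcd.eq] at h
      have h' := mul_mem (mul_mem (inv_mem (zpow_mem (mem_zpowers D.w) k))
        (inv_mem (zpow_mem (mem_zpowers D.w) i))) h
      rwa [show (D.w ^ k)⁻¹ * (D.w ^ i)⁻¹ * (D.w ^ i * (D.w ^ k * d⁻¹) * e⁻¹ * d * e) =
        d⁻¹ * e⁻¹ * d * e by group] at h'
    obtain ⟨y, hy, hyJ⟩ := SetLike.not_le_iff_exists.1 hnot
    refine not_thin J (hPN hy) (hPodd _ hy) hyJ ⟨J.J ⊓ P, inf_le_left, ?_, ?_⟩
    · have hJp : IsPGroup 3 J.J := IsPGroup.of_card (n := 4) (by rw [J.cardJ]; norm_num)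
      have hsup := hJp.to_sup_of_normal_left' hPp (hPN.trans inf_le_right)
      have hb := Nat.le_of_dvd (by norm_num) (pdvd243 J (sup_le (J_le_NJ J) hPN) hsup)
      have h := (card_mul_le_mul_inf (A := J.J) (B := P) le_sup_left le_sup_right).trans
        (Nat.mul_le_mul_right _ hb)
      rw [J.cardJ, h81] at h
      omega
    · intro f hfm
      simpa using hcomm y⁻¹ (inv_mem hy) f⁻¹ (inv_mem hfm.2)

end CentW

universe v

open Subgroup Three9 CentW in
/-- Piece P4: the centralizer of `w` has order `972`. -/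
theorem cardY : StmtY.{v} := by
  intro G _ _ D F J
  classical
  set Y := centralizer ({D.w} : Set G) with hY
  have hNY : NJ J ≤ Y := inf_le_left
  have hxY : F.x ∈ Y := hNY (x_mem_NJ J)
  have hYc := card_invol (H := Y) le_rfl (four_le_Y D) hxY inf_le_left
  have hNc := card_invol (H := NJ J) hNY (four_le_NJ' J) (x_mem_NJ J) (Ct_le_NJ J)
  rw [card_NJ J] at hNc
  set N' := (NJ J).subgroupOf Y with hN'
  have hYm : Nat.card Y = 972 * N'.index := by
    rw [← card_mul_index N', Nat.card_congr (subgroupOfEquivOfLe hNY).toEquiv, card_NJ]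
  -- split the involutions
  have hsplit : Nat.card {i : G // i ∈ Y ∧ orderOf i = 2} =
      Nat.card {i : G // i ∈ NJ J ∧ orderOf i = 2} +
        Nat.card {i : G // (i ∈ Y ∧ orderOf i = 2) ∧ i ∉ NJ J} := by
    rw [← Nat.card_congr (Equiv.sumCompl (fun i : {i : G // i ∈ Y ∧ orderOf i = 2} =>
      (i : G) ∈ NJ J)), Nat.card_sum]
    congr 1
    · exact Nat.card_congr
        { toFun := fun i => ⟨i.1.1, i.2, i.1.2.2⟩
          invFun := fun i => ⟨⟨i.1, hNY i.2.1, i.2.2⟩, i.2.1⟩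
          left_inv := fun _ => rfl
          right_inv := fun _ => rfl }
    · exact Nat.card_congr
        { toFun := fun i => ⟨i.1.1, i.1.2, i.2⟩
          invFun := fun i => ⟨⟨i.1, i.2.1⟩, i.2.2⟩
          left_inv := fun _ => rfl
          right_inv := fun _ => rfl }
  have hout : Nat.card {i : G // (i ∈ Y ∧ orderOf i = 2) ∧ i ∉ NJ J} ≤ 26 * (N'.index - 1) := by
    haveI : Fintype G := Fintype.ofFinite G
    let q0 : Y ⧸ N' := ((1 : Y) : Y ⧸ N')
    let f : {i : G // (i ∈ Y ∧ orderOf i = 2) ∧ i ∉ NJ J} → {q : Y ⧸ N' // q ≠ q0} :=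
      fun i => ⟨((⟨i.1, i.2.1.1⟩ : Y) : Y ⧸ N'), fun h => i.2.2 (by
        have h' : (1 : G)⁻¹ * i.1 ∈ NJ J :=
          (QuotientGroup.eq (a := (1 : Y)) (b := ⟨i.1, i.2.1.1⟩)).1 h.symm
        simpa using h')⟩
    have hfib : ∀ q, Nat.card {i // f i = q} ≤ 26 := by
      intro q
      rcases isEmpty_or_nonempty {i // f i = q} with he | ⟨⟨a, rfl⟩⟩
      · simp
      refine le_trans ?_ (fibre_le J a.2.1.1 a.2.1.2 a.2.2)
      let g : {i // f i = f a} → {d : G // d ∈ NJ J ∧ (a : G) * d * (a : G)⁻¹ = d⁻¹} := fun i =>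
        ⟨(a : G) * (i.1 : G), by
          have h : (a : G)⁻¹ * (i.1 : G) ∈ NJ J :=
            (QuotientGroup.eq (a := (⟨a.1, a.2.1.1⟩ : Y)) (b := ⟨i.1.1, i.1.2.1.1⟩)).1
              (congrArg Subtype.val i.2.symm)
          rwa [invol_sq a.2.1.2] at h, by
          rw [mul_inv_rev, invol_sq i.1.2.1.2]
          calc (a : G) * ((a : G) * (i.1 : G)) * (a : G)⁻¹
              = (a : G)⁻¹ * ((a : G) * (i.1 : G)) * (a : G)⁻¹ := by rw [invol_sq a.2.1.2]
            _ = _ := by group⟩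
      refine Nat.card_le_card_of_injective g fun i k h => Subtype.ext (Subtype.ext ?_)
      exact mul_left_cancel (congrArg Subtype.val h)
    have hq : Nat.card {q : Y ⧸ N' // q ≠ q0} = N'.index - 1 := by
      haveI := Fintype.ofFinite (Y ⧸ N')
      rw [index_eq_card, Nat.card_eq_fintype_card, Nat.card_eq_fintype_card,
        Fintype.card_subtype_compl, Fintype.card_subtype_eq]
    haveI := Fintype.ofFinite {q : Y ⧸ N' // q ≠ q0}
    rw [← hq, ← Nat.card_congr (Equiv.sigmaFiberEquiv f), Nat.card_sigma]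
    refine (Finset.sum_le_card_nsmul _ _ 26 fun q _ => hfib q).trans ?_
    rw [Finset.card_univ, Nat.card_eq_fintype_card, smul_eq_mul, mul_comm]
  have hpos : 0 < N'.index := Nat.pos_of_ne_zero index_ne_zero_of_finite
  omega

end CfsgLib.McLDouble
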