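import Cfsg.Agent.Lib.McLDouble.Defs
import Cfsg.Agent.Lib.CentFour.Tools

/-!
# The abelian subgroup of order `81`

`J` is the normal 2-complement of `C(E)`; the fixed point formula for the four-group `⟨t, s⟩`
shows that it has order `81` and is the join of the three conjugates of `E`.
-/

set_option autoImplicit false

namespace CfsgLib.McLDouble

open Subgroup Equiv

universe u

variable {G : Type u} [Group G]

theorem mem_normalizer_closure_pair [Finite G] {g a c : G}
    (ha : g * a * g⁻¹ ∈ closure ({a, c} : Set G)) (hc : g * c * g⁻¹ ∈ closure ({a, c} : Set G)) :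
    g ∈ normalizer (closure ({a, c} : Set G) : Set G) := by
  rw [mem_normalizer_iff_map_conj_eq]
  refine eq_of_le_of_card_ge ?_ (card_map_of_injective (MulAut.conj g).injective).ge
  rw [MonoidHom.map_closure, closure_le]
  rintro _ ⟨v, (rfl | rfl), rfl⟩
  · exact ha
  · exact hc

theorem Cov.mem_E_iff (D : Cov G) {g : G} :
    (∀ e ∈ D.E, Commute g e) ↔ g ∈ centralizer ({D.z} : Set G) ⊓ centralizer ({D.b} : Set G) := by
  rw [mem_inf, mem_centralizer_singleton_iff, mem_centralizer_singleton_iff]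
  constructor
  · exact fun h => ⟨(h D.z (subset_closure (by simp))).eq, (h D.b (subset_closure (by simp))).eq⟩
  · rintro ⟨h1, h2⟩
    have hle : D.E ≤ centralizer ({g} : Set G) := by
      rw [Cov.E, closure_le]
      rintro v (rfl | rfl)
      · exact mem_centralizer_singleton_iff.2 h1.symm
      · exact mem_centralizer_singleton_iff.2 h2.symm
    exact fun e he => (mem_centralizer_singleton_iff.1 (hle he)).symm

theorem Cov.card_E [Finite G] (D : Cov G) :
    Nat.card D.E = 9 ∧ (∀ e ∈ D.E, e ^ 3 = 1) ∧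
      D.E ≤ centralizer ({D.t} : Set G) ⊓ centralizer ({D.z} : Set G) ⊓ centralizer ({D.b} : Set G) := by
  have : Fact (Nat.Prime 3) := ⟨Nat.prime_three⟩
  have hz3 : D.z ^ 3 = 1 := D.ord_z ▸ pow_orderOf_eq_one D.z
  have hb3 : D.b ^ 3 = 1 := D.ord_b ▸ pow_orderOf_eq_one D.b
  have hle : D.E ≤ centralizer ({D.t} : Set G) ⊓ centralizer ({D.z} : Set G) ⊓
      centralizer ({D.b} : Set G) := by
    rw [Cov.E, closure_le]
    rintro v (rfl | rfl)
    · exact ⟨⟨D.mem_z, mem_centralizer_singleton_iff.2 rfl⟩,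
        mem_centralizer_singleton_iff.2 D.zb.eq⟩
    · exact ⟨⟨D.mem_b, mem_centralizer_singleton_iff.2 D.zb.eq.symm⟩,
        mem_centralizer_singleton_iff.2 rfl⟩
  have hcomm : ∀ e ∈ D.E, ∀ f ∈ D.E, Commute e f := fun e he f hf =>
    D.mem_E_iff.2 ⟨(hle he).1.2, (hle he).2⟩ f hf
  have hexp : ∀ e ∈ D.E, e ^ 3 = 1 := by
    intro e he
    induction he using closure_induction with
    | mem v hv => rcases hv with rfl | rfl <;> assumption
    | one => exact one_pow 3
    | mul v w hv hw h1 h2 => rw [(hcomm v hv w hw).mul_pow, h1, h2, one_mul]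
    | inv v _ h1 => rw [inv_pow, h1, inv_one]
  refine ⟨?_, hexp, hle⟩
  have hp : IsPGroup 3 D.E := fun e => ⟨1, Subtype.ext (by simpa using hexp e e.2)⟩
  obtain ⟨m, hm⟩ := hp.exists_card_eq
  have h18 : Nat.card D.E ∣ 18 := D.cardTE ▸ card_dvd_of_le hle
  have h9 : 4 ≤ Nat.card D.E := by
    let f : Fin 4 → D.E := ![1, ⟨D.z, subset_closure (by simp)⟩,
      ⟨D.z ^ 2, pow_mem (subset_closure (by simp)) 2⟩, ⟨D.b, subset_closure (by simp)⟩]
    have hpz : ∀ k : ℕ, D.z ^ k ≠ D.b := by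
      intro k e
      have e1 : (D.π ⟨D.b, D.mem_b⟩ : Perm (Fin 8)) = (D.π ⟨D.z, D.mem_z⟩ : Perm (Fin 8)) ^ k := by
        rw [← SubgroupClass.coe_pow, ← map_pow]
        congr 1
        exact congrArg D.π (Subtype.ext e.symm)
      have h3 := congrArg (fun p : Perm (Fin 8) => p 3) e1
      simp only [D.π_b, D.π_z] at h3
      have hfix : ∀ j : ℕ, ((swap (0 : Fin 8) 1 * swap 1 2 : Perm (Fin 8)) ^ j) 3 = 3 := by
        intro j
        induction j with
        | zero => rfl
        | succ j ih =>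
          rw [pow_succ, Perm.mul_apply]
          exact ih
      rw [hfix] at h3
      exact absurd h3 (by decide)
    have hz1 : D.z ≠ 1 := fun e => by have := D.ord_z; rw [e, orderOf_one] at this; omega
    have hz2 : D.z ^ 2 ≠ 1 := fun e => by
      have h2 := orderOf_dvd_of_pow_eq_one e
      rw [D.ord_z] at h2; norm_num at h2
    have hf : Function.Injective f := by
      intro i j e
      have e' := congrArg Subtype.val e
      fin_cases i <;> fin_cases j <;> first
        | rfl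
        | (exfalso
           simp [f] at e'
           first
             | exact hz1 e'
             | exact hz1 e'.symm
             | exact hz2 e'
             | exact hz2 e'.symm
             | exact hpz 0 (by simpa using e')
             | exact hpz 0 (by simpa using e'.symm)
             | exact hpz 1 (by simpa using e')
             | exact hpz 1 (by simpa using e'.symm)
             | exact hpz 2 e'
             | exact hpz 2 e'.symm
             | exact hz1 (by rw [sq] at e'; exact mul_left_cancel (a := D.z) (by rw [mul_one]; exact e'))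
             | exact hz1 (by rw [sq] at e'; exact mul_left_cancel (a := D.z) (by rw [mul_one]; exact e'.symm)))
    simpa using Nat.card_le_card_of_injective f hf
  rw [hm] at h18 h9 ⊢
  have : m ≤ 2 := by
    by_contra hbad
    have := Nat.le_of_dvd (by norm_num) h18
    have := pow_le_pow_right₀ (show 1 ≤ 3 by norm_num) (show 3 ≤ m by omega)
    omega
  interval_cases m <;> omega

theorem jData : StmtJ.{u} := by
  intro G _ _ D F h27
  classical
  have h2f : Fact (Nat.Prime 2) := ⟨Nat.prime_two⟩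
  have h3f : Fact (Nat.Prime 3) := ⟨Nat.prime_three⟩
  obtain ⟨hEc, hE3, hEle⟩ := D.card_E
  set M := centralizer ({D.z} : Set G) ⊓ centralizer ({D.b} : Set G) with hMdef
  have hEM : ∀ g, g ∈ M ↔ ∀ e ∈ D.E, Commute g e := fun g => D.mem_E_iff.symm
  have hEleM : D.E ≤ M := fun e he => ⟨(hEle he).1.2, (hEle he).2⟩
  have hMt : Nat.card (M ⊓ centralizer ({D.t} : Set G) : Subgroup G) = 18 := by
    rw [show M ⊓ centralizer ({D.t} : Set G) = centralizer ({D.t} : Set G) ⊓
      centralizer ({D.z} : Set G) ⊓ centralizer ({D.b} : Set G) by rw [hMdef]; ac_rfl]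
    exact D.cardTE
  have htC : D.t ∈ centralizer ({D.t} : Set G) := mem_centralizer_singleton_iff.2 rfl
  have htM : D.t ∈ M := ⟨mem_centralizer_singleton_iff.2 (mem_centralizer_singleton_iff.1 D.mem_z).symm,
    mem_centralizer_singleton_iff.2 (mem_centralizer_singleton_iff.1 D.mem_b).symm⟩
  -- the complement
  set tM : M := ⟨D.t, htM⟩
  have htM2 : orderOf tM = 2 := by rw [← Subgroup.orderOf_coe]; exact D.ord_t
  obtain ⟨P, hPle⟩ := (IsPGroup.of_card (n := 1)
    (by rw [Nat.card_zpowers, htM2, pow_one] : Nat.card (zpowers tM) = 2 ^ 1)).exists_le_sylow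
  have hPc : Nat.card (P : Subgroup M) = 2 := by
    obtain ⟨k, hk⟩ := P.isPGroup'.exists_card_eq
    by_contra hne
    have hk2 : 2 ≤ k := by
      have h2 : 2 ∣ Nat.card (P : Subgroup M) :=
        htM2.symm.dvd.trans (Subgroup.orderOf_dvd_natCard _ (hPle (mem_zpowers tM)))
      rcases k with _ | _ | k
      · rw [hk] at h2; norm_num at h2
      · rw [hk] at hne; exact absurd rfl hne
      · omega
    obtain ⟨K, hK, hleK⟩ := Sylow.exists_subgroup_card_pow_succ (G := (P : Subgroup M)) (p := 2)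
      (n := 1) (hk ▸ pow_dvd_pow 2 hk2) (H := zpowers (⟨tM, hPle (mem_zpowers tM)⟩ : (P : Subgroup M)))
      (by rw [Nat.card_zpowers, Subgroup.orderOf_mk, htM2, pow_one])
    have hKcomm : ∀ a c : K, a * c = c * a :=
      IsPGroup.commutative_of_card_eq_prime_sq (p := 2) (by rw [hK])
    let f : K → (M ⊓ centralizer ({D.t} : Set G) : Subgroup G) := fun a =>
      ⟨(((a : (P : Subgroup M)) : M) : G), ((a : (P : Subgroup M)) : M).2,
        mem_centralizer_singleton_iff.2 (congrArg (fun q : K => (((q : (P : Subgroup M)) : M) : G))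
          (hKcomm a ⟨_, hleK (mem_zpowers _)⟩))⟩
    have hf : Function.Injective f := fun a c e => Subtype.ext (Subtype.ext (Subtype.ext
      (congrArg (fun q : (M ⊓ centralizer ({D.t} : Set G) : Subgroup G) => (q : G)) e)))
    have h4 : Nat.card K ∣ Nat.card (M ⊓ centralizer ({D.t} : Set G) : Subgroup G) := by
      let f' : K →* (M ⊓ centralizer ({D.t} : Set G) : Subgroup G) :=
        { toFun := f, map_one' := rfl, map_mul' := fun _ _ => rfl }
      exact Subgroup.card_dvd_of_injective f' hf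
    rw [hK, hMt] at h4
    norm_num at h4
  have hPN : normalizer ((P : Subgroup M) : Set M) ≤ centralizer ((P : Subgroup M) : Set M) := by
    intro g hg
    rw [mem_centralizer_iff]
    intro p hp
    have hall : ∀ q ∈ (P : Subgroup M), q = 1 ∨ q = tM := by
      intro q hq
      have hz : zpowers tM = (P : Subgroup M) := eq_of_le_of_card_ge hPle (by
        rw [hPc, Nat.card_zpowers, htM2])
      rw [← hz, mem_zpowers_iff] at hq
      obtain ⟨i, rfl⟩ := hq
      rw [← zpow_mod_orderOf, htM2]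
      rcases Int.emod_two_eq_zero_or_one i with h | h
      · exact Or.inl (by simp [h])
      · exact Or.inr (by simp [h])
    rcases hall p hp with rfl | rfl
    · simp
    · rcases hall _ ((mem_normalizer_iff.1 hg tM).1 hp) with h | h
      · rw [conj_eq_one_iff] at h
        rw [h, one_mul, mul_one]
      · exact (mul_inv_eq_iff_eq_mul.1 h).symm
  set O' := (MonoidHom.transferSylow P hPN).ker with hO'
  have hcompl := MonoidHom.ker_transferSylow_isComplement' P hPN
  have hO'i : O'.index = 2 := by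
    exact (Subgroup.IsComplement'.symm hcompl).index_eq_card.trans hPc
  have hO'odd : Odd (Nat.card O') := by
    rw [hO', ← hcompl.index_eq_card, Nat.odd_iff, ← Nat.two_dvd_ne_zero]
    exact P.not_dvd_index
  set O := O'.map M.subtype with hO
  have hOodd : Odd (Nat.card O) := by rwa [hO, card_map_of_injective M.subtype_injective]
  have hOM : O ≤ M := map_subtype_le O'
  have hOmem : ∀ g, g ∈ O ↔ g ∈ M ∧ Odd (orderOf g) := by
    intro g
    refine ⟨fun hg => ⟨hOM hg, hOodd.of_dvd_nat (Subgroup.orderOf_dvd_natCard O hg)⟩, ?_⟩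
    rintro ⟨hg, hodd⟩
    refine ⟨⟨g, hg⟩, ?_, rfl⟩
    have h2 : (⟨g, hg⟩ : M) ^ 2 ∈ O' := hO'i ▸ pow_index_mem O' _
    obtain ⟨m, hm⟩ := exists_pow_eq_self_of_coprime (x := (⟨g, hg⟩ : M)) (n := 2)
      (by rw [← Subgroup.orderOf_coe]; exact Nat.coprime_two_left.2 hodd)
    exact hm ▸ pow_mem h2 m
  have hMc : Nat.card M = 2 * Nat.card O := by
    rw [hO, card_map_of_injective M.subtype_injective, ← O'.card_mul_index, hO'i, mul_comm]
  -- the normalizer of `E`
  have hMN : M ≤ normalizer (D.E : Set G) := by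
    intro g hg
    rw [mem_normalizer_iff]
    intro e
    have hc : ∀ e ∈ D.E, g * e * g⁻¹ = e := fun e he => by
      rw [((hEM g).1 hg e he).eq, mul_inv_cancel_right]
    refine ⟨fun he => (hc e he).symm ▸ he, fun he => ?_⟩
    have h' := ((hEM g).1 hg _ he).eq
    have he' : g * e * g⁻¹ = e := by
      calc g * e * g⁻¹ = g⁻¹ * (g * (g * e * g⁻¹)) := by group
        _ = g⁻¹ * (g * e * g⁻¹ * g) := by rw [h']
        _ = e := by group
    rwa [he'] at he
  have hNM : ∀ g ∈ normalizer (D.E : Set G), ∀ m ∈ M, g * m * g⁻¹ ∈ M := by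
    intro g hg m hm
    rw [hEM] at hm ⊢
    intro e he
    have he' : g⁻¹ * e * g ∈ D.E := by
      simpa using (mem_normalizer_iff.1 (inv_mem hg) e).1 he
    calc g * m * g⁻¹ * e = g * (m * (g⁻¹ * e * g)) * g⁻¹ := by group
      _ = g * (g⁻¹ * e * g * m) * g⁻¹ := by rw [(hm _ he').eq]
      _ = e * (g * m * g⁻¹) := by group
  have hNO : ∀ g ∈ normalizer (D.E : Set G), ∀ o ∈ O, g * o * g⁻¹ ∈ O := by
    intro g hg o ho
    rw [hOmem] at ho ⊢
    exact ⟨hNM g hg o ho.1, by
      rw [show g * o * g⁻¹ = MulAut.conj g o from rfl, MulEquiv.orderOf_eq]; exact ho.2⟩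
  have hodd_mem : ∀ g ∈ normalizer (D.E : Set G), Odd (orderOf g) → g ∈ O := by
    intro g hg hodd
    set N := normalizer (D.E : Set G)
    set B := centralizer ({D.t} : Set G) ⊓ N
    have hMn : (M.subgroupOf N).Normal := ⟨fun m hm k => hNM k k.2 m hm⟩
    have h8 : (M.subgroupOf B).index = 8 := by
      have h := card_mul_index (M.subgroupOf B)
      rw [Nat.card_congr
        { toFun := fun (a : M.subgroupOf B) => (⟨((a : B) : G), a.2, (a : B).2.1⟩ :
            (M ⊓ centralizer ({D.t} : Set G) : Subgroup G))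
          invFun := fun a => (⟨⟨(a : G), a.2.2, hMN a.2.1⟩, a.2.1⟩ : M.subgroupOf B)
          left_inv := fun a => rfl
          right_inv := fun a => rfl }, hMt,
        show Nat.card B = 144 from D.cardTN] at h
      omega
    have hMnB : (M.subgroupOf B).Normal := ⟨fun m hm k => hNM k k.2.2 m hm⟩
    obtain ⟨m, hm, hmt⟩ : ∃ m ∈ M, m * D.t * m⁻¹ = g * D.t * g⁻¹ := by
      set v : M := ⟨g * D.t * g⁻¹, hNM g hg _ htM⟩ with hv
      have hv2 : orderOf v = 2 := by
        rw [hv, Subgroup.orderOf_mk, show g * D.t * g⁻¹ = MulAut.conj g D.t from rfl,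
          MulEquiv.orderOf_eq, D.ord_t]
      obtain ⟨Q, hQ⟩ := (IsPGroup.of_card (n := 1)
        (by rw [Nat.card_zpowers, hv2, pow_one] : Nat.card (zpowers v) = 2 ^ 1)).exists_le_sylow
      obtain ⟨k, hk⟩ := MulAction.exists_smul_eq M P Q
      have hPe : zpowers tM = (P : Subgroup M) := eq_of_le_of_card_ge hPle (by
        rw [hPc, Nat.card_zpowers, htM2])
      have hvk : k⁻¹ * v * k ∈ (P : Subgroup M) := by
        have h1 := hQ (mem_zpowers v)
        rw [← hk, Sylow.coe_subgroup_smul, mem_pointwise_smul_iff_inv_smul_mem] at h1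
        simpa using h1
      rw [← hPe, mem_zpowers_iff] at hvk
      obtain ⟨i, hi⟩ := hvk
      rw [← zpow_mod_orderOf, htM2] at hi
      rcases Int.emod_two_eq_zero_or_one i with h | h
      · exfalso
        simp [h] at hi
        have hv1 : v = 1 := by
          calc v = k * (k⁻¹ * v * k) * k⁻¹ := by group
            _ = 1 := by rw [show k⁻¹ * v * k = 1 by simpa using hi.symm]; group
        rw [hv1, orderOf_one] at hv2
        omega
      · simp [h] at hi
        refine ⟨k, k.2, ?_⟩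
        have h1 : k * tM * k⁻¹ = v := by rw [hi]; group
        exact congrArg Subtype.val h1
    have hB : m⁻¹ * g ∈ B := by
      refine mem_inf.2 ⟨mem_centralizer_singleton_iff.2 ?_, mul_mem (inv_mem (hMN hm)) hg⟩
      calc m⁻¹ * g * D.t = m⁻¹ * (g * D.t * g⁻¹) * g := by group
        _ = D.t * (m⁻¹ * g) := by rw [← hmt]; group
    have hc : (⟨m⁻¹ * g, hB⟩ : B) ^ 8 ∈ M.subgroupOf B := h8 ▸ pow_index_mem _ _
    have hg8 : (⟨g, hg⟩ : N) ^ 8 ∈ M.subgroupOf N := by
      rw [← QuotientGroup.eq_one_iff, QuotientGroup.mk_pow,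
        show (QuotientGroup.mk (⟨g, hg⟩ : N) : N ⧸ M.subgroupOf N) =
          QuotientGroup.mk (⟨m⁻¹ * g, mul_mem (inv_mem (hMN hm)) hg⟩ : N) from
          (QuotientGroup.eq.2 (by
            show (m⁻¹ * g)⁻¹ * g ∈ M
            have := hNM g⁻¹ (inv_mem hg) m hm
            simpa [mul_assoc] using this)).symm,
        ← QuotientGroup.mk_pow, QuotientGroup.eq_one_iff]
      exact hc
    obtain ⟨j, hj⟩ := exists_pow_eq_self_of_coprime (x := g) (n := 8)
      (by rw [show (8 : ℕ) = 2 ^ 3 from rfl]; exact (Nat.coprime_two_left.2 hodd).pow_left 3)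
    exact (hOmem g).2 ⟨hj ▸ pow_mem (show g ^ 8 ∈ M from hg8) j, hodd⟩
  have hEO : D.E ≤ O := fun e he => (hOmem e).2
    ⟨hEleM he, (show Odd 9 by decide).of_dvd_nat (hEc ▸ Subgroup.orderOf_dvd_natCard D.E he)⟩
  have hOt : O ⊓ centralizer ({D.t} : Set G) = D.E := by
    refine (eq_of_le_of_card_ge (le_inf hEO fun e he => (hEle he).1.1) ?_).symm
    have h1 : Nat.card (O ⊓ centralizer ({D.t} : Set G) : Subgroup G) ∣ 18 :=
      hMt ▸ card_dvd_of_le (inf_le_inf_right _ hOM)
    have hodd' : Odd (Nat.card (O ⊓ centralizer ({D.t} : Set G) : Subgroup G)) :=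
      hOodd.of_dvd_nat (card_dvd_of_le inf_le_left)
    rw [hEc]
    exact Nat.le_of_dvd (by norm_num)
      ((Nat.coprime_two_right.2 hodd').dvd_of_dvd_mul_right (show _ ∣ 9 * 2 from h1))
  have hO27 : 27 ∣ Nat.card O := by
    have h := Sylow.prime_pow_dvd_card_normalizer (p := 3) (n := 2) (H := D.E)
      (show 3 ^ (2 + 1) ∣ Nat.card G from h27) (by rw [hEc]; norm_num)
    obtain ⟨R, hR⟩ := Sylow.exists_subgroup_card_pow_prime 3 (n := 3) h
    have hle : R.map (normalizer (D.E : Set G)).subtype ≤ O := by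
      rintro _ ⟨q, hq, rfl⟩
      refine hodd_mem _ q.2 ?_
      show Odd (orderOf (q : G))
      rw [Subgroup.orderOf_coe]
      exact (show Odd (3 ^ 3) by decide).of_dvd_nat (hR ▸ Subgroup.orderOf_dvd_natCard R hq)
    have h1 := card_dvd_of_le hle
    rw [card_map_of_injective (subtype_injective _), hR] at h1
    exact h1
  -- the element `s` and the fixed subgroups
  have hst : Commute D.s D.t := mem_centralizer_singleton_iff.1 D.mem_s
  have hts : Commute D.t D.s := hst.symm
  have hsw : Commute D.s D.w := by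
    show D.s * (D.z * D.b) = D.z * D.b * D.s
    rw [← mul_inv_eq_iff_eq_mul, ← conj_mul, D.sz, D.sb, D.zb.eq]
  have htw : Commute D.t D.w := (mem_centralizer_singleton_iff.1
    (mul_mem D.mem_z D.mem_b : D.z * D.b ∈ centralizer ({D.t} : Set G))).symm
  have htN : D.t ∈ normalizer (D.E : Set G) := hMN htM
  have hsN : D.s ∈ normalizer (D.E : Set G) :=
    mem_normalizer_closure_pair (by rw [D.sz]; exact subset_closure (by simp))
      (by rw [D.sb]; exact subset_closure (by simp))
  have hOw : O ≤ centralizer ({D.w} : Set G) := fun o ho => mem_centralizer_singleton_iff.2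
    (((hEM o).1 (hOM ho) _ (mul_mem (subset_closure (by simp)) (subset_closure (by simp)))).eq)
  -- odd elements of `C(t) ∩ C(w)` normalize `E`
  have hTW : ∀ y : G, Commute y D.t → Commute y D.w → Odd (orderOf y) →
      y ∈ normalizer (D.E : Set G) := by
    intro y hyt hyw hy
    set W := centralizer ({D.t} : Set G) ⊓ centralizer ({D.w} : Set G) with hW
    set U := normalizer (D.E : Set G) ⊓ W with hU
    have hW36 : Nat.card W = 36 := D.cardTw
    have hEU : D.E ≤ U := le_inf le_normalizer (le_inf (fun e he => (hEle he).1.1)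
      fun e he => hOw (hEO he))
    have htU : D.t ∈ U := ⟨htN, htC, mem_centralizer_singleton_iff.2 htw.eq⟩
    have h18 : 9 * 2 ∣ Nat.card U := Nat.Coprime.mul_dvd_of_dvd_of_dvd (by norm_num)
      (hEc ▸ card_dvd_of_le hEU) (D.ord_t ▸ Subgroup.orderOf_dvd_natCard U htU)
    have hUW : U ≤ W := inf_le_right
    have hm := card_mul_index (U.subgroupOf W)
    rw [Nat.card_congr (subgroupOfEquivOfLe hUW).toEquiv, hW36] at hm
    have hidx : (U.subgroupOf W).index ≤ 2 := by
      obtain ⟨c, hc⟩ := h18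
      rcases c with _ | c
      · simp [hc] at hm
      · by_contra hbad
        have := Nat.mul_le_mul (show 18 ≤ Nat.card U by omega) (show 3 ≤ (U.subgroupOf W).index by omega)
        omega
    set y' : W := ⟨y, mem_centralizer_singleton_iff.2 hyt.eq, mem_centralizer_singleton_iff.2 hyw.eq⟩
    have hy' : y' ∈ U.subgroupOf W := by
      rcases Nat.lt_or_ge (U.subgroupOf W).index 2 with h | h
      · rw [show U.subgroupOf W = ⊤ from index_eq_one.1
          (by have := Subgroup.index_ne_zero_of_finite (H := U.subgroupOf W); omega)]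
        exact mem_top _
      · have h2 : (U.subgroupOf W).index = 2 := by omega
        have := normal_of_index_eq_two h2
        obtain ⟨j, hj⟩ := exists_pow_eq_self_of_coprime (x := y') (n := 2)
          (by rw [← Subgroup.orderOf_coe]; exact Nat.coprime_two_left.2 hy)
        exact hj ▸ pow_mem (h2 ▸ pow_index_mem (U.subgroupOf W) y') j
    exact hy'.1
  -- the conjugates of `E`
  have hxst : F.x * (D.s * D.t) * F.x⁻¹ = D.t := by
    have hss : D.s * D.s = 1 := by rw [← sq, ← D.ord_s, pow_orderOf_eq_one]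
    rw [← conj_mul, F.xt, F.xs, hst.eq, mul_assoc, hss, mul_one]
  set E1 := D.E.map (MulAut.conj F.x).toMonoidHom with hE1
  set E2 := E1.map (MulAut.conj F.x).toMonoidHom with hE2
  have hxw : ∀ a, Commute a D.w → Commute (F.x⁻¹ * a * F.x) D.w := fun a ha =>
    ((F.xw.inv_left).mul_left ha).mul_left F.xw
  have hback : ∀ a i j : G, F.x * i * F.x⁻¹ = j → Commute a j → Commute (F.x⁻¹ * a * F.x) i := by
    intro a i j hij ha
    show F.x⁻¹ * a * F.x * i = i * (F.x⁻¹ * a * F.x)
    calc F.x⁻¹ * a * F.x * i = F.x⁻¹ * (a * (F.x * i * F.x⁻¹)) * F.x := by group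
      _ = F.x⁻¹ * (j * a) * F.x := by rw [hij, ha.eq]
      _ = i * (F.x⁻¹ * a * F.x) := by rw [← hij]; group
  have hoddconj : ∀ a, Odd (orderOf a) → Odd (orderOf (F.x⁻¹ * a * F.x)) := fun a ha => by
    rw [show F.x⁻¹ * a * F.x = MulAut.conj F.x⁻¹ a by simp [MulAut.conj_apply], MulEquiv.orderOf_eq]
    exact ha
  have hinE : ∀ a, Commute a D.t → Commute a D.w → Odd (orderOf a) → a ∈ D.E := fun a h1 h2 h3 =>
    hOt ▸ ⟨hodd_mem a (hTW a h1 h2 h3) h3, mem_centralizer_singleton_iff.2 h1.eq⟩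
  have hmap : ∀ (K : Subgroup G) (a : G), F.x⁻¹ * a * F.x ∈ K →
      a ∈ K.map (MulAut.conj F.x).toMonoidHom := fun K a ha =>
    ⟨_, ha, by simp [MulAut.conj_apply]; group⟩
  have hOs : O ⊓ centralizer ({D.s} : Set G) ≤ E1 := fun a ha => hmap _ _ (hinE _
    (hback a D.t D.s F.xt (mem_centralizer_singleton_iff.1 ha.2))
    (hxw a (mem_centralizer_singleton_iff.1 (hOw ha.1))) (hoddconj a ((hOmem a).1 ha.1).2))
  have hOst : O ⊓ centralizer ({D.s * D.t} : Set G) ≤ E2 := fun a ha => by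
    refine hmap _ _ (hmap _ _ (hinE _ (hback _ D.t D.s F.xt
      (hback a D.s (D.s * D.t) F.xs (mem_centralizer_singleton_iff.1 ha.2)))
      (hxw _ (hxw a (mem_centralizer_singleton_iff.1 (hOw ha.1))))
      (hoddconj _ (hoddconj a ((hOmem a).1 ha.1).2))))
  have hE1c : Nat.card E1 = 9 := by rw [hE1, card_map_of_injective (MulAut.conj F.x).injective, hEc]
  have hE2c : Nat.card E2 = 9 := by rw [hE2, card_map_of_injective (MulAut.conj F.x).injective, hE1c]
  -- the formula
  have htt : D.t * D.t = 1 := by rw [← sq, ← D.ord_t, pow_orderOf_eq_one]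
  have hss : D.s * D.s = 1 := by rw [← sq, ← D.ord_s, pow_orderOf_eq_one]
  have key := CentFour.four_formula_subgroup O hOodd htt hss hts
    (fun o ho => hNO D.t htN o ho) (fun o ho => hNO D.s hsN o ho)
  rw [hOt, hEc, hts.eq] at key
  set d := Nat.card (O ⊓ centralizer ({D.t, D.s} : Set G) : Subgroup G) with hd
  set a := Nat.card (O ⊓ centralizer ({D.s} : Set G) : Subgroup G) with ha
  set c := Nat.card (O ⊓ centralizer ({D.s * D.t} : Set G) : Subgroup G) with hc
  have hd9 : d ∣ 9 := hEc ▸ card_dvd_of_le (by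
    rw [← hOt]; exact inf_le_inf_left O (centralizer_le (by simp)))
  have hdw : 3 ≤ d := by
    have hwd : D.w ∈ O ⊓ centralizer ({D.t, D.s} : Set G) := by
      refine ⟨hEO (mul_mem (subset_closure (by simp)) (subset_closure (by simp))), ?_⟩
      show D.w ∈ centralizer ({D.t, D.s} : Set G)
      rw [mem_centralizer_iff]
      rintro v (rfl | rfl)
      · exact htw.eq
      · exact hsw.eq
    have hw1 : D.w ≠ 1 := by
      intro e
      have hs := D.sz
      rw [eq_inv_of_mul_eq_one_right (show D.z * D.b = 1 from e)] at hs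
      have h' := congrArg (fun p : G => p ^ 2) hs
      have h3 : D.z ^ 3 = 1 := D.ord_z ▸ pow_orderOf_eq_one D.z
      have hpi := congrArg D.π (show (⟨D.b, D.mem_b⟩ : centralizer ({D.t} : Set G)) =
        ⟨D.z, D.mem_z⟩⁻¹ from Subtype.ext (eq_inv_of_mul_eq_one_right (show D.z * D.b = 1 from e)))
      have h3' := congrArg (fun p : alternatingGroup (Fin 8) => (p : Perm (Fin 8)) 3) hpi
      simp only [map_inv, Subgroup.coe_inv, D.π_b, D.π_z] at h3'
      exact absurd h3' (by decide)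
    rcases (Nat.dvd_prime_pow Nat.prime_three).1 (show d ∣ 3 ^ 2 from hd9) with ⟨i, hi, hdi⟩
    rcases Nat.eq_zero_or_pos i with rfl | hi0
    · exfalso
      have hbot : O ⊓ centralizer ({D.t, D.s} : Set G) = ⊥ := card_eq_one.1 (by rw [← hd, hdi]; rfl)
      exact hw1 (mem_bot.1 (hbot ▸ hwd))
    · rw [hdi]; exact le_self_pow (by norm_num) hi0.ne'
  have hd3 : d = 3 := by
    rcases (Nat.dvd_prime_pow Nat.prime_three).1 (show d ∣ 3 ^ 2 from hd9) with ⟨i, hi, hdi⟩
    interval_cases i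
    · omega
    · simpa using hdi
    · exfalso
      have hEeq : O ⊓ centralizer ({D.t, D.s} : Set G) = D.E :=
        eq_of_le_of_card_ge (by rw [← hOt]; exact inf_le_inf_left O (centralizer_le (by simp)))
          (by rw [hEc, ← hd, hdi]; norm_num)
      have hzs := (mem_centralizer_iff.1 (hEeq.ge (subset_closure (by simp) : D.z ∈ D.E)).2) D.s
        (by simp)
      have hbz : D.b = D.z := by rw [← D.sz, hzs, mul_inv_cancel_right]
      have hpi := congrArg (fun p : alternatingGroup (Fin 8) => (p : Perm (Fin 8)) 3)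
        (congrArg D.π (show (⟨D.b, D.mem_b⟩ : centralizer ({D.t} : Set G)) = ⟨D.z, D.mem_z⟩
          from Subtype.ext hbz))
      simp only [D.π_b, D.π_z] at hpi
      exact absurd hpi (by decide)
  have ha9 : a ∣ 9 := hE1c ▸ card_dvd_of_le hOs
  have hc9 : c ∣ 9 := hE2c ▸ card_dvd_of_le hOst
  have hx3N : F.x ^ 3 ∈ normalizer (D.E : Set G) := by
    obtain ⟨k, hk⟩ := F.xord
    have hodd : Odd (orderOf (F.x ^ 3)) :=
      ((show Odd 3 by decide).pow (n := k)).of_dvd_nat (hk ▸ orderOf_pow_dvd 3)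
    have hx3t : Commute (F.x ^ 3) D.t := by
      show F.x ^ 3 * D.t = D.t * F.x ^ 3
      calc F.x ^ 3 * D.t
          = F.x * (F.x * (F.x * D.t * F.x⁻¹) * F.x⁻¹) * F.x⁻¹ * F.x ^ 3 := by
            rw [pow_succ, pow_two]; group
        _ = D.t * F.x ^ 3 := by rw [F.xt, F.xs, hxst]
    exact hTW _ hx3t (F.xw.pow_left 3) hodd
  have hpre : ∀ p ∈ D.E, ∃ p' ∈ D.E,
      MulAut.conj F.x (MulAut.conj F.x (MulAut.conj F.x p')) = p := by
    intro p hp
    refine ⟨(F.x ^ 3)⁻¹ * p * F.x ^ 3,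
      by simpa using (mem_normalizer_iff.1 (inv_mem hx3N) p).1 hp, ?_⟩
    simp only [MulAut.conj_apply]
    rw [pow_succ, pow_two]; group
  have hconj9 : ∀ q ∈ D.E, Odd (orderOf q) := fun q hq =>
    (show Odd 9 by decide).of_dvd_nat (hEc ▸ Subgroup.orderOf_dvd_natCard D.E hq)
  have hup : ∀ q : G, Odd (orderOf q) → (∀ p ∈ D.E, Commute q p) → q ∈ O := fun q hq h =>
    (hOmem q).2 ⟨(hEM q).2 h, hq⟩
  have hcj : ∀ {p q : G}, Commute p q → Commute (MulAut.conj F.x p) (MulAut.conj F.x q) :=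
    fun h => h.map (MulAut.conj F.x).toMonoidHom
  have h12 : E1 ≤ O → E2 ≤ O := by
    rintro h _ ⟨_, ⟨q, hq, rfl⟩, rfl⟩
    refine hup _ (by
      show Odd (orderOf (MulAut.conj F.x (MulAut.conj F.x q)))
      rw [MulEquiv.orderOf_eq, MulEquiv.orderOf_eq]; exact hconj9 q hq) fun p hp => ?_
    obtain ⟨p', hp', rfl⟩ := hpre p hp
    exact hcj (hcj (((hEM _).1 (hOM (h ⟨p', hp', rfl⟩)) q hq).symm))
  have h21 : E2 ≤ O → E1 ≤ O := by
    rintro h _ ⟨q, hq, rfl⟩
    refine hup _ (by
      show Odd (orderOf (MulAut.conj F.x q))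
      rw [MulEquiv.orderOf_eq]; exact hconj9 q hq) fun p hp => ?_
    obtain ⟨p', hp', rfl⟩ := hpre p hp
    exact hcj (((hEM _).1 (hOM (h ⟨_, ⟨p', hp', rfl⟩, rfl⟩)) q hq).symm)
  have hac : a = 9 ∧ c = 9 := by
    have h27O : 27 ≤ Nat.card O := Nat.le_of_dvd Nat.card_pos hO27
    rcases (Nat.dvd_prime_pow Nat.prime_three).1 (show a ∣ 3 ^ 2 from ha9) with ⟨i, hi, hai⟩
    rcases (Nat.dvd_prime_pow Nat.prime_three).1 (show c ∣ 3 ^ 2 from hc9) with ⟨j, hj, hcj'⟩
    have hmul : ∀ i ≤ 2, ∀ j ≤ 2, 27 * 9 ≤ 9 * 3 ^ i * 3 ^ j → i = 2 ∨ j = 2 := by decide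
    have hor := hmul i hi j hj (by
      rw [← hai, ← hcj', ← key, hd3]
      exact Nat.mul_le_mul h27O (le_of_eq (by norm_num)))
    have hxts : ∀ q ∈ E1, Commute q D.s := by
      rintro _ ⟨q, hq, rfl⟩
      have h1 := hcj (show Commute q D.t from mem_centralizer_singleton_iff.1 (hEle hq).1.1)
      rwa [show MulAut.conj F.x D.t = D.s from F.xt] at h1
    have hxts2 : ∀ q ∈ E2, Commute q (D.s * D.t) := by
      rintro _ ⟨q, hq, rfl⟩
      have h1 := hcj (hxts q hq)
      rwa [show MulAut.conj F.x D.s = D.s * D.t from F.xs] at h1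
    have hle1 : E1 ≤ O → 9 ≤ a := fun h => hE1c ▸ card_le_of_le (le_inf h fun q hq =>
      mem_centralizer_singleton_iff.2 (hxts q hq).eq)
    have hle2 : E2 ≤ O → 9 ≤ c := fun h => hE2c ▸ card_le_of_le (le_inf h fun q hq =>
      mem_centralizer_singleton_iff.2 (hxts2 q hq).eq)
    have hale : a ≤ 9 := Nat.le_of_dvd (by norm_num) ha9
    have hcle : c ≤ 9 := Nat.le_of_dvd (by norm_num) hc9
    rcases hor with rfl | rfl
    · have ha' : a = 9 := hai.trans (by norm_num)
      have h1 : E1 ≤ O := (eq_of_le_of_card_ge hOs (by rw [hE1c, ← ha, ha'])).ge.trans inf_le_left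
      exact ⟨ha', le_antisymm hcle (hle2 (h12 h1))⟩
    · have hc' : c = 9 := hcj'.trans (by norm_num)
      have h2 : E2 ≤ O := (eq_of_le_of_card_ge hOst (by rw [hE2c, ← hc, hc'])).ge.trans inf_le_left
      exact ⟨le_antisymm hale (hle1 (h21 h2)), hc'⟩
  obtain ⟨ha', hc'⟩ := hac
  have hO81 : Nat.card O = 81 := by
    rw [hd3, ha', hc'] at key
    omega
  have hE1O : E1 ≤ O := (eq_of_le_of_card_ge hOs (by rw [hE1c, ← ha, ha'])).ge.trans inf_le_left
  have hE1s : E1 = O ⊓ centralizer ({D.s} : Set G) :=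
    (eq_of_le_of_card_ge hOs (by rw [hE1c, ← ha, ha'])).symm
  have hE2st : E2 = O ⊓ centralizer ({D.s * D.t} : Set G) :=
    (eq_of_le_of_card_ge hOst (by rw [hE2c, ← hc, hc'])).symm
  have hE2O : E2 ≤ O := hE2st ▸ inf_le_left
  -- generation
  set K := D.E ⊔ E1 ⊔ E2 with hK
  have hKO : K ≤ O := sup_le (sup_le hEO hE1O) hE2O
  have hinv : ∀ (i v : G), i ∈ normalizer (D.E : Set G) → Commute i v →
      ∀ w ∈ O ⊓ centralizer ({v} : Set G), i * w * i⁻¹ ∈ O ⊓ centralizer ({v} : Set G) := by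
    intro i v hi hiv w hw
    refine ⟨hNO i hi w hw.1, mem_centralizer_singleton_iff.2 ?_⟩
    have hwv := mem_centralizer_singleton_iff.1 hw.2
    exact ((hiv.mul_left hwv).mul_left hiv.inv_left).eq
  have hKinv : ∀ i, i ∈ normalizer (D.E : Set G) → Commute i D.t → Commute i D.s →
      ∀ w ∈ K, i * w * i⁻¹ ∈ K := by
    intro i hi hit his
    have hle : K ≤ K.comap (MulAut.conj i).toMonoidHom := by
      refine sup_le (sup_le (fun w hw => ?_) fun w hw => ?_) fun w hw => ?_
      · exact mem_sup_left (mem_sup_left ((mem_normalizer_iff.1 hi w).1 hw))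
      · exact mem_sup_left (mem_sup_right (hE1s.ge (hinv i _ hi his w (hE1s.le hw))))
      · exact mem_sup_right (hE2st.ge (hinv i _ hi (his.mul_right hit) w (hE2st.le hw)))
    exact fun w hw => hle hw
  have hKeq : K = O := by
    refine eq_of_le_of_card_ge hKO ?_
    have key2 := CentFour.four_formula_subgroup K (hOodd.of_dvd_nat (card_dvd_of_le hKO)) htt hss hts
      (hKinv D.t htN (Commute.refl _) hts) (hKinv D.s hsN hst (Commute.refl _))
    rw [hts.eq] at key2
    have l1 : 9 ≤ Nat.card (K ⊓ centralizer ({D.t} : Set G) : Subgroup G) := hEc ▸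
      card_le_of_le (le_inf (le_sup_left.trans le_sup_left) fun e he => (hEle he).1.1)
    have l2 : 9 ≤ Nat.card (K ⊓ centralizer ({D.s} : Set G) : Subgroup G) := hE1c ▸
      card_le_of_le (le_inf (le_sup_right.trans le_sup_left) (hE1s.le.trans inf_le_right))
    have l3 : 9 ≤ Nat.card (K ⊓ centralizer ({D.s * D.t} : Set G) : Subgroup G) := hE2c ▸
      card_le_of_le (le_inf le_sup_right (hE2st.le.trans inf_le_right))
    have l0 : Nat.card (K ⊓ centralizer ({D.t, D.s} : Set G) : Subgroup G) ≤ 3 := by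
      rw [← hd3]; exact card_le_of_le (inf_le_inf_right _ hKO)
    rw [hO81]
    have h729 := Nat.mul_le_mul (Nat.mul_le_mul l1 l2) l3
    rw [← key2] at h729
    have := Nat.mul_le_mul_left (Nat.card K) (Nat.pow_le_pow_left l0 2)
    omega
  -- commutativity
  have hEOc : ∀ e ∈ D.E, ∀ o ∈ O, Commute o e := fun e he o ho => (hEM o).1 (hOM ho) e he
  have hconjc : ∀ p q : G, Commute p q → Commute (MulAut.conj F.x p) (MulAut.conj F.x q) :=
    fun p q hpq => hpq.map (MulAut.conj F.x).toMonoidHom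
  have hpair : ∀ p ∈ E1, ∀ q ∈ O, q ∈ D.E ∨ q ∈ E1 ∨ q ∈ E2 → Commute q p := by
    rintro _ ⟨p, hp, rfl⟩ q hq (h | ⟨v, hv, rfl⟩ | ⟨v, hv, rfl⟩)
    · exact (hEOc q h _ (hE1O ⟨p, hp, rfl⟩)).symm
    · exact hconjc v p (hEOc p hp v (hEO hv))
    · exact hconjc v p (hEOc p hp v (hE1O hv))
  have hKc : K ≤ centralizer (K : Set G) := by
    have hgen : ∀ p : G, p ∈ D.E ∨ p ∈ E1 ∨ p ∈ E2 → ∀ q : G, q ∈ D.E ∨ q ∈ E1 ∨ q ∈ E2 →
        Commute p q := by
      have hin : ∀ p : G, p ∈ D.E ∨ p ∈ E1 ∨ p ∈ E2 → p ∈ O := fun p hp => by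
        rcases hp with h | h | h
        · exact hEO h
        · exact hE1O h
        · exact hE2O h
      intro p hp q hq
      rcases hp with h | h | h
      · exact (hEOc p h q (hin q hq)).symm
      · exact (hpair p h q (hin q hq) hq).symm
      · rcases hq with h' | h' | h'
        · exact hEOc q h' p (hE2O h)
        · exact hpair q h' p (hE2O h) (Or.inr (Or.inr h))
        · obtain ⟨v, hv, rfl⟩ := h; obtain ⟨w, hw, rfl⟩ := h'
          obtain ⟨v', hv', rfl⟩ := hv; obtain ⟨w', hw', rfl⟩ := hw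
          exact hconjc _ _ (hconjc _ _ (hEOc w' hw' v' (hEO hv')))
    have hle : ∀ q : G, q ∈ D.E ∨ q ∈ E1 ∨ q ∈ E2 → K ≤ centralizer ({q} : Set G) := fun q hq =>
      sup_le (sup_le (fun p hp => mem_centralizer_singleton_iff.2 (hgen p (Or.inl hp) q hq).eq)
        fun p hp => mem_centralizer_singleton_iff.2 (hgen p (Or.inr (Or.inl hp)) q hq).eq)
        fun p hp => mem_centralizer_singleton_iff.2 (hgen p (Or.inr (Or.inr hp)) q hq).eq
    have hflip : ∀ q : G, (q ∈ D.E ∨ q ∈ E1 ∨ q ∈ E2) → q ∈ centralizer (K : Set G) := fun q hq =>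
      mem_centralizer_iff.2 fun k hk => mem_centralizer_singleton_iff.1 (hle q hq hk)
    exact sup_le (sup_le (fun q hq => hflip q (Or.inl hq)) fun q hq => hflip q (Or.inr (Or.inl hq)))
      fun q hq => hflip q (Or.inr (Or.inr hq))
  have hcommO : ∀ p ∈ O, ∀ q ∈ O, p * q = q * p := fun p hp q hq =>
    (mem_centralizer_iff.1 (hKc (hKeq.ge hp)) q (hKeq.ge hq)).symm
  have hexp : ∀ p ∈ O, p ^ 3 = 1 := by
    let R : Subgroup G :=
      { carrier := {p | p ∈ O ∧ p ^ 3 = 1}
        one_mem' := ⟨one_mem _, one_pow 3⟩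
        mul_mem' := fun {p q} hp hq => ⟨mul_mem hp.1 hq.1, by
          rw [(show Commute p q from hcommO p hp.1 q hq.1).mul_pow, hp.2, hq.2, one_mul]⟩
        inv_mem' := fun {p} hp => ⟨inv_mem hp.1, by rw [inv_pow, hp.2, inv_one]⟩ }
    have hm : ∀ p ∈ D.E, MulAut.conj F.x p ^ 3 = 1 := fun p hp => by rw [← map_pow, hE3 p hp, map_one]
    have hle : K ≤ R := by
      refine sup_le (sup_le (fun p hp => ⟨hEO hp, hE3 p hp⟩) ?_) ?_
      · rintro _ ⟨p, hp, rfl⟩
        exact ⟨hE1O ⟨p, hp, rfl⟩, hm p hp⟩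
      · rintro _ ⟨_, ⟨p, hp, rfl⟩, rfl⟩
        refine ⟨hE2O ⟨_, ⟨p, hp, rfl⟩, rfl⟩, ?_⟩
        show MulAut.conj F.x (MulAut.conj F.x p) ^ 3 = 1
        rw [← map_pow, hm p hp, map_one]
    exact fun p hp => (hle (hKeq.ge hp)).2
  -- `x` normalizes
  have hx3 : ∀ p ∈ D.E, F.x * (F.x * (F.x * p * F.x⁻¹) * F.x⁻¹) * F.x⁻¹ ∈ D.E := by
    intro p hp
    rw [show F.x * (F.x * (F.x * p * F.x⁻¹) * F.x⁻¹) * F.x⁻¹ = F.x ^ 3 * p * (F.x ^ 3)⁻¹ by
      rw [pow_succ, pow_two]; group]
    exact (mem_normalizer_iff.1 hx3N p).1 hp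
  have hxN : F.x ∈ normalizer (O : Set G) := by
    rw [mem_normalizer_iff_map_conj_eq]
    refine eq_of_le_of_card_ge ?_ (card_map_of_injective (MulAut.conj F.x).injective).ge
    calc O.map (MulAut.conj F.x).toMonoidHom = K.map (MulAut.conj F.x).toMonoidHom := by rw [hKeq]
      _ = E1 ⊔ E2 ⊔ E2.map (MulAut.conj F.x).toMonoidHom := by rw [hK, Subgroup.map_sup, Subgroup.map_sup]
      _ ≤ O := sup_le (sup_le hE1O hE2O) (by
          rintro _ ⟨_, ⟨_, ⟨p, hp, rfl⟩, rfl⟩, rfl⟩
          exact hEO (hx3 p hp))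
  have hNN : ∀ g ∈ normalizer (D.E : Set G), g ∈ normalizer (O : Set G) := fun g hg => by
    rw [mem_normalizer_iff_map_conj_eq]
    refine eq_of_le_of_card_ge ?_ (card_map_of_injective (MulAut.conj g).injective).ge
    rintro _ ⟨o, ho, rfl⟩
    exact hNO g hg o ho
  -- the element of type `w` inverted by `t`
  set w1 := D.z⁻¹ * D.b with hw1
  have hew : D.e * D.w * D.e⁻¹ = w1 := by
    rw [Cov.w, ← conj_mul, D.ez, D.eb]
  refine ⟨{
    J := O
    cardJ := hO81
    commJ := hcommO
    expJ := hexp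
    zJ := hEO (subset_closure (by simp))
    bJ := hEO (subset_closure (by simp))
    tJ := hNN _ htN
    sJ := hNN _ hsN
    xJ := hxN
    tfix := fun p hp hc => hOt ▸ ⟨hp, mem_centralizer_singleton_iff.2 hc.eq.symm⟩
    cardCE := by rw [hMc, hO81]
    normE := hodd_mem
    wtype := ⟨F.x * w1 * F.x⁻¹, ?_, ?_, ?_, F.x * D.e, ?_⟩ }⟩
  · exact hE1O ⟨w1, mul_mem (inv_mem (subset_closure (by simp))) (subset_closure (by simp)), rfl⟩
  · intro h
    rw [conj_eq_one_iff, ← hew, conj_eq_one_iff] at h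
    have hbz : D.b = D.z⁻¹ := eq_inv_of_mul_eq_one_right h
    have hpi := congrArg (fun p : alternatingGroup (Fin 8) => (p : Perm (Fin 8)) 3)
      (congrArg D.π (show (⟨D.b, D.mem_b⟩ : centralizer ({D.t} : Set G)) = ⟨D.z, D.mem_z⟩⁻¹
        from Subtype.ext hbz))
    simp only [map_inv, Subgroup.coe_inv, D.π_b, D.π_z] at hpi
    exact absurd hpi (by decide)
  · have hxi : F.x⁻¹ * D.t * F.x = D.s * D.t := by
      calc F.x⁻¹ * D.t * F.x = F.x⁻¹ * (F.x * (D.s * D.t) * F.x⁻¹) * F.x := by rw [hxst]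
        _ = D.s * D.t := by group
    have hstw : D.s * D.t * w1 * (D.s * D.t)⁻¹ = w1⁻¹ := by
      have htw1 : D.t * w1 * D.t⁻¹ = w1 := by
        rw [(mem_centralizer_singleton_iff.1 (mul_mem (inv_mem D.mem_z) D.mem_b :
          w1 ∈ centralizer ({D.t} : Set G))).symm, mul_inv_cancel_right]
      rw [show D.s * D.t * w1 * (D.s * D.t)⁻¹ = D.s * (D.t * w1 * D.t⁻¹) * D.s⁻¹ by group, htw1,
        hw1, ← conj_mul, ← conj_inv, D.sz, D.sb, mul_inv_rev, inv_inv]
    calc D.t * (F.x * w1 * F.x⁻¹) * D.t⁻¹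
        = F.x * (F.x⁻¹ * D.t * F.x * w1 * (F.x⁻¹ * D.t * F.x)⁻¹) * F.x⁻¹ := by group
      _ = F.x * w1⁻¹ * F.x⁻¹ := by rw [hxi, hstw]
      _ = (F.x * w1 * F.x⁻¹)⁻¹ := by group
  · rw [← hew]; group

end CfsgLib.McLDouble
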