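import Cfsg.Agent.Lib.McLDouble.Three
import Cfsg.Agent.Lib.McLDouble.JLocal

/-!
# The centraliser of `w`: the normalizer of `J`

`Y = C(w)` has the four group `⟨t, s⟩` as Sylow 2-subgroup, one class of involutions with
centralisers of order 36 inside `N(J)`, and `|Y ∩ N(J)| = 972`.
-/

set_option autoImplicit false

namespace CfsgLib.McLDouble.CentW

open Subgroup Three9

universe u

variable {G : Type u} [Group G] [Finite G] {D : Cov G} {F : Fused D}

theorem w_cube (D : Cov G) : D.w ^ 3 = 1 := by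
  rw [Cov.w, D.zb.mul_pow, zz, bb, one_mul]

theorem w_ord (D : Cov G) : orderOf D.w = 3 := by
  have : Fact (Nat.Prime 3) := ⟨Nat.prime_three⟩
  refine orderOf_eq_prime (w_cube D) fun h1 => b_notin_z D ?_
  rw [eq_inv_of_mul_eq_one_right h1]
  exact inv_mem (mem_zpowers _)

theorem E_le_J (J : JData D F) : D.E ≤ J.J := (closure_le _).2 (by
  rintro v (rfl | rfl)
  · exact J.zJ
  · exact J.bJ)

theorem w_mem_E (D : Cov G) : D.w ∈ D.E :=
  mul_mem (subset_closure (Set.mem_insert _ _)) (subset_closure (Set.mem_insert_of_mem _ rfl))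

theorem J_le_Y (J : JData D F) : J.J ≤ centralizer ({D.w} : Set G) := fun a ha =>
  mem_centralizer_singleton_iff.2 (J.commJ a ha _ (E_le_J J (w_mem_E D)))

theorem J_inf_t (J : JData D F) : J.J ⊓ centralizer ({D.t} : Set G) = D.E :=
  le_antisymm (fun a ha => J.tfix a ha.1 ((mem_C D).1 ha.2).symm)
    fun a ha => ⟨E_le_J J ha, (D.card_E.2.2 ha).1.1⟩

theorem J_odd (J : JData D F) : Odd (Nat.card J.J) := by rw [J.cardJ]; decide

theorem four_le_Y (D : Cov G) : four D ≤ centralizer ({D.w} : Set G) := by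
  rintro v (rfl | rfl | rfl | rfl) <;> refine mem_centralizer_singleton_iff.2 ?_
  exacts [(Commute.one_left _).eq, (comm_tw D).eq, (comm_sw D).eq,
    ((comm_sw D).mul_left (comm_tw D)).eq]

theorem four_le_NJ (J : JData D F) : four D ≤ normalizer (J.J : Set G) := by
  rintro v (rfl | rfl | rfl | rfl)
  exacts [one_mem _, J.tJ, J.sJ, mul_mem J.sJ J.tJ]

/-- The group `Y ∩ N(J)`. -/
def NJ (J : JData D F) : Subgroup G :=
  centralizer ({D.w} : Set G) ⊓ normalizer (J.J : Set G)

theorem J_le_NJ (J : JData D F) : J.J ≤ NJ J := le_inf (J_le_Y J) le_normalizer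

theorem four_le_NJ' (J : JData D F) : four D ≤ NJ J := le_inf (four_le_Y D) (four_le_NJ J)

theorem x_mem_NJ (J : JData D F) : F.x ∈ NJ J :=
  ⟨mem_centralizer_singleton_iff.2 F.xw.eq, J.xJ⟩

theorem card_Ct (D : Cov G) :
    Nat.card (centralizer ({D.w} : Set G) ⊓ centralizer ({D.t} : Set G) : Subgroup G) = 36 := by
  rw [inf_comm]; exact D.cardTw

theorem Ct_le_NJ (J : JData D F) :
    centralizer ({D.w} : Set G) ⊓ centralizer ({D.t} : Set G) ≤ NJ J := by
  set T := centralizer ({D.w} : Set G) ⊓ centralizer ({D.t} : Set G) with hT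
  have hV : four D ≤ T ⊓ NJ J := le_inf (le_inf (four_le_Y D) (by
    rintro v (rfl | rfl | rfl | rfl) <;> refine (mem_C D).2 ?_
    exacts [Commute.one_left _, Commute.refl _, (comm_ts D).symm,
      (comm_ts D).symm.mul_left (Commute.refl _)])) (four_le_NJ' J)
  have hE : D.E ≤ T ⊓ NJ J := le_inf
    (le_inf ((E_le_J J).trans (J_le_Y J)) (J_inf_t J ▸ inf_le_right))
    ((E_le_J J).trans (J_le_NJ J))
  have h4 : Nat.card (four D) = 4 := le_antisymm
    (card_le_four D F (pow2_card_V D) fun v hv =>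
      mem_centralizer_singleton_iff.1 (four_le_Y D hv)) (card_V_ge D)
  have h36 : 36 ∣ Nat.card (T ⊓ NJ J : Subgroup G) :=
    Nat.Coprime.mul_dvd_of_dvd_of_dvd (show Nat.Coprime 4 9 by norm_num)
      (h4 ▸ card_dvd_of_le hV) (D.card_E.1 ▸ card_dvd_of_le hE)
  have : T ⊓ NJ J = T := eq_of_le_of_card_ge inf_le_left
    ((card_Ct D).trans_le (Nat.le_of_dvd Nat.card_pos h36))
  exact this ▸ inf_le_right

/-- All involutions of a subgroup of `Y` containing `t`, `s`, `x` are conjugate to `t`. -/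
theorem invol_conj {H : Subgroup G} (hHY : H ≤ centralizer ({D.w} : Set G))
    (hV : four D ≤ H) (hx : F.x ∈ H) {i : G} (hi : i ∈ H) (ho : orderOf i = 2) :
    ∃ h ∈ H, h * D.t * h⁻¹ = i := by
  obtain ⟨P, hVP, hPH, hP, h, hh, hcj⟩ := exists_conj_into (pow2_card_V D) hV
    (IsPGroup.of_card (n := 1) (by rw [Nat.card_zpowers, ho, pow_one]) : IsPGroup 2 (zpowers i))
    (zpowers_le.2 hi)
  have hPe : P = four D := (eq_of_le_of_card_ge hVP
    ((card_le_four D F hP fun v hv => mem_centralizer_singleton_iff.1 (hHY (hPH hv))).trans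
      (card_V_ge D))).symm
  have hv := hcj i (mem_zpowers i)
  rw [hPe] at hv
  have key : ∀ v : G, ∀ g ∈ H, g * D.t * g⁻¹ = v → h * i * h⁻¹ = v →
      ∃ h ∈ H, h * D.t * h⁻¹ = i := fun v g hg e1 e2 =>
    ⟨h⁻¹ * g, mul_mem (inv_mem hh) hg, by
      calc h⁻¹ * g * D.t * (h⁻¹ * g)⁻¹ = h⁻¹ * (g * D.t * g⁻¹) * h := by group
        _ = h⁻¹ * (h * i * h⁻¹) * h := by rw [e1, e2]
        _ = i := by group⟩
  rcases hv with h1 | h1 | h1 | h1
  · rw [conj_eq_one_iff] at h1
    rw [h1, orderOf_one] at ho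
    omega
  · exact key D.t 1 (one_mem _) (by group) h1
  · exact key D.s F.x hx F.xt h1
  · refine key (D.s * D.t) (F.x * F.x) (mul_mem hx hx) ?_ h1
    rw [← F.xs, ← F.xt]; group

/-- The number of involutions of such a subgroup. -/
theorem card_invol {H : Subgroup G} (hHY : H ≤ centralizer ({D.w} : Set G))
    (hV : four D ≤ H) (hx : F.x ∈ H)
    (hC : centralizer ({D.w} : Set G) ⊓ centralizer ({D.t} : Set G) ≤ H) :
    Nat.card H = 36 * Nat.card {i : G // i ∈ H ∧ orderOf i = 2} := by
  classical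
  set T := (centralizer ({D.t} : Set G)).subgroupOf H with hT
  have hTc : Nat.card T = 36 := by
    rw [← card_Ct D]
    exact Nat.card_congr
      { toFun := fun q : T => (⟨((q : H) : G), hHY q.1.2, q.2⟩ :
          (centralizer ({D.w} : Set G) ⊓ centralizer ({D.t} : Set G) : Subgroup G))
        invFun := fun q => (⟨⟨(q : G), hC q.2⟩, q.2.2⟩ : T)
        left_inv := fun q => rfl
        right_inv := fun q => rfl }
  have htH : D.t ∈ H := hV (Or.inr (Or.inl rfl))
  let f : H ⧸ T → {i : G // i ∈ H ∧ orderOf i = 2} := fun q =>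
    ⟨(q.out : G) * D.t * (q.out : G)⁻¹, mul_mem (mul_mem q.out.2 htH) (inv_mem q.out.2), by
      rw [← MulAut.conj_apply, MulEquiv.orderOf_eq, D.ord_t]⟩
  have hcomm : ∀ p q : H, (p : G) * D.t * (p : G)⁻¹ = (q : G) * D.t * (q : G)⁻¹ →
      (p : H ⧸ T) = (q : H ⧸ T) := by
    intro p q e
    refine QuotientGroup.eq.2 ((mem_C D).2 ?_)
    show (p : G)⁻¹ * (q : G) * D.t = D.t * ((p : G)⁻¹ * (q : G))
    calc (p : G)⁻¹ * (q : G) * D.t
        = (p : G)⁻¹ * ((q : G) * D.t * (q : G)⁻¹) * (q : G) := by group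
      _ = D.t * ((p : G)⁻¹ * (q : G)) := by rw [← e]; group
  have hf : Function.Bijective f := by
    refine ⟨fun p q e => ?_, fun i => ?_⟩
    · have e' := hcomm _ _ (congrArg Subtype.val e)
      rwa [QuotientGroup.out_eq', QuotientGroup.out_eq'] at e'
    · obtain ⟨h, hh, he⟩ := invol_conj hHY hV hx i.2.1 i.2.2
      refine ⟨((⟨h, hh⟩ : H) : H ⧸ T), Subtype.ext ?_⟩
      obtain ⟨c, hc⟩ := QuotientGroup.mk_out_eq_mul T (⟨h, hh⟩ : H)
      show ((_ : H) : G) * D.t * ((_ : H) : G)⁻¹ = i
      rw [hc]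
      have hct : Commute ((c : H) : G) D.t := (mem_C D).1 c.2
      calc h * ((c : H) : G) * D.t * (h * ((c : H) : G))⁻¹
          = h * (((c : H) : G) * D.t * ((c : H) : G)⁻¹) * h⁻¹ := by group
        _ = i := by rw [hct.eq, mul_inv_cancel_right, he]
  rw [← T.card_mul_index, hTc, index_eq_card, Nat.card_congr (Equiv.ofBijective f hf)]

/-- An odd subgroup of `Y` containing `J` and normalised by `t` and `s` is `J`. -/
theorem eq_J_of_odd (J : JData D F) {Q : Subgroup G} (hQ : Q ≤ centralizer ({D.w} : Set G))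
    (hodd : Odd (Nat.card Q)) (hJQ : J.J ≤ Q) (ht : ∀ q ∈ Q, D.t * q * D.t⁻¹ ∈ Q)
    (hs : ∀ q ∈ Q, D.s * q * D.s⁻¹ ∈ Q) : Q = J.J := by
  refine (eq_of_le_of_card_ge hJQ ?_).symm
  have key := CentFour.four_formula_subgroup Q hodd (tt D) (ss D) (comm_ts D) ht hs
  have hbd : ∀ g : G, Commute g D.w → ∀ i : G, g * D.t * g⁻¹ = i →
      Nat.card (Q ⊓ centralizer ({i} : Set G) : Subgroup G) ≤ 9 := by
    intro g hg i hi
    set R := (Q ⊓ centralizer ({i} : Set G)).map (MulAut.conj g⁻¹).toMonoidHom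
    have hR : R ≤ centralizer ({D.w} : Set G) ⊓ centralizer ({D.t} : Set G) := by
      rintro _ ⟨q, hq, rfl⟩
      have hqi : Commute q i := mem_centralizer_singleton_iff.1 hq.2
      have hqw : Commute q D.w := mem_centralizer_singleton_iff.1 (hQ hq.1)
      have e : g⁻¹ * i * g = D.t := by rw [← hi]; group
      have e' : g⁻¹ * D.w * g = D.w := by rw [mul_assoc, ← hg.eq, inv_mul_cancel_left]
      refine ⟨mem_centralizer_singleton_iff.2 ?_, mem_centralizer_singleton_iff.2 ?_⟩
      · have := hqw.map (MulAut.conj g⁻¹).toMonoidHom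
        exact (show Commute (MulAut.conj g⁻¹ q) D.w by simpa [e'] using this).eq
      · have := hqi.map (MulAut.conj g⁻¹).toMonoidHom
        exact (show Commute (MulAut.conj g⁻¹ q) D.t by simpa [e] using this).eq
    have h1 : Nat.card (Q ⊓ centralizer ({i} : Set G) : Subgroup G) ∣ 9 * 4 := by
      rw [← card_map_of_injective (f := (MulAut.conj g⁻¹).toMonoidHom) (MulAut.conj g⁻¹).injective]
      exact (card_Ct D ▸ card_dvd_of_le hR : Nat.card R ∣ 36)
    have h2 : Odd (Nat.card (Q ⊓ centralizer ({i} : Set G) : Subgroup G)) :=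
      hodd.of_dvd_nat (card_dvd_of_le inf_le_left)
    exact Nat.le_of_dvd (by norm_num)
      (((Nat.coprime_two_right.2 h2).pow_right 2).dvd_of_dvd_mul_right h1)
  have b1 := hbd 1 (Commute.one_left _) D.t (by group)
  have b2 := hbd F.x F.xw D.s F.xt
  have b3 := hbd (F.x * F.x) (F.xw.mul_left F.xw) (D.t * D.s)
    (by rw [(comm_ts D).eq, ← F.xs, ← F.xt]; group)
  have b0 : 3 ≤ Nat.card (Q ⊓ centralizer ({D.t, D.s} : Set G) : Subgroup G) := by
    rw [← w_ord D, ← Nat.card_zpowers]
    refine card_le_of_le (zpowers_le.2 ⟨hJQ (E_le_J J (w_mem_E D)), ?_⟩)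
    show D.w ∈ centralizer ({D.t, D.s} : Set G)
    rw [mem_centralizer_iff]
    rintro v (rfl | rfl)
    · exact (comm_tw D).eq
    · exact (comm_sw D).eq
  rw [J.cardJ]
  have h1 := Nat.mul_le_mul (Nat.mul_le_mul b1 b2) b3
  rw [← key] at h1
  have h2 := Nat.mul_le_mul_left (Nat.card Q) (Nat.pow_le_pow_left b0 2)
  omega

theorem card_NJ (J : JData D F) : Nat.card (NJ J) = 972 := by
  classical
  have h2f : Fact (Nat.Prime 2) := ⟨Nat.prime_two⟩
  have h3f : Fact (Nat.Prime 3) := ⟨Nat.prime_three⟩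
  set N := NJ J with hN
  set B := N ⊓ normalizer (D.E : Set G) with hB
  have hJB : J.J ≤ B := le_inf (J_le_NJ J) fun a ha => by
    rw [mem_normalizer_iff]
    intro e
    have hc : ∀ e ∈ D.E, a * e * a⁻¹ = e := fun e he => by
      rw [J.commJ a ha e (E_le_J J he), mul_inv_cancel_right]
    refine ⟨fun he => (hc e he).symm ▸ he, fun he => ?_⟩
    have he' : a * (a * e * a⁻¹) = a * e * a⁻¹ * a := J.commJ a ha _ (E_le_J J he)
    rwa [show a * e * a⁻¹ = e by
      calc a * e * a⁻¹ = a⁻¹ * (a * (a * e * a⁻¹)) := by group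
        _ = e := by rw [he']; group] at he
  have hJn : (J.J.subgroupOf B).Normal :=
    normal_subgroupOf_of_le_normalizer (inf_le_left.trans inf_le_right)
  -- the index of `J` in `B` is a power of two
  have hBq : IsPGroup 2 (B ⧸ J.J.subgroupOf B) := by
    intro q
    obtain ⟨y, rfl⟩ := QuotientGroup.mk'_surjective _ q
    obtain ⟨a, m, hm, hy⟩ := Nat.exists_eq_two_pow_mul_odd (orderOf_pos y).ne'
    refine ⟨a, ?_⟩
    rw [← map_pow]
    refine (QuotientGroup.eq_one_iff _).2 ?_
    show ((y ^ 2 ^ a : B) : G) ∈ J.J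
    refine J.normE _ (y ^ 2 ^ a).2.2 ?_
    rw [Subgroup.orderOf_coe, orderOf_pow, hy, Nat.gcd_mul_right_left,
      Nat.mul_div_cancel_left _ (pow_pos two_pos a)]
    exact hm
  obtain ⟨k, hk⟩ := hBq.exists_card_eq
  have hVB : four D ≤ B := by
    refine le_inf (four_le_NJ' J) ?_
    have ht : D.t ∈ normalizer (D.E : Set G) := by
      refine mem_normalizer_closure_pair ?_ ?_
      · rw [(comm_tz D).eq, mul_inv_cancel_right]; exact subset_closure (Set.mem_insert _ _)
      · rw [(comm_tb D).eq, mul_inv_cancel_right]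
        exact subset_closure (Set.mem_insert_of_mem _ rfl)
    have hs : D.s ∈ normalizer (D.E : Set G) := mem_normalizer_closure_pair
      (by rw [D.sz]; exact subset_closure (Set.mem_insert_of_mem _ rfl))
      (by rw [D.sb]; exact subset_closure (Set.mem_insert _ _))
    rintro v (rfl | rfl | rfl | rfl)
    exacts [one_mem _, ht, hs, mul_mem hs ht]
  have h4 : Nat.card (four D) = 4 := le_antisymm
    (card_le_four D F (pow2_card_V D) fun v hv =>
      mem_centralizer_singleton_iff.1 (four_le_Y D hv)) (card_V_ge D)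
  have hBY : B ≤ centralizer ({D.w} : Set G) := inf_le_left.trans inf_le_left
  have hBc : Nat.card B = 324 := by
    have h1 := card_mul_index (J.J.subgroupOf B)
    rw [Nat.card_congr (subgroupOfEquivOfLe hJB).toEquiv, J.cardJ, index_eq_card, hk] at h1
    have h2 : 4 ∣ 81 * 2 ^ k := h1 ▸ h4 ▸ card_dvd_of_le hVB
    obtain ⟨R, hR⟩ := Sylow.exists_subgroup_card_pow_prime 2 (G := B) (n := k)
      (h1 ▸ Dvd.intro_left 81 rfl)
    have h3 : 2 ^ k ≤ 4 := by
      have := card_le_four D F (K := R.map B.subtype) ((IsPGroup.of_card hR).map _) fun v hv =>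
        mem_centralizer_singleton_iff.1 (hBY (map_subtype_le R hv))
      rwa [card_map_of_injective B.subtype_injective, hR] at this
    have h5 : 4 ∣ 2 ^ k := (show Nat.Coprime 4 81 by norm_num).dvd_of_dvd_mul_left h2
    have := Nat.le_of_dvd (by positivity) h5
    omega
  -- the conjugates of `E` in `J`
  set B' := B.subgroupOf N with hB'
  have hNc : Nat.card N = 324 * B'.index := by
    rw [← hBc, ← Nat.card_congr (subgroupOfEquivOfLe (inf_le_left : B ≤ N)).toEquiv,
      card_mul_index]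
  have hEW : Nat.card {e : D.E // (e : G) ∉ zpowers D.w} = 6 := by
    have h1 : Nat.card {e : D.E // (e : G) ∈ zpowers D.w} = 3 := by
      rw [← w_ord D, ← Nat.card_zpowers]
      exact Nat.card_congr
        { toFun := fun e => ⟨(e.1 : G), e.2⟩
          invFun := fun v => ⟨⟨(v : G), zpowers_le.2 (w_mem_E D) v.2⟩, v.2⟩
          left_inv := fun _ => rfl
          right_inv := fun _ => rfl }
    have h2 := Nat.card_congr (Equiv.sumCompl (fun e : D.E => (e : G) ∈ zpowers D.w))
    rw [Nat.card_sum, h1, D.card_E.1] at h2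
    omega
  have hJW : Nat.card {a : J.J // (a : G) ∉ zpowers D.w} = 78 := by
    have h1 : Nat.card {a : J.J // (a : G) ∈ zpowers D.w} = 3 := by
      rw [← w_ord D, ← Nat.card_zpowers]
      exact Nat.card_congr
        { toFun := fun e => ⟨(e.1 : G), e.2⟩
          invFun := fun v => ⟨⟨(v : G), zpowers_le.2 (E_le_J J (w_mem_E D)) v.2⟩, v.2⟩
          left_inv := fun _ => rfl
          right_inv := fun _ => rfl }
    have h2 := Nat.card_congr (Equiv.sumCompl (fun e : J.J => (e : G) ∈ zpowers D.w))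
    rw [Nat.card_sum, h1, J.cardJ] at h2
    omega
  have hle13 : B'.index ≤ 13 := by
    rw [index_eq_card]
    have hclos : ∀ e ∈ D.E, e ∉ zpowers D.w → closure ({D.w, e} : Set G) = D.E := by
      intro e he hew
      have hle : closure ({D.w, e} : Set G) ≤ D.E :=
        (closure_le _).2 (Set.insert_subset (w_mem_E D) (Set.singleton_subset_iff.2 he))
      refine eq_of_le_of_card_ge hle ?_
      obtain ⟨n, -, hn⟩ := (Nat.dvd_prime_pow Nat.prime_three).1
        (show Nat.card (closure ({D.w, e} : Set G)) ∣ 3 ^ 2 from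
          (card_dvd_of_le hle).trans (by rw [D.card_E.1]; norm_num))
      rcases lt_or_ge n 2 with hn2 | hn2
      · exfalso
        refine hew ?_
        rw [show zpowers D.w = closure ({D.w, e} : Set G) from eq_of_le_of_card_ge
          (zpowers_le.2 (subset_closure (Set.mem_insert _ _))) (by
            rw [hn, Nat.card_zpowers, w_ord]
            calc 3 ^ n ≤ 3 ^ 1 := Nat.pow_le_pow_right (by norm_num) (by omega)
              _ = 3 := pow_one _)]
        exact subset_closure (Set.mem_insert_of_mem _ rfl)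
      · rw [D.card_E.1, hn]; exact Nat.pow_le_pow_right (n := 3) (by norm_num) hn2
    let f : (N ⧸ B') × {e : D.E // (e : G) ∉ zpowers D.w} →
        {a : J.J // (a : G) ∉ zpowers D.w} := fun p =>
      ⟨⟨(p.1.out : G) * (p.2.1 : G) * (p.1.out : G)⁻¹,
        (mem_normalizer_iff.1 p.1.out.2.2 _).1 (E_le_J J p.2.1.2)⟩, fun h => p.2.2 (by
          obtain ⟨i, hi⟩ := mem_zpowers_iff.1 h
          have hc : Commute (p.1.out : G) D.w := mem_centralizer_singleton_iff.1 p.1.out.2.1
          refine mem_zpowers_iff.2 ⟨i, ?_⟩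
          calc D.w ^ i = (p.1.out : G)⁻¹ * ((p.1.out : G) * D.w ^ i) := by group
            _ = (p.1.out : G)⁻¹ * (D.w ^ i * (p.1.out : G)) := by rw [(hc.zpow_right i).eq]
            _ = (p.2.1 : G) := by rw [hi]; group)⟩
    have hf : Function.Injective f := by
      rintro ⟨p, e⟩ ⟨q, e'⟩ heq
      have h0 : (p.out : G) * (e.1 : G) * (p.out : G)⁻¹ = (q.out : G) * (e'.1 : G) * (q.out : G)⁻¹ :=
        congrArg (fun a => ((a.1 : J.J) : G)) heq
      set c : G := (q.out : G)⁻¹ * (p.out : G) with hc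
      have h1 : c * (e.1 : G) * c⁻¹ = (e'.1 : G) := by
        calc c * (e.1 : G) * c⁻¹
            = (q.out : G)⁻¹ * ((p.out : G) * (e.1 : G) * (p.out : G)⁻¹) * (q.out : G) := by
              rw [hc]; group
          _ = _ := by rw [h0]; group
      have hcN : c ∈ N := mul_mem (inv_mem q.out.2) p.out.2
      have hcw : c * D.w * c⁻¹ = D.w := by
        rw [show c * D.w = D.w * c from mem_centralizer_singleton_iff.1 hcN.1, mul_inv_cancel_right]
      have hcE : c ∈ normalizer (D.E : Set G) := by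
        rw [mem_normalizer_iff_map_conj_eq]
        have himg := MonoidHom.map_closure (MulAut.conj c).toMonoidHom ({D.w, (e.1 : G)} : Set G)
        rw [hclos _ e.1.2 e.2, Set.image_pair] at himg
        have e1 : (MulAut.conj c).toMonoidHom D.w = D.w := hcw
        have e2 : (MulAut.conj c).toMonoidHom (e.1 : G) = (e'.1 : G) := h1
        rw [e1, e2, hclos _ e'.1.2 e'.2] at himg
        exact himg
      have hpq : p = q := by
        rw [← QuotientGroup.out_eq' p, ← QuotientGroup.out_eq' q]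
        exact (QuotientGroup.eq.2 (show (q.out)⁻¹ * p.out ∈ B' from ⟨hcN, hcE⟩)).symm
      subst hpq
      have he : e = e' := Subtype.ext (Subtype.ext (by
        rw [show c = 1 by rw [hc, inv_mul_cancel]] at h1
        simpa using h1))
      rw [he]
    have := Nat.card_le_card_of_injective f hf
    rw [Nat.card_prod, hEW, hJW] at this
    omega
  -- parity and divisibility by three
  have hodd : Odd B'.index := by
    by_contra hev
    rw [Nat.not_odd_iff_even] at hev
    obtain ⟨c, hc⟩ := hev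
    obtain ⟨R, hR⟩ := Sylow.exists_subgroup_card_pow_prime 2 (G := N) (n := 3)
      (by rw [hNc, hc]; exact ⟨81 * c, by ring⟩)
    have := card_le_four D F (K := R.map N.subtype) ((IsPGroup.of_card hR).map _) fun v hv =>
      mem_centralizer_singleton_iff.1 (map_subtype_le R hv).1
    rw [card_map_of_injective N.subtype_injective, hR] at this
    norm_num at this
  have hxJ : F.x ∉ J.J := fun hx => by
    have h1 : D.s * D.t⁻¹ ∈ J.J := by
      rw [← F.xt, show F.x * D.t * F.x⁻¹ * D.t⁻¹ = F.x * (D.t * F.x⁻¹ * D.t⁻¹) by group]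
      exact mul_mem hx ((mem_normalizer_iff.1 J.tJ _).1 (inv_mem hx))
    have h2 : (D.s * D.t⁻¹) ^ 2 = 1 := by
      rw [(comm_ts D).symm.inv_right.mul_pow, inv_pow, sq, sq, ss, tt, inv_one, one_mul]
    have h3 := orderOf_dvd_of_pow_eq_one h2
    have h4 : Odd (orderOf (D.s * D.t⁻¹)) :=
      (J_odd J).of_dvd_nat (Subgroup.orderOf_dvd_natCard _ h1)
    rcases (Nat.dvd_prime Nat.prime_two).1 h3 with h5 | h5
    · exact D.s_ne (mul_inv_eq_one.1 (orderOf_eq_one_iff.1 h5))
    · rw [h5] at h4; exact absurd h4 (by decide)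
  have h3 : 3 ∣ B'.index := by
    set P := J.J ⊔ zpowers F.x with hP
    have hPn : P ≤ N := sup_le (J_le_NJ J) (zpowers_le.2 (x_mem_NJ J))
    obtain ⟨m, hm⟩ := F.xord
    have hJp : IsPGroup 3 J.J := IsPGroup.of_card (n := 4) (by rw [J.cardJ]; norm_num)
    have hPp : IsPGroup 3 P := hJp.to_sup_of_normal_left'
      (IsPGroup.of_card (n := m) (by rw [Nat.card_zpowers, hm])) (zpowers_le.2 J.xJ)
    obtain ⟨n, hn⟩ := hPp.exists_card_eq
    have hlt : Nat.card J.J < Nat.card P := by
      by_contra hle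
      push Not at hle
      exact hxJ ((eq_of_le_of_card_ge (le_sup_left : J.J ≤ P) hle).ge
        (mem_sup_right (mem_zpowers _)))
    rw [J.cardJ, hn] at hlt
    have hn5 : 5 ≤ n := by
      by_contra hh
      have := Nat.pow_le_pow_right (show 0 < 3 by norm_num) (show n ≤ 4 by omega)
      omega
    have h243 : 3 ^ 5 ∣ 324 * B'.index :=
      hNc ▸ ((pow_dvd_pow 3 hn5).trans (hn ▸ card_dvd_of_le hPn))
    omega
  -- nine conjugates would give a larger normal 3-subgroup
  have hne9 : B'.index ≠ 9 := by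
    intro h9
    rw [h9] at hNc
    let P : Sylow 3 N := default
    have hPc : Nat.card (P : Subgroup N) = 729 := by
      rw [P.card_eq_multiplicity, hNc, show (324 * 9 : ℕ) = 3 ^ 6 * 4 by norm_num,
        Nat.factorization_mul (by norm_num) (by norm_num), Finsupp.add_apply,
        Nat.prime_three.factorization_pow, Finsupp.single_eq_same,
        Nat.factorization_eq_zero_of_not_dvd (by norm_num : ¬ 3 ∣ 4)]
      norm_num
    have hPi : (P : Subgroup N).index = 4 := by
      have := (P : Subgroup N).card_mul_index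
      rw [hPc, hNc] at this
      omega
    set C := (P : Subgroup N).normalCore with hC
    have hCi : C.index ∣ 24 := by
      rw [hC, normalCore_eq_ker, index_ker]
      refine (card_subgroup_dvd_card _).trans ?_
      rw [Nat.card_perm, ← index_eq_card, hPi]
      exact dvd_rfl
    have hCm := C.card_mul_index
    rw [hNc] at hCm
    have hC9 : 81 < Nat.card C := by
      have := Nat.le_of_dvd (by norm_num) hCi
      by_contra hle
      push Not at hle
      have := Nat.mul_le_mul hle this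
      omega
    have hJn' : (J.J.subgroupOf N).Normal := normal_subgroupOf_of_le_normalizer inf_le_right
    have hJC : J.J.subgroupOf N ≤ C := by
      refine normal_le_normalCore.2 ?_
      have hJp : IsPGroup 3 (J.J.subgroupOf N) := IsPGroup.of_card (n := 4) (by
        rw [Nat.card_congr (subgroupOfEquivOfLe (J_le_NJ J)).toEquiv, J.cardJ]; norm_num)
      exact hJp.le_sylow_of_normal P
    set Q := C.map N.subtype with hQ
    have hQc : Nat.card Q = Nat.card C := card_map_of_injective N.subtype_injective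
    have hQodd : Odd (Nat.card Q) := by
      rw [hQc]
      exact (show Odd 729 by decide).of_dvd_nat (hPc ▸ card_dvd_of_le (normalCore_le _))
    have hinv : ∀ g ∈ N, ∀ q ∈ Q, g * q * g⁻¹ ∈ Q := by
      rintro g hg _ ⟨q, hq, rfl⟩
      exact ⟨⟨g, hg⟩ * q * ⟨g, hg⟩⁻¹, (normalCore_normal _).conj_mem q hq _, rfl⟩
    have hQJ := eq_J_of_odd J (Q := Q) ((map_subtype_le C).trans inf_le_left) hQodd
      (fun a ha => ⟨⟨a, J_le_NJ J ha⟩, hJC ha, rfl⟩)
      (hinv _ (four_le_NJ' J (Or.inr (Or.inl rfl))))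
      (hinv _ (four_le_NJ' J (Or.inr (Or.inr (Or.inl rfl)))))
    rw [hQJ, J.cardJ] at hQc
    omega
  obtain ⟨a, ha⟩ := h3
  obtain ⟨c, hc⟩ := hodd
  have : B'.index = 3 := by omega
  rw [hNc, this]

end CfsgLib.McLDouble.CentW
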