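import Cfsg.Agent.Lib.McLDouble.CentZCore
import Cfsg.Agent.Lib.Coprime.Basic

/-!
# The centralizer of `z`, III: the extraspecial group of order `243`

The odd core `O` of `C(z)` is a three-group since `C(w)` is a `{2, 3}`-group, has order at most `243`
by the count in `C(w₂)`, and has no invariant subgroup strictly between `⟨z⟩` and itself since
`C(t) ⊓ C(z)` has an element of order five.
-/

set_option autoImplicit false

namespace CfsgLib.McLDouble.CentZ

open Subgroup Equiv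

universe u

variable {G : Type u} [Group G]

theorem cube_z (D : Cov G) {c : G} (hc : c ∈ zpowers D.z) : c ^ 3 = 1 := by
  have h := Subgroup.orderOf_dvd_natCard (zpowers D.z) hc
  rw [Nat.card_zpowers, D.ord_z] at h
  exact orderOf_dvd_iff_pow_eq_one.1 h

theorem conj_pow_of_comm {r q c : G} (h : r * q * r⁻¹ = c * q) (hrc : Commute r c) :
    ∀ n : ℕ, r ^ n * q * (r ^ n)⁻¹ = c ^ n * q
  | 0 => by simp
  | n + 1 => by
    calc r ^ (n + 1) * q * (r ^ (n + 1))⁻¹ = r * (r ^ n * q * (r ^ n)⁻¹) * r⁻¹ := by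
          rw [pow_succ', mul_inv_rev]; group
      _ = r * c ^ n * q * r⁻¹ := by rw [conj_pow_of_comm h hrc n]; group
      _ = c ^ n * (r * q * r⁻¹) := by rw [(hrc.pow_right n).eq]; group
      _ = c ^ (n + 1) * q := by rw [h, pow_succ]; group

theorem mul_pow_three {r q c : G} (h : q * r = c * (r * q)) (hr : Commute r c) (hq : Commute q c)
    (hc : c ^ 3 = 1) : (r * q) ^ 3 = r ^ 3 * q ^ 3 := by
  calc (r * q) ^ 3 = r * (q * r) * (q * r) * q := by simp only [pow_succ, pow_zero, one_mul]; group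
    _ = r * (c * (r * q)) * (c * (r * q)) * q := by rw [h]
    _ = (r * c) * r * (q * c) * r * (q * q) := by group
    _ = (c * r) * r * (c * q) * r * (q * q) := by rw [hr.eq, hq.eq]
    _ = c * r * (r * c) * (q * r) * (q * q) := by group
    _ = c * r * (c * r) * (c * (r * q)) * (q * q) := by rw [hr.eq, h]
    _ = c * (r * c) * (r * c) * r * (q * q * q) := by group
    _ = c * (c * r) * (c * r) * r * (q * q * q) := by rw [hr.eq]
    _ = c * c * (r * c) * (r * r) * (q * q * q) := by group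
    _ = c * c * (c * r) * (r * r) * (q * q * q) := by rw [hr.eq]
    _ = c ^ 3 * (r ^ 3 * q ^ 3) := by simp only [pow_succ, pow_zero, one_mul]; group
    _ = _ := by rw [hc, one_mul]

variable {D : Cov G} {F : Fused D} (K : JData D F) (C : Core D)

theorem J_le_centralizer : K.J ≤ centralizer ({D.z} : Set G) :=
  fun a ha => mem_cent.2 (K.commJ a ha D.z K.zJ)

theorem b_mem_X : D.b ∈ centralizer ({D.z} : Set G) := mem_cent.2 D.zb.symm

theorem t_mul_self (D : Cov G) : D.t * D.t = 1 := by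
  rw [← pow_two, ← D.ord_t]; exact pow_orderOf_eq_one _

theorem b_not_zpowers : D.b ∉ zpowers D.z := by
  intro h
  obtain ⟨n, hn⟩ := h
  have e : D.π ⟨D.b, D.mem_b⟩ = D.π ⟨D.z, D.mem_z⟩ ^ n := by
    rw [← map_zpow]; congr 1; exact Subtype.ext hn.symm
  have e' : (swap 3 4 * swap 4 5 : Perm (Fin 8)) = (swap 0 1 * swap 1 2) ^ n := by
    rw [← D.π_b, ← D.π_z, e, SubgroupClass.coe_zpow]
  have e3 := DFunLike.congr_fun e' 3
  rw [Equiv.Perm.zpow_apply_eq_self_of_apply_eq_self (by decide)] at e3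
  exact absurd e3 (by decide)

/-- `J` meets the odd core in a subgroup of order `27` containing `w₂`. -/
theorem inf_J [Finite G] : Nat.card ↥(C.O ⊓ K.J) = 27 ∧ D.b ∉ C.O ∧
    ∀ a ∈ K.J, D.t * a * D.t⁻¹ = a⁻¹ → a ∈ C.O := by
  have htJ : ∀ a ∈ K.J, D.t * a * D.t⁻¹ ∈ K.J := fun a ha => (mem_normalizer_iff.1 K.tJ a).1 ha
  have hgen : ∀ a ∈ K.J, a⁻¹ * (D.t * a * D.t⁻¹) ∈ C.O := fun a ha => by
    rw [show a⁻¹ * (D.t * a * D.t⁻¹) = a⁻¹ * (D.t * a * D.t⁻¹ * a⁻¹) * a⁻¹⁻¹ by group]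
    exact C.conj_mem (inv_mem (J_le_centralizer K ha)) (C.comm a (J_le_centralizer K ha))
  let ψ : ↥K.J →* G :=
    { toFun := fun a => (a : G)⁻¹ * (D.t * a * D.t⁻¹)
      map_one' := by simp
      map_mul' := fun a c => by
        have h : Commute (D.t * (a : G) * D.t⁻¹) (c : G)⁻¹ :=
          K.commJ _ (htJ a a.2) _ (inv_mem c.2)
        have h2 : Commute (a : G)⁻¹ (c : G)⁻¹ := K.commJ _ (inv_mem a.2) _ (inv_mem c.2)
        show ((a : G) * c)⁻¹ * (D.t * ((a : G) * c) * D.t⁻¹) = _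
        calc ((a : G) * c)⁻¹ * (D.t * ((a : G) * c) * D.t⁻¹)
            = ((c : G)⁻¹ * (a : G)⁻¹) * (D.t * a * D.t⁻¹) * (D.t * c * D.t⁻¹) := by group
          _ = (a : G)⁻¹ * ((c : G)⁻¹ * (D.t * a * D.t⁻¹)) * (D.t * c * D.t⁻¹) := by
            rw [← h2.eq]; group
          _ = _ := by rw [← h.eq]; group }
  have hrange : ψ.range ≤ C.O ⊓ K.J := by
    rintro _ ⟨a, rfl⟩
    exact Subgroup.mem_inf.2 ⟨hgen a a.2, mul_mem (inv_mem a.2) (htJ a a.2)⟩
  have hker : Nat.card ψ.ker ∣ 18 := by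
    rw [← Subgroup.card_map_of_injective (f := K.J.subtype) K.J.subtype_injective, ← D.cardTE]
    refine Subgroup.card_dvd_of_le ?_
    rintro _ ⟨a, ha, rfl⟩
    have hta : Commute D.t (a : G) := by
      have e : (a : G)⁻¹ * (D.t * a * D.t⁻¹) = 1 := ha
      exact mul_inv_eq_iff_eq_mul.1 (inv_mul_eq_one.1 e).symm
    have hE : D.E ≤ centralizer ({D.t} : Set G) ⊓ centralizer ({D.z} : Set G) ⊓
        centralizer ({D.b} : Set G) := by
      rw [Cov.E, closure_le]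
      rintro x (rfl | rfl)
      · exact ⟨⟨D.mem_z, mem_cent.2 (Commute.refl _)⟩, mem_cent.2 D.zb⟩
      · exact ⟨⟨D.mem_b, b_mem_X⟩, mem_cent.2 (Commute.refl _)⟩
    exact hE (K.tfix a a.2 hta)
  have hsplit : Nat.card ψ.ker * Nat.card ψ.range = 81 := by
    rw [← Subgroup.index_ker, Subgroup.card_mul_index, K.cardJ]
  have hker9 : Nat.card ψ.ker ≤ 9 := Nat.le_of_dvd (by norm_num)
    (show Nat.card ψ.ker ∣ Nat.gcd 18 81 from Nat.dvd_gcd hker ⟨_, hsplit.symm⟩)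
  have hr9 : 9 ≤ Nat.card ψ.range := by
    by_contra h
    have := Nat.mul_le_mul hker9 (Nat.le_of_lt_succ (Nat.lt_of_not_le h))
    omega
  have hzr : D.z ∉ ψ.range := by
    rintro ⟨a, ha⟩
    have ha' : (a : G)⁻¹ * (D.t * a * D.t⁻¹) = D.z := ha
    have hinv : D.t * D.z * D.t⁻¹ = D.z⁻¹ := by
      rw [← ha']
      have h2 := t_mul_self D
      have htt : D.t⁻¹ = D.t := inv_eq_of_mul_eq_one_right h2
      rw [htt]
      calc D.t * ((a : G)⁻¹ * (D.t * a * D.t)) * D.t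
          = D.t * (a : G)⁻¹ * D.t * a * (D.t * D.t) := by group
        _ = _ := by rw [h2, mul_one, mul_inv_rev, inv_inv, mul_inv_rev, mul_inv_rev, htt]; group
    rw [(tz D).eq, mul_inv_cancel_right, eq_inv_iff_mul_eq_one, ← pow_two] at hinv
    have h := orderOf_dvd_of_pow_eq_one hinv
    rw [D.ord_z] at h
    norm_num at h
  have hgt : 9 < Nat.card ↥(C.O ⊓ K.J) := by
    refine lt_of_le_of_ne (hr9.trans (Subgroup.card_le_of_le hrange)) fun h => hzr ?_
    rw [Subgroup.eq_of_le_of_card_ge hrange (by rw [← h]; exact hr9)]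
    exact ⟨C.zO, K.zJ⟩
  have hb : D.b ∉ C.O := fun h =>
    b_not_zpowers (C.fix_t h (mem_cent.1 D.mem_b))
  have hne : Nat.card ↥(C.O ⊓ K.J) ≠ 81 := fun h => hb
    ((Subgroup.eq_of_le_of_card_ge (inf_le_right : C.O ⊓ K.J ≤ K.J) (by rw [h, K.cardJ])).ge K.bJ).1
  have hdvd : Nat.card ↥(C.O ⊓ K.J) ∣ 3 ^ 4 := by
    have := Subgroup.card_dvd_of_le (inf_le_right : C.O ⊓ K.J ≤ K.J)
    rwa [K.cardJ] at this
  refine ⟨?_, hb, fun a ha hta => ?_⟩
  · obtain ⟨i, hi, he⟩ := (Nat.dvd_prime_pow Nat.prime_three).1 hdvd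
    rw [he] at hgt hne ⊢
    interval_cases i <;> simp_all
  · have h := hgen a ha
    rw [hta, ← mul_inv_rev] at h
    have h3 : a * a * a = 1 := by
      have := K.expJ a ha
      simpa [pow_succ] using this
    rwa [inv_eq_of_mul_eq_one_right h3] at h

/-- The number of elements of the centralizer of `w₂`. -/
theorem card_cent_conj {w₂ : G} (hw : Nat.card (centralizer ({D.w} : Set G)) = 972)
    (h : ∃ k : G, k * D.w * k⁻¹ = w₂) : Nat.card (centralizer ({w₂} : Set G)) = 972 := by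
  obtain ⟨k, rfl⟩ := h
  rw [← hw]
  refine (Nat.card_congr ((MulAut.conj k).toEquiv.subtypeEquiv fun x => ?_)).symm
  show x ∈ centralizer ({D.w} : Set G) ↔ _
  rw [mem_cent, mem_cent]
  refine ⟨fun e => e.map (MulAut.conj k).toMonoidHom, fun e => ?_⟩
  have e' := e.map (MulAut.conj k⁻¹).toMonoidHom
  simp only [MulEquiv.toEquiv_eq_coe, MulEquiv.coe_toEquiv, MulEquiv.coe_toMonoidHom,
    MulAut.conj_apply, inv_inv] at e'
  rwa [show k⁻¹ * (k * x * k⁻¹) * k = x by group,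
    show k⁻¹ * (k * D.w * k⁻¹) * k = D.w by group] at e'

/-- The odd core is a three-group. -/
theorem isPGroup_core [Finite G] {w₂ : G} (hwO : w₂ ∈ C.O)
    (hcw : Nat.card (centralizer ({w₂} : Set G)) = 972) : ∃ n : ℕ, Nat.card C.O = 3 ^ n := by
  refine ⟨_, Nat.eq_prime_pow_of_unique_prime_dvd Nat.card_pos.ne' fun {p} hp hpd => ?_⟩
  by_contra hp3
  have := Fact.mk hp
  obtain ⟨⟨q, hq⟩, hqo⟩ := exists_prime_orderOf_dvd_card' (G := C.O) p hpd
  rw [← Subgroup.orderOf_coe] at hqo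
  set c := q * w₂ * q⁻¹ * w₂⁻¹ with hc
  have hcz : c ∈ zpowers D.z := C.commutator_mem hq hwO
  have e := conj_pow_of_comm (r := q) (q := w₂) (c := c) (by rw [hc]; group)
    (Core.comm_z (C.le hq) hcz) p
  rw [← hqo, pow_orderOf_eq_one, one_mul, inv_one, mul_one, hqo, eq_comm, mul_eq_right] at e
  have h1 := (pow_gcd_eq_one (a := c)).2 ⟨e, cube_z D hcz⟩
  rw [(Nat.coprime_primes hp Nat.prime_three).2 hp3, pow_one, hc, mul_inv_eq_one,
    mul_inv_eq_iff_eq_mul] at h1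
  have h2 := Subgroup.orderOf_dvd_natCard _ (mem_cent.2 (show Commute q w₂ from h1))
  rw [hqo, hcw, show 972 = 2 ^ 2 * 3 ^ 5 by norm_num] at h2
  rcases (Nat.Prime.dvd_mul hp).1 h2 with h | h
  · have := (Nat.prime_dvd_prime_iff_eq hp Nat.prime_two).1 (hp.dvd_of_dvd_pow h)
    subst this
    exact (Nat.not_even_iff_odd.2 C.odd) (even_iff_two_dvd.2 hpd)
  · exact hp3 ((Nat.prime_dvd_prime_iff_eq hp Nat.prime_three).1 (hp.dvd_of_dvd_pow h))

/-- The bound from the centralizer of `w₂`. -/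
theorem card_bound [Finite G] {w₂ : G} (hwO : w₂ ∈ C.O) (hwJ : w₂ ∈ K.J) (hb : D.b ∉ C.O)
    (hcw : Nat.card (centralizer ({w₂} : Set G)) = 972) :
    Nat.card ↥(C.O ⊓ centralizer ({w₂} : Set G)) ≤ 81 ∧ Nat.card C.O ≤ 243 := by
  have : Fact (Nat.Prime 3) := ⟨Nat.prime_three⟩
  obtain ⟨n, hn⟩ := isPGroup_core C hwO hcw
  set A := C.O ⊓ centralizer ({w₂} : Set G) with hA
  have hbw : Commute D.b w₂ := K.commJ _ K.bJ _ hwJ
  have hbn : zpowers D.b ≤ normalizer (A : Set G) := by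
    rw [Subgroup.zpowers_le, mem_normalizer_iff]
    intro a
    simp only [hA, Subgroup.mem_inf]
    refine and_congr ⟨C.conj_mem b_mem_X, fun h => ?_⟩ ⟨fun h => ?_, fun h => ?_⟩
    · rw [show a = D.b⁻¹ * (D.b * a * D.b⁻¹) * D.b⁻¹⁻¹ by group]
      exact C.conj_mem (inv_mem b_mem_X) h
    · exact mul_mem (mul_mem (mem_cent.2 hbw) h) (inv_mem (mem_cent.2 hbw))
    · rw [show a = D.b⁻¹ * (D.b * a * D.b⁻¹) * D.b by group]
      exact mul_mem (mul_mem (inv_mem (mem_cent.2 hbw)) h) (mem_cent.2 hbw)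
  have hAp : IsPGroup 3 A := (IsPGroup.of_card hn).to_le inf_le_left
  have hP : IsPGroup 3 ↥(A ⊔ zpowers D.b) := hAp.to_sup_of_normal_left'
    (IsPGroup.of_card (n := 1) (by rw [Nat.card_zpowers, D.ord_b, pow_one])) hbn
  obtain ⟨m, hm⟩ := IsPGroup.iff_card.1 hP
  obtain ⟨a, ha⟩ := IsPGroup.iff_card.1 hAp
  have hm5 : m ≤ 5 := by
    by_contra h
    have h1 : (3 ^ 6) ∣ 972 := by
      refine (pow_dvd_pow 3 (Nat.lt_of_not_le h)).trans ?_
      rw [← hm, ← hcw]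
      exact Subgroup.card_dvd_of_le (sup_le inf_le_right
        (Subgroup.zpowers_le.2 (mem_cent.2 hbw)))
    norm_num at h1
  have ham : a < m := by
    by_contra h
    have he : A = A ⊔ zpowers D.b := Subgroup.eq_of_le_of_card_ge le_sup_left
      (by rw [hm, ha]; exact Nat.pow_le_pow_right (by norm_num) (Nat.le_of_not_lt h))
    exact hb (he.ge (Subgroup.mem_sup_right (mem_zpowers D.b))).1
  have hA81 : Nat.card A ≤ 81 := by
    rw [ha]
    exact (Nat.pow_le_pow_right (by norm_num) (show a ≤ 4 by omega)).trans (by norm_num)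
  refine ⟨hA81, ?_⟩
  let δ : ↥C.O →* ↥(zpowers D.z) :=
    { toFun := fun r => ⟨(r : G) * w₂ * (r : G)⁻¹ * w₂⁻¹, C.commutator_mem r.2 hwO⟩
      map_one' := Subtype.ext (by simp)
      map_mul' := fun r q => Subtype.ext (by
        have h : Commute (r : G) ((q : G) * w₂ * (q : G)⁻¹ * w₂⁻¹) :=
          Core.comm_z (C.le r.2) (C.commutator_mem q.2 hwO)
        have h2 : Commute ((r : G) * w₂ * (r : G)⁻¹ * w₂⁻¹) ((q : G) * w₂ * (q : G)⁻¹ * w₂⁻¹) :=
          Core.comm_z (C.le (mul_mem (mul_mem (mul_mem r.2 hwO) (inv_mem r.2)) (inv_mem hwO)))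
            (C.commutator_mem q.2 hwO)
        show (r : G) * q * w₂ * ((r : G) * q)⁻¹ * w₂⁻¹ =
          ((r : G) * w₂ * (r : G)⁻¹ * w₂⁻¹) * ((q : G) * w₂ * (q : G)⁻¹ * w₂⁻¹)
        rw [h2.eq]
        calc (r : G) * q * w₂ * ((r : G) * q)⁻¹ * w₂⁻¹
            = ((r : G) * ((q : G) * w₂ * (q : G)⁻¹ * w₂⁻¹)) * (w₂ * (r : G)⁻¹ * w₂⁻¹) := by group
          _ = _ := by rw [h.eq]; group) }
  have hk : Nat.card δ.ker ≤ Nat.card A := by
    rw [← Subgroup.card_map_of_injective (f := C.O.subtype) C.O.subtype_injective]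
    refine Subgroup.card_le_of_le ?_
    rintro _ ⟨r, hr, rfl⟩
    refine ⟨r.2, mem_cent.2 ?_⟩
    have e : (r : G) * w₂ * (r : G)⁻¹ * w₂⁻¹ = 1 := congrArg Subtype.val hr
    exact mul_inv_eq_iff_eq_mul.1 (mul_inv_eq_one.1 e)
  have hr3 : Nat.card δ.range ≤ 3 := by
    refine (Subgroup.card_le_card_group δ.range).trans ?_
    rw [Nat.card_zpowers, D.ord_z]
  calc Nat.card C.O = Nat.card δ.ker * Nat.card δ.range := by
        rw [← Subgroup.index_ker, Subgroup.card_mul_index]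
    _ ≤ 81 * 3 := Nat.mul_le_mul (hk.trans hA81) hr3

theorem five_fix : ∀ m < 5, ∀ e < 5, 1 ≤ e → e ≤ m → 3 ^ m % 5 = 3 ^ e % 5 → e = m := by decide

/-- An invariant subgroup of order at most `81` lies in `⟨z⟩`. -/
theorem invariant_small [Finite G] {n : ℕ} (hn : Nat.card C.O = 3 ^ n) {U : Subgroup G}
    (hU : U ≤ C.O) (hz : D.z ∈ U) (hH : H D ≤ normalizer (U : Set G))
    (h81 : Nat.card U ≤ 81) : U ≤ zpowers D.z := by
  have : Fact (Nat.Prime 5) := ⟨by norm_num⟩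
  have : Fact (Nat.Prime 3) := ⟨Nat.prime_three⟩
  obtain ⟨f, hfH, hf⟩ := exists_five D
  have hUp : IsPGroup 3 U := (IsPGroup.of_card hn).to_le hU
  obtain ⟨m, hm⟩ := IsPGroup.iff_card.1 hUp
  obtain ⟨e, he⟩ := IsPGroup.iff_card.1 (hUp.to_le (inf_le_left : U ⊓ centralizer {f} ≤ U))
  have hfn : zpowers f ≤ normalizer (U : Set G) := Subgroup.zpowers_le.2 (hH hfH)
  let _ : MulAction ↥(zpowers f) ↥U := MulAction.compHom ↥U (Subgroup.inclusion hfn)
  have hsmul : ∀ (g : ↥(zpowers f)) (x : ↥U), ((g • x : ↥U) : G) = (g : G) * x * (g : G)⁻¹ :=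
    fun _ _ => rfl
  have hfix : Nat.card (MulAction.fixedPoints ↥(zpowers f) ↥U) =
      Nat.card ↥(U ⊓ centralizer ({f} : Set G)) := by
    refine Nat.card_congr
      { toFun := fun x => ⟨((x : ↥U) : G), (x : ↥U).2, ?_⟩
        invFun := fun x => ⟨⟨(x : G), x.2.1⟩, fun g => ?_⟩
        left_inv := fun _ => rfl
        right_inv := fun _ => rfl }
    · have h := congrArg Subtype.val (x.2 ⟨f, mem_zpowers f⟩)
      rw [hsmul] at h
      exact mem_cent.2 (mul_inv_eq_iff_eq_mul.1 h).symm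
    · apply Subtype.ext
      rw [hsmul]
      rw [(commute_mem_zpowers (mem_cent.1 x.2.2) g.2).symm.eq, mul_inv_cancel_right]
  have hmod := (IsPGroup.of_card (p := 5) (n := 1) (G := zpowers f)
    (by rw [Nat.card_zpowers, hf, pow_one])).card_modEq_card_fixedPoints ↥U
  rw [hfix, hm, he] at hmod
  have hzf : Commute D.z f := ((mem_H D).1 hfH).2.symm
  have he1 : 1 ≤ e := by
    by_contra h
    obtain rfl : e = 0 := by omega
    rw [pow_zero, Subgroup.card_eq_one] at he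
    have h1 : D.z ∈ U ⊓ centralizer ({f} : Set G) := ⟨hz, mem_cent.2 hzf⟩
    rw [he, Subgroup.mem_bot] at h1
    have h3 := D.ord_z
    rw [h1, orderOf_one] at h3
    omega
  have hem : e ≤ m := by
    have := Subgroup.card_le_of_le (inf_le_left : U ⊓ centralizer {f} ≤ U)
    rwa [he, hm, Nat.pow_le_pow_iff_right (by norm_num)] at this
  have hm5 : m < 5 := by
    by_contra h
    have h243 : 3 ^ 5 ≤ 3 ^ m := Nat.pow_le_pow_right (by norm_num) (Nat.le_of_not_lt h)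
    rw [← hm] at h243
    omega
  have heq : e = m := five_fix m hm5 e (by omega) he1 hem hmod
  have hall : U ≤ centralizer ({f} : Set G) :=
    inf_eq_left.1 (Subgroup.eq_of_le_of_card_ge inf_le_left (by rw [hm, he, heq]))
  let K₀ : Subgroup G := H D ⊓ centralizer (U : Set G)
  have ht : D.t ∈ K₀ := by
    by_contra ht
    have hle := not_t_le D (inf_le_left : K₀ ≤ H D) (fun g hg => ?_) ht
      (show f ∈ K₀ from ⟨hfH, fun u hu => (mem_cent.1 (hall hu)).eq⟩)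
    · have h := Subgroup.orderOf_dvd_natCard _ hle
      rw [hf, Nat.card_zpowers, D.ord_z] at h
      norm_num at h
    · have key : ∀ g ∈ H D, ∀ a ∈ K₀, g * a * g⁻¹ ∈ K₀ := fun g hg a ha => by
        refine Subgroup.mem_inf.2 ⟨mul_mem (mul_mem hg (Subgroup.mem_inf.1 ha).1) (inv_mem hg),
          fun u hu => ?_⟩
        have hu' : g⁻¹ * u * g ∈ U := by
          have := (mem_normalizer_iff.1 (hH (inv_mem hg)) u).1 hu
          rwa [inv_inv] at this
        exact (conj_commute (show Commute a (g⁻¹ * u * g) from (ha.2 _ hu').symm)).symm.eq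
      refine mem_normalizer_iff.2 fun a => ⟨key g hg a, fun ha => ?_⟩
      have := key g⁻¹ (inv_mem hg) _ ha
      rwa [inv_inv, show g⁻¹ * (g * a * g⁻¹) * g = a by group] at this
  exact fun u hu => C.fix_t (hU hu) (ht.2 u hu)

/-- An element of `C(t) ⊓ C(z)` trivial on `O / ⟨z⟩` lies in `⟨z⟩`. -/
theorem act_trivial [Finite G] {w₂ : G} (hwO : w₂ ∈ C.O) (hw3 : w₂ ^ 3 = 1)
    (hwz : w₂ ∉ zpowers D.z) {h : G} (hh : h ∈ H D)
    (htriv : ∀ r ∈ C.O, h * r * h⁻¹ * r⁻¹ ∈ zpowers D.z) : h ∈ zpowers D.z := by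
  have hconj : ∀ g ∈ H D, ∀ a ∈ C.O, g * a * g⁻¹ ∈ C.O := fun g hg a ha =>
    C.conj_mem (Subgroup.mem_inf.1 hg).2 ha
  have hcz : ∀ g ∈ H D, ∀ c ∈ zpowers D.z, Commute g c := fun g hg c hc =>
    commute_mem_zpowers ((mem_H D).1 hg).2 hc
  let K₀ : Subgroup G :=
    { carrier := {g | g ∈ H D ∧ ∀ r ∈ C.O, g * r * g⁻¹ * r⁻¹ ∈ zpowers D.z}
      one_mem' := ⟨one_mem _, fun r _ => by simp⟩
      mul_mem' := by
        rintro g k ⟨hg, hg'⟩ ⟨hk, hk'⟩
        refine ⟨mul_mem hg hk, fun r hr => ?_⟩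
        rw [show g * k * r * (g * k)⁻¹ * r⁻¹ =
          (g * (k * r * k⁻¹ * r⁻¹)) * r * g⁻¹ * r⁻¹ by group, (hcz g hg _ (hk' r hr)).eq,
          show k * r * k⁻¹ * r⁻¹ * g * r * g⁻¹ * r⁻¹ =
            (k * r * k⁻¹ * r⁻¹) * (g * r * g⁻¹ * r⁻¹) by group]
        exact mul_mem (hk' r hr) (hg' r hr)
      inv_mem' := by
        rintro g ⟨hg, hg'⟩
        refine ⟨inv_mem hg, fun r hr => ?_⟩
        have := inv_mem (hg' _ (hconj g⁻¹ (inv_mem hg) r hr))
        rwa [show (g * (g⁻¹ * r * g⁻¹⁻¹) * g⁻¹ * (g⁻¹ * r * g⁻¹⁻¹)⁻¹)⁻¹ =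
          g⁻¹ * r * g⁻¹⁻¹ * r⁻¹ by group] at this }
  have key : ∀ g ∈ H D, ∀ a ∈ K₀, g * a * g⁻¹ ∈ K₀ := by
    rintro g hg a ⟨ha, ha'⟩
    refine ⟨mul_mem (mul_mem hg ha) (inv_mem hg), fun r hr => ?_⟩
    have h1 := ha' _ (hconj g⁻¹ (inv_mem hg) r hr)
    set c := a * (g⁻¹ * r * g⁻¹⁻¹) * a⁻¹ * (g⁻¹ * r * g⁻¹⁻¹)⁻¹ with hc
    rw [show g * a * g⁻¹ * r * (g * a * g⁻¹)⁻¹ * r⁻¹ = g * c * g⁻¹ by rw [hc]; group,
      (hcz g hg c h1).eq, mul_inv_cancel_right]
    exact h1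
  refine not_t_le D (N := K₀) (fun g hg => hg.1) (fun g hg => mem_normalizer_iff.2 fun a =>
    ⟨key g hg a, fun ha => ?_⟩) (fun ht => hwz ?_) ⟨hh, htriv⟩
  · have := key g⁻¹ (inv_mem hg) _ ha
    rwa [inv_inv, show g⁻¹ * (g * a * g⁻¹) * g = a by group] at this
  · have h1 := ht.2 w₂ hwO
    have h2 := C.inverts hwO
    have h4 : w₂ * w₂ ∈ zpowers D.z := by
      have := mul_mem (inv_mem h1) h2
      rwa [show (D.t * w₂ * D.t⁻¹ * w₂⁻¹)⁻¹ * (D.t * w₂ * D.t⁻¹ * w₂) = w₂ * w₂ by group] at this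
    have h5 : (w₂ * w₂)⁻¹ = w₂ := inv_eq_of_mul_eq_one_right (by
      simpa [pow_succ] using hw3)
    exact h5 ▸ inv_mem h4

end CfsgLib.McLDouble.CentZ

namespace CfsgLib.McLDouble

universe v

open CentZ Subgroup in
/-- Piece P5: the centralizer of `z`. -/
theorem xData : StmtX.{v} := by
  intro G _ _ D F K hw
  have : Fact (Nat.Prime 3) := ⟨Nat.prime_three⟩
  obtain ⟨C⟩ := exists_core D
  obtain ⟨hJ27, hb, hmemO⟩ := inf_J K C
  obtain ⟨w₂, hwJ, hw1, hwinv, hwconj⟩ := K.wtype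
  have hwO : w₂ ∈ C.O := hmemO w₂ hwJ hwinv
  have hw3 : w₂ ^ 3 = 1 := K.expJ w₂ hwJ
  have hcw := card_cent_conj hw hwconj
  obtain ⟨hA81, hO243⟩ := card_bound K C hwO hwJ hb hcw
  obtain ⟨n, hn⟩ := isPGroup_core C hwO hcw
  have hwz : w₂ ∉ zpowers D.z := fun h => hw1 (by
    have hc : Commute D.t w₂ := commute_mem_zpowers (tz D) h
    rw [hc.eq, mul_inv_cancel_right, eq_inv_iff_mul_eq_one, ← pow_two] at hwinv
    simpa [pow_succ, hwinv] using hw3)
  have hHn : H D ≤ normalizer (C.O : Set G) := fun g hg =>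
    C.norm (Core.cent_le_norm (mem_inf.1 hg).2)
  have hO : Nat.card C.O = 243 := by
    refine le_antisymm hO243 (not_lt.1 fun h => hwz ?_)
    refine invariant_small C hn le_rfl C.zO hHn ?_ hwO
    have hle : n ≤ 4 := by
      by_contra h'
      have h243 : 3 ^ 5 ≤ 3 ^ n := Nat.pow_le_pow_right (by norm_num) (Nat.lt_of_not_le h')
      rw [← hn] at h243
      omega
    rw [hn]
    exact (Nat.pow_le_pow_right (by norm_num) hle).trans (by norm_num)
  have hdich : ∀ U : Subgroup G, U ≤ C.O → D.z ∈ U → H D ≤ normalizer (U : Set G) →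
      U ≤ zpowers D.z ∨ U = C.O := by
    intro U hU hz hH
    by_cases h : Nat.card U ≤ 81
    · exact Or.inl (invariant_small C hn hU hz hH h)
    · right
      refine eq_of_le_of_card_ge hU ?_
      obtain ⟨m, hm⟩ := IsPGroup.iff_card.1 ((IsPGroup.of_card hn).to_le hU)
      have h5 : 5 ≤ m := by
        by_contra h'
        exact h (by rw [hm]; exact (Nat.pow_le_pow_right (by norm_num)
          (show m ≤ 4 by omega)).trans (by norm_num))
      rw [hO, hm]
      exact le_trans (by norm_num) (Nat.pow_le_pow_right (by norm_num) h5)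
  have hconj : ∀ g ∈ H D, ∀ a ∈ C.O, g * a * g⁻¹ ∈ C.O := fun g hg a ha =>
    C.conj_mem (mem_inf.1 hg).2 ha
  let U₃ : Subgroup G :=
    { carrier := {r | r ∈ C.O ∧ r ^ 3 = 1}
      one_mem' := ⟨one_mem _, one_pow 3⟩
      mul_mem' := by
        rintro r q ⟨hr, hr3⟩ ⟨hq, hq3⟩
        refine ⟨mul_mem hr hq, ?_⟩
        have hc := C.commutator_mem hq hr
        rw [mul_pow_three (c := q * r * q⁻¹ * r⁻¹) (by group)
          (Core.comm_z (C.le hr) hc) (Core.comm_z (C.le hq) hc) (cube_z D hc), hr3, hq3, one_mul]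
      inv_mem' := fun {r} hr => ⟨inv_mem hr.1, by rw [inv_pow, hr.2, inv_one]⟩ }
  have key3 : ∀ g ∈ H D, ∀ a ∈ U₃, g * a * g⁻¹ ∈ U₃ := fun g hg a ha =>
    ⟨hconj g hg a ha.1, by rw [conj_pow, ha.2, mul_one, mul_inv_cancel]⟩
  have hexp : ∀ q ∈ C.O, q ^ 3 = 1 := by
    rcases hdich U₃ (fun r hr => hr.1) ⟨C.zO, cube_z D (mem_zpowers _)⟩
      (fun g hg => mem_normalizer_iff.2 fun a => ⟨key3 g hg a, fun ha => by
        have := key3 g⁻¹ (inv_mem hg) _ ha
        rwa [inv_inv, show g⁻¹ * (g * a * g⁻¹) * g = a by group] at this⟩) with h | h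
    · exact absurd (h ⟨hwO, hw3⟩) hwz
    · exact fun q hq => (h.ge hq).2
  let Zc : Subgroup G := C.O ⊓ centralizer (C.O : Set G)
  have keyc : ∀ g ∈ H D, ∀ a ∈ Zc, g * a * g⁻¹ ∈ Zc := fun g hg a ha => by
    refine ⟨hconj g hg a ha.1, fun u hu => ?_⟩
    have hu' := hconj g⁻¹ (inv_mem hg) u hu
    rw [inv_inv] at hu'
    exact (conj_commute (show Commute a (g⁻¹ * u * g) from (ha.2 _ hu').symm)).symm.eq
  have hcenter : ∀ q ∈ C.O, (∀ y ∈ C.O, Commute q y) → q ∈ zpowers D.z := by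
    intro q hq hall
    rcases hdich Zc inf_le_left ⟨C.zO, fun y hy => (mem_cent.1 (C.le hy)).eq⟩
      (fun g hg => mem_normalizer_iff.2 fun a => ⟨keyc g hg a, fun ha => by
        have := keyc g⁻¹ (inv_mem hg) _ ha
        rwa [inv_inv, show g⁻¹ * (g * a * g⁻¹) * g = a by group] at this⟩) with h | h
    · exact h ⟨hq, fun y hy => (hall y hy).symm.eq⟩
    · exfalso
      have hle : C.O ≤ C.O ⊓ centralizer ({w₂} : Set G) :=
        le_inf le_rfl fun r hr => mem_cent.2 (Commute.symm ((h.ge hr).2 w₂ hwO))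
      have := card_le_of_le hle
      omega
  have hcentQ : centralizer (C.O : Set G) ≤ C.O := by
    intro g hg
    have hgX : g ∈ centralizer ({D.z} : Set G) := mem_cent.2 (Commute.symm (hg D.z C.zO))
    rw [C.gen] at hgX
    rw [← SetLike.mem_coe, coe_mul_of_right_le_normalizer_left C.O (H D) hHn] at hgX
    obtain ⟨q, hq, h, hh, rfl⟩ := hgX
    refine mul_mem hq (C.zpowers_le (act_trivial C hwO hw3 hwz hh fun r hr => ?_))
    have e : r * (q * h) = q * h * r := hg r hr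
    rw [show h * r * h⁻¹ * r⁻¹ = q⁻¹ * (q * h * r) * h⁻¹ * r⁻¹ by group, ← e,
      show q⁻¹ * (r * (q * h)) * h⁻¹ * r⁻¹ = q⁻¹ * r * q⁻¹⁻¹ * r⁻¹ by group]
    exact C.commutator_mem (inv_mem hq) hr
  have hX : Nat.card (centralizer ({D.z} : Set G)) = 29160 := by
    have h1 := CfsgLib.Coprime.card_sup_mul_card_inf hHn
    have hHO : H D ⊓ C.O = zpowers D.z := le_antisymm
      (fun x hx => C.fix_t hx.2 ((mem_H D).1 hx.1).1)
      (le_inf (Subgroup.zpowers_le.2 (z_mem_H D)) C.zpowers_le)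
    have hHc : Nat.card (H D) = 360 := D.cardTz
    rw [hHO, sup_comm, ← C.gen, Nat.card_zpowers, D.ord_z, hHc, hO] at h1
    omega
  have hfix : C.O ⊓ centralizer ({D.b} : Set G) = C.O ⊓ K.J := by
    refine le_antisymm (fun a ha => ⟨ha.1, K.normE a ?_ ?_⟩)
      (fun a ha => ⟨ha.1, mem_cent.2 (K.commJ a ha.2 D.b K.bJ)⟩)
    · have hE : D.E ≤ centralizer ({a} : Set G) := by
        rw [Cov.E, closure_le]
        rintro x (rfl | rfl)
        · exact mem_cent.2 (mem_cent.1 (C.le ha.1)).symm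
        · exact mem_cent.2 (mem_cent.1 ha.2).symm
      rw [mem_normalizer_iff]
      intro x
      constructor
      · intro hx
        rwa [(mem_cent.1 (hE hx)).symm.eq, mul_inv_cancel_right]
      · intro hx
        have hc := (mem_cent.1 (hE hx)).symm.inv_left
        rwa [show x = a⁻¹ * (a * x * a⁻¹) * a by group, hc.eq, inv_mul_cancel_right]
    · exact C.odd.of_dvd_nat (orderOf_dvd_natCard _ ha.1)
  refine ⟨{
    Q := C.O
    cardQ := by rw [hO]; norm_num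
    expQ := hexp
    zQ := C.zO
    b_notQ := hb
    centerQ := hcenter
    commQ := fun q hq y hy => C.commutator_mem hq hy
    cQ := C.le
    nQ := C.norm
    centQ := hcentQ
    tQ := fun q hq => C.inverts hq
    gen_z := by rw [inf_comm]; exact C.gen
    syl := ?_
    fix_b := ?_
    J_eq := ?_ }⟩
  · refine ⟨dvd_trans ⟨40, by rw [hX]; norm_num⟩ (card_subgroup_dvd_card (centralizer ({D.z} : Set G))),
      fun h2187 => ?_⟩
    obtain ⟨S, hS⟩ := IsPGroup.exists_le_sylow (IsPGroup.of_card hn)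
    have hS' : 3 ^ 7 ∣ Nat.card S :=
      S.pow_dvd_card_of_pow_dvd_card (by norm_num; exact h2187)
    have : Nontrivial S := ⟨⟨⟨D.z, hS C.zO⟩, 1, fun h => by
      have h3 := D.ord_z
      rw [show D.z = 1 from congrArg Subtype.val h, orderOf_one] at h3
      omega⟩⟩
    have := S.2.center_nontrivial
    obtain ⟨⟨v, hvc⟩, hv1⟩ := exists_ne (1 : Subgroup.center (S : Subgroup G))
    have hvS : ∀ x ∈ (S : Subgroup G), Commute (v : G) x := fun x hx =>
      (congrArg Subtype.val (mem_center_iff.1 hvc ⟨x, hx⟩)).symm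
    have hvO : (v : G) ∈ C.O := hcentQ fun x hx => (hvS x (hS hx)).symm.eq
    have hvz : (v : G) ∈ zpowers D.z := hcenter _ hvO fun y hy => hvS y (hS hy)
    have hvne : (v : G) ≠ 1 := fun h => hv1 (Subtype.ext (Subtype.ext h))
    have hord : orderOf (v : G) = 3 := orderOf_eq_prime (cube_z D hvz) hvne
    have hzv : zpowers (v : G) = zpowers D.z := eq_of_le_of_card_ge (Subgroup.zpowers_le.2 hvz)
      (by rw [Nat.card_zpowers, Nat.card_zpowers, hord, D.ord_z])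
    have hSX : (S : Subgroup G) ≤ centralizer ({D.z} : Set G) := fun x hx =>
      mem_cent.2 (commute_mem_zpowers (hvS x hx).symm (hzv.ge (mem_zpowers D.z)))
    have := hS'.trans (card_dvd_of_le hSX)
    rw [hX] at this
    norm_num at this
  · refine ⟨by rw [hfix, hJ27], ?_⟩
    rw [hfix]
    exact ⟨⟨fun a c => Subtype.ext (K.commJ _ a.2.2 _ c.2.2)⟩⟩
  · rw [hfix]
    have hle : (C.O ⊓ K.J) ⊔ zpowers D.b ≤ K.J :=
      sup_le inf_le_right (Subgroup.zpowers_le.2 K.bJ)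
    refine eq_of_le_of_card_ge hle ?_
    have hdvd := card_dvd_of_le hle
    have hdvd2 := card_dvd_of_le (le_sup_left : C.O ⊓ K.J ≤ (C.O ⊓ K.J) ⊔ zpowers D.b)
    have hne : Nat.card ↥((C.O ⊓ K.J) ⊔ zpowers D.b) ≠ 27 := fun h => hb
      ((eq_of_le_of_card_ge (le_sup_left : C.O ⊓ K.J ≤ (C.O ⊓ K.J) ⊔ zpowers D.b)
        (by rw [h, hJ27])).ge (mem_sup_right (mem_zpowers D.b))).1
    rw [K.cardJ] at hdvd ⊢
    rw [hJ27] at hdvd2
    obtain ⟨i, hi, he⟩ := (Nat.dvd_prime_pow Nat.prime_three).1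
      (show _ ∣ 3 ^ 4 by simpa using hdvd)
    rw [he] at hdvd2 hne ⊢
    interval_cases i <;> simp_all

end CfsgLib.McLDouble
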