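import Cfsg.Agent.Lib.McLDouble.Defs

/-!
# The centralizer of `z`, I: the centralizer of `t` and `z`

`ρ` is the action on the five points fixed by `z`. A subgroup of odd order normalised by
`C(t) ⊓ C(z)` and contained in it lies in `⟨z⟩`.
-/

set_option autoImplicit false

namespace CfsgLib.McLDouble.CentZ

open Subgroup Equiv

universe u

variable {G : Type u} [Group G]

theorem mem_cent {x a : G} : x ∈ centralizer ({a} : Set G) ↔ Commute x a :=
  mem_centralizer_singleton_iff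

theorem mem_zpowers_invol {t y : G} (ht : orderOf t = 2) (hy : y ∈ zpowers t) : y = 1 ∨ y = t := by
  obtain ⟨n, rfl⟩ := hy
  have h2 : t ^ (2 : ℤ) = 1 := by rw [zpow_two, ← pow_two, ← ht]; exact pow_orderOf_eq_one t
  rcases Int.even_or_odd n with ⟨m, rfl⟩ | ⟨m, rfl⟩
  · left
    show t ^ (m + m) = 1
    rw [← two_mul, zpow_mul, h2, one_zpow]
  · right
    show t ^ (2 * m + 1) = t
    rw [zpow_add, zpow_mul, h2, one_zpow, one_mul, zpow_one]

variable (D : Cov G)

/-- The common centralizer of `t` and `z`. -/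
def H : Subgroup G := centralizer ({D.t} : Set G) ⊓ centralizer ({D.z} : Set G)

theorem mem_H {x : G} : x ∈ H D ↔ Commute x D.t ∧ Commute x D.z := by
  rw [H, Subgroup.mem_inf, mem_cent, mem_cent]

theorem tz : Commute D.t D.z := (mem_cent.1 D.mem_z).symm

theorem t_mem_H : D.t ∈ H D := (mem_H D).2 ⟨Commute.refl _, tz D⟩

theorem z_mem_H : D.z ∈ H D := (mem_H D).2 ⟨(tz D).symm, Commute.refl _⟩

/-- The three-cycle below `z`. -/
def cyc : Perm (Fin 8) := swap 0 1 * swap 1 2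

theorem cyc_fix : ∀ i : Fin 8, 3 ≤ (i : ℕ) ↔ cyc i = i := by unfold cyc; decide

/-- The five points fixed by `z`. -/
def e5 : Fin 5 ≃ {i : Fin 8 // 3 ≤ (i : ℕ)} where
  toFun i := ⟨⟨(i : ℕ) + 3, by omega⟩, by simp⟩
  invFun i := ⟨((i : Fin 8) : ℕ) - 3, by have := i.1.isLt; omega⟩
  left_inv i := by ext; simp
  right_inv i := by
    ext
    have := i.2
    simp
    omega

/-- The image in the symmetric group of degree eight. -/
def πH : ↥(H D) →* Perm (Fin 8) :=
  (alternatingGroup (Fin 8)).subtype.comp (D.π.comp (Subgroup.inclusion inf_le_left))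

theorem πH_apply (x : G) (hx : x ∈ H D) :
    πH D ⟨x, hx⟩ = (D.π ⟨x, hx.1⟩ : Perm (Fin 8)) := rfl

theorem πH_z : πH D ⟨D.z, z_mem_H D⟩ = cyc := by rw [πH_apply]; exact D.π_z

theorem πH_comm (x : ↥(H D)) : Commute (πH D x) cyc := by
  have h : Commute x (⟨D.z, z_mem_H D⟩ : ↥(H D)) := Subtype.ext ((mem_H D).1 x.2).2
  simpa only [πH_z] using h.map (πH D)

theorem pres (x : ↥(H D)) (i : Fin 8) : 3 ≤ (πH D x i : ℕ) ↔ 3 ≤ (i : ℕ) := by
  have h : cyc (πH D x i) = πH D x (cyc i) := by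
    have := DFunLike.congr_fun (πH_comm D x).eq i
    simpa using this.symm
  rw [cyc_fix, cyc_fix, h]
  exact (πH D x).injective.eq_iff

/-- The action on the five points fixed by `z`. -/
def ρ : ↥(H D) →* Perm (Fin 5) where
  toFun x := e5.trans (((πH D x).subtypePerm (pres D x)).trans e5.symm)
  map_one' := by ext i; simp
  map_mul' x y := by ext i; simp

theorem ρ_apply (x : ↥(H D)) (i : Fin 5) : (e5 (ρ D x i) : Fin 8) = πH D x (e5 i) := by
  simp [ρ]

theorem ρ_eq_one_image {x : ↥(H D)} (hx : ρ D x = 1) : ∃ k : ℕ, πH D x = cyc ^ k := by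
  have hfix : ∀ i : Fin 8, 3 ≤ (i : ℕ) → πH D x i = i := by
    intro i hi
    have := ρ_apply D x (e5.symm ⟨i, hi⟩)
    rw [hx] at this
    simpa using this.symm
  have h0 : ¬ 3 ≤ (πH D x 0 : ℕ) := fun h => absurd ((pres D x 0).1 h) (by decide)
  have hpow : ∀ j : Fin 8, ¬ 3 ≤ (j : ℕ) → ∃ k : Fin 3, (cyc ^ (k : ℕ)) 0 = j := by
    unfold cyc; decide
  have horb : ∀ i : Fin 8, ¬ 3 ≤ (i : ℕ) → i = 0 ∨ i = cyc 0 ∨ i = cyc (cyc 0) := by
    unfold cyc; decide
  obtain ⟨k, hk⟩ := hpow _ h0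
  refine ⟨k, ?_⟩
  have hc : ∀ i, πH D x (cyc i) = cyc (πH D x i) := fun i => by
    simpa using DFunLike.congr_fun (πH_comm D x).eq i
  have hk' : ∀ i, (cyc ^ (k : ℕ)) (cyc i) = cyc ((cyc ^ (k : ℕ)) i) := fun i => by
    simpa using DFunLike.congr_fun ((Commute.refl cyc).pow_left (k : ℕ)).eq i
  ext1 i
  by_cases hi : 3 ≤ (i : ℕ)
  · rw [hfix i hi, (Equiv.Perm.pow_apply_eq_self_of_apply_eq_self ((cyc_fix i).1 hi) _)]
  · rcases horb i hi with rfl | rfl | rfl
    · exact hk.symm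
    · rw [hc, hk', hk]
    · rw [hc, hc, hk', hk', hk]

theorem ρ_eq_one {x : ↥(H D)} (hx : ρ D x = 1) :
    ∃ k : ℕ, (x : G) = D.z ^ k ∨ (x : G) = D.z ^ k * D.t := by
  obtain ⟨k, hk⟩ := ρ_eq_one_image D hx
  refine ⟨k, ?_⟩
  let y : ↥(H D) := (⟨D.z, z_mem_H D⟩ ^ k)⁻¹ * x
  have h1 : D.π ⟨(y : G), y.2.1⟩ = 1 := by
    apply Subtype.ext
    show πH D y = 1
    rw [show y = (⟨D.z, z_mem_H D⟩ ^ k)⁻¹ * x from rfl, map_mul, map_inv, map_pow, πH_z, hk,
      inv_mul_cancel]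
  rcases mem_zpowers_invol D.ord_t ((D.π_ker _).1 h1) with h | h
  · left
    have h' : (D.z ^ k)⁻¹ * (x : G) = 1 := h
    exact (inv_mul_eq_one.1 h').symm
  · right
    have h' : (D.z ^ k)⁻¹ * (x : G) = D.t := h
    exact inv_mul_eq_iff_eq_mul.1 h'

theorem ρ_eq_one_odd {x : ↥(H D)} (hx : ρ D x = 1) (ho : Odd (orderOf (x : G))) :
    (x : G) ∈ zpowers D.z := by
  obtain ⟨k, h | h⟩ := ρ_eq_one D hx
  · exact h ▸ pow_mem (mem_zpowers D.z) k
  · exfalso
    set n := orderOf (x : G) with hn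
    have e : (D.z ^ k * D.t) ^ (n * 3) = 1 := by rw [← h, pow_mul, pow_orderOf_eq_one, one_pow]
    rw [((tz D).symm.pow_left k).mul_pow, ← pow_mul, show k * (n * 3) = orderOf D.z * (k * n) by
      rw [D.ord_z]; ring, pow_mul, pow_orderOf_eq_one, one_pow, one_mul] at e
    have h2 : orderOf D.t ∣ n * 3 := orderOf_dvd_of_pow_eq_one e
    rw [D.ord_t] at h2
    exact (Nat.not_even_iff_odd.2 (ho.mul (by decide : Odd 3))) (even_iff_two_dvd.2 h2)

theorem ρ_eq_one_pow {x : ↥(H D)} (hx : ρ D x = 1) : (x : G) ^ 6 = 1 := by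
  have hz : ∀ k : ℕ, (D.z ^ k) ^ 6 = 1 := fun k => by
    rw [← pow_mul, show k * 6 = orderOf D.z * (2 * k) by rw [D.ord_z]; ring, pow_mul,
      pow_orderOf_eq_one, one_pow]
  obtain ⟨k, h | h⟩ := ρ_eq_one D hx
  · rw [h, hz]
  · rw [h, ((tz D).symm.pow_left k).mul_pow, hz, one_mul, show 6 = orderOf D.t * 3 by
      rw [D.ord_t], pow_mul, pow_orderOf_eq_one, one_pow]

theorem ρ_surj {a : Perm (Fin 5)} (ha : a ∈ alternatingGroup (Fin 5)) :
    ∃ h : ↥(H D), ρ D h = a := by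
  have hs : a.extendDomain e5 ∈ alternatingGroup (Fin 8) := by
    rw [Equiv.Perm.mem_alternatingGroup, Equiv.Perm.sign_extendDomain]
    exact Equiv.Perm.mem_alternatingGroup.1 ha
  obtain ⟨h, hh⟩ := D.π_surj ⟨_, hs⟩
  have hcom : Commute (a.extendDomain e5) cyc := by
    refine Equiv.Perm.Disjoint.commute fun i => ?_
    by_cases hi : 3 ≤ (i : ℕ)
    · exact Or.inr ((cyc_fix i).1 hi)
    · exact Or.inl (Equiv.Perm.extendDomain_apply_not_subtype _ _ hi)
  have hz : Commute (h : G) D.z := by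
    refine D.comm_odd h ⟨D.z, D.mem_z⟩ (by rw [D.ord_z]; decide) ?_
    apply Subtype.ext
    show (D.π h : Perm (Fin 8)) * D.π ⟨D.z, D.mem_z⟩ = D.π ⟨D.z, D.mem_z⟩ * D.π h
    rw [hh, D.π_z]
    exact hcom.eq
  have hH : (h : G) ∈ H D := (mem_H D).2 ⟨mem_cent.1 h.2, hz⟩
  refine ⟨⟨h, hH⟩, ?_⟩
  ext1 i
  apply e5.injective
  apply Subtype.ext
  rw [ρ_apply, πH_apply]
  show (D.π h : Perm (Fin 8)) (e5 i) = _
  rw [hh]
  exact Equiv.Perm.extendDomain_apply_image _ _ _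

/-- A subgroup of odd order normalised by `C(t) ⊓ C(z)` and contained in it lies in `⟨z⟩`. -/
theorem odd_le [Finite G] {N : Subgroup G} (hN : N ≤ H D) (hn : H D ≤ normalizer (N : Set G))
    (ho : Odd (Nat.card N)) : N ≤ zpowers D.z := by
  let R : Subgroup (Perm (Fin 5)) := (N.subgroupOf (H D)).map (ρ D)
  let M : Subgroup (alternatingGroup (Fin 5)) := R.comap (alternatingGroup (Fin 5)).subtype
  have hpow : ∀ p ∈ R, p ^ Nat.card N = 1 := by
    rintro p ⟨n, hnN, rfl⟩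
    rw [← map_pow, show n ^ Nat.card N = 1 from ?_, map_one]
    apply Subtype.ext
    rw [SubgroupClass.coe_pow]
    exact congrArg Subtype.val (pow_card_eq_one' (x := (⟨(n : G), hnN⟩ : ↥N)))
  have hM : M.Normal := by
    refine ⟨fun m hm a => ?_⟩
    obtain ⟨n, hnN, hnm⟩ := hm
    obtain ⟨h, hh⟩ := ρ_surj D a.2
    refine ⟨h * n * h⁻¹, ?_, ?_⟩
    · exact (mem_normalizer_iff.1 (hn h.2) _).1 hnN
    · rw [map_mul, map_mul, map_inv, hnm, hh]
      rfl
  rcases hM.eq_bot_or_eq_top with hb | ht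
  · intro x hx
    let n : ↥(H D) := ⟨x, hN hx⟩
    have hR : ρ D n ∈ R := ⟨n, hx, rfl⟩
    have hsign : Equiv.Perm.sign (ρ D n) = 1 := by
      have e := congrArg Equiv.Perm.sign (hpow _ hR)
      rw [map_pow, map_one] at e
      rcases Int.units_eq_one_or (Equiv.Perm.sign (ρ D n)) with h | h
      · exact h
      · rw [h, ho.neg_one_pow] at e
        exact absurd e (by decide)
    have hmem : (⟨ρ D n, Equiv.Perm.mem_alternatingGroup.2 hsign⟩ : alternatingGroup (Fin 5)) ∈ M :=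
      hR
    rw [hb, Subgroup.mem_bot] at hmem
    exact ρ_eq_one_odd D (congrArg Subtype.val hmem)
      (ho.of_dvd_nat (orderOf_dvd_natCard N hx))
  · exfalso
    let d : Perm (Fin 5) := swap 0 1 * swap 2 3
    have hd : d ∈ alternatingGroup (Fin 5) := by
      rw [Equiv.Perm.mem_alternatingGroup, map_mul, Equiv.Perm.sign_swap (by decide),
        Equiv.Perm.sign_swap (by decide)]
      decide
    have hdR : d ∈ R := by
      have : (⟨d, hd⟩ : alternatingGroup (Fin 5)) ∈ M := ht ▸ Subgroup.mem_top _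
      exact this
    have e := hpow d hdR
    obtain ⟨j, hj⟩ := ho
    rw [hj, pow_succ, pow_mul, show d ^ 2 = 1 by decide, one_pow, one_mul] at e
    exact absurd e (by decide)

/-- A subgroup without `t` normalised by `C(t) ⊓ C(z)` and contained in it lies in `⟨z⟩`. -/
theorem not_t_le [Finite G] {N : Subgroup G} (hN : N ≤ H D) (hn : H D ≤ normalizer (N : Set G))
    (ht : D.t ∉ N) : N ≤ zpowers D.z := by
  refine odd_le D hN hn (Nat.not_even_iff_odd.1 fun he => ht ?_)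
  have : Fact (Nat.Prime 2) := ⟨Nat.prime_two⟩
  obtain ⟨v, hv⟩ := exists_prime_orderOf_dvd_card' (G := N) 2 he.two_dvd
  have h := (mem_H D).1 (hN v.2)
  rw [← D.z_invol v (mem_cent.2 h.1) h.2 (by rw [Subgroup.orderOf_coe]; exact hv)]
  exact v.2

theorem exists_five : ∃ f ∈ H D, orderOf f = 5 := by
  let a : Perm (Fin 5) := swap 0 1 * swap 1 2 * swap 2 3 * swap 3 4
  have ha : a ∈ alternatingGroup (Fin 5) := by
    rw [Equiv.Perm.mem_alternatingGroup]; decide
  obtain ⟨h, hh⟩ := ρ_surj D ha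
  have : Fact (Nat.Prime 5) := ⟨by norm_num⟩
  refine ⟨((h : G)) ^ 6, pow_mem h.2 6, orderOf_eq_prime ?_ ?_⟩
  · have h5 : ρ D (h ^ 5) = 1 := by rw [map_pow, hh]; decide
    have := ρ_eq_one_pow D h5
    rw [SubgroupClass.coe_pow] at this
    rw [← pow_mul] at this ⊢
    exact this
  · intro h6
    have : ρ D (h ^ 6) = 1 := by
      rw [show h ^ 6 = 1 from Subtype.ext (by rw [SubgroupClass.coe_pow]; exact h6), map_one]
    rw [map_pow, hh] at this
    exact absurd this (by decide)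

end CfsgLib.McLDouble.CentZ
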