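import Cfsg.Agent.Lib.McLDouble.CentZBasic
import Cfsg.Agent.Lib.Base.Cores
import Cfsg.Agent.S0215

/-!
# The centralizer of `z`, II: the odd core

`t` is the only involution of `C(z)` commuting with `t`, so by the `Z*`-theorem `C(z) = O C(t, z)`
with `O` of odd order, `C_O(t) = ⟨z⟩` and `t` inverting `O` modulo `⟨z⟩`.
-/

set_option autoImplicit false

namespace CfsgLib.McLDouble.CentZ

open Subgroup Equiv

universe u

variable {G : Type u} [Group G] (D : Cov G)

theorem commute_mem_zpowers {x a b : G} (h : Commute x a) (hb : b ∈ zpowers a) : Commute x b := by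
  obtain ⟨n, rfl⟩ := hb
  exact h.zpow_right n

theorem pow_card_mem {S : Subgroup G} {a : G} (ha : a ∈ S) : a ^ Nat.card S = 1 :=
  orderOf_dvd_iff_pow_eq_one.1 (Subgroup.orderOf_dvd_natCard S ha)

theorem conj_commute {x a g : G} (h : Commute x (g⁻¹ * a * g)) : Commute (g * x * g⁻¹) a := by
  have e := h.map (MulAut.conj g).toMonoidHom
  simp only [MulEquiv.coe_toMonoidHom, MulAut.conj_apply] at e
  rwa [show g * (g⁻¹ * a * g) * g⁻¹ = a by group] at e

/-- The odd core of the centralizer of `z`. -/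
structure Core where
  O : Subgroup G
  le : O ≤ centralizer ({D.z} : Set G)
  odd : Odd (Nat.card O)
  norm : normalizer (zpowers D.z : Set G) ≤ normalizer (O : Set G)
  gen : centralizer ({D.z} : Set G) = O ⊔ H D
  comm : ∀ g ∈ centralizer ({D.z} : Set G), D.t * g * D.t⁻¹ * g⁻¹ ∈ O
  zO : D.z ∈ O

theorem exists_core [Finite G] : Nonempty (Core D) := by
  set X := centralizer ({D.z} : Set G) with hX
  have : Fact (Nat.Prime 2) := ⟨Nat.prime_two⟩
  let T : ↥X := ⟨D.t, (t_mem_H D).2⟩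
  let Z : ↥X := ⟨D.z, mem_cent.2 (Commute.refl _)⟩
  have hT : orderOf T = 2 := by rw [← Subgroup.orderOf_coe]; exact D.ord_t
  obtain ⟨P, hP⟩ := IsPGroup.exists_le_sylow
    (IsPGroup.of_card (p := 2) (n := 1) (G := zpowers T) (by rw [Nat.card_zpowers, hT, pow_one]))
  have hTP : T ∈ (P : Subgroup ↥X) := hP (mem_zpowers T)
  have : Nontrivial (P : Subgroup ↥X) := ⟨⟨⟨T, hTP⟩, 1, fun h => by
    rw [show T = 1 from congrArg Subtype.val h, orderOf_one] at hT; exact absurd hT (by norm_num)⟩⟩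
  have := P.2.center_nontrivial
  have htwo : 2 ∣ Nat.card (Subgroup.center (P : Subgroup ↥X)) := by
    obtain ⟨k, hk⟩ := IsPGroup.iff_card.1 (P.2.to_subgroup (Subgroup.center (P : Subgroup ↥X)))
    have h1 : 1 < Nat.card (Subgroup.center (P : Subgroup ↥X)) := Finite.one_lt_card
    rw [hk] at h1 ⊢
    exact dvd_pow_self 2 (by rintro rfl; norm_num at h1)
  obtain ⟨⟨v, hvc⟩, hv⟩ := exists_prime_orderOf_dvd_card'
    (G := Subgroup.center (P : Subgroup ↥X)) 2 htwo
  have hv2 : orderOf ((v : ↥X) : G) = 2 := by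
    rw [Subgroup.orderOf_coe, Subgroup.orderOf_coe]
    rwa [← Subgroup.orderOf_coe] at hv
  have hvt : Commute ((v : ↥X) : G) D.t := by
    have e := congrArg (fun w : (P : Subgroup ↥X) => ((w : ↥X) : G))
      (Subgroup.mem_center_iff.1 hvc ⟨T, hTP⟩)
    exact e.symm
  have hveq : ((v : ↥X) : G) = D.t :=
    D.z_invol _ (mem_cent.2 hvt) (mem_cent.1 (v : ↥X).2) hv2
  have hcent : ∀ p ∈ (P : Subgroup ↥X), Commute (p : G) D.t := fun p hp => by
    have e := congrArg (fun w : (P : Subgroup ↥X) => ((w : ↥X) : G))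
      (Subgroup.mem_center_iff.1 hvc ⟨p, hp⟩)
    simp only [Subgroup.coe_mul] at e
    rwa [hveq] at e
  obtain ⟨N, hNn, hNo, hN⟩ := Cfsg.Agent.S0215.result P T hT hTP (fun g hg => by
    apply Subtype.ext
    exact D.z_invol _ (mem_cent.2 (hcent _ hg)) (mem_cent.1 (g * T * g⁻¹).2)
      (by rw [Subgroup.orderOf_coe, ← hT]
          exact orderOf_injective (MulAut.conj g).toMonoidHom (MulAut.conj g).injective T))
  have := hNn
  let O₀ := Cfsg.oddCore ↥X
  have : O₀.Normal := inferInstance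
  have hNO : N ≤ O₀ := CfsgLib.Base.le_oddCore hNo
  have hOo : Odd (Nat.card O₀) := CfsgLib.Base.odd_card_oddCore _
  let O : Subgroup G := O₀.map X.subtype
  have hOX : O ≤ X := map_subtype_le _
  have hOnorm : ∀ y ∈ X, ∀ a ∈ O, y * a * y⁻¹ ∈ O := by
    rintro y hy a ⟨a₀, ha₀, rfl⟩
    exact ⟨⟨y, hy⟩ * a₀ * ⟨y, hy⟩⁻¹, Subgroup.Normal.conj_mem inferInstance a₀ ha₀ ⟨y, hy⟩, rfl⟩
  have hcomm : ∀ g ∈ X, D.t * g * D.t⁻¹ * g⁻¹ ∈ O := fun g hg =>
    ⟨_, hNO (hN ⟨g, hg⟩), rfl⟩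
  have hcard : Nat.card O = Nat.card O₀ :=
    Subgroup.card_map_of_injective X.subtype_injective
  have hnorm1 : ∀ g ∈ normalizer (zpowers D.z : Set G), ∀ a ∈ O, g * a * g⁻¹ ∈ O := by
    intro g hg
    have hg' : g⁻¹ ∈ normalizer (zpowers D.z : Set G) := inv_mem hg
    have hzg : g⁻¹ * D.z * g ∈ zpowers D.z := by
      have := (mem_normalizer_iff.1 hg' D.z).1 (mem_zpowers _)
      rwa [inv_inv] at this
    have hzg' : g * D.z * g⁻¹ ∈ zpowers D.z :=
      (mem_normalizer_iff.1 hg D.z).1 (mem_zpowers _)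
    let Og : Subgroup G := O.map (MulAut.conj g).toMonoidHom
    have hOg : Og ≤ X := by
      rintro _ ⟨a, ha, rfl⟩
      exact mem_cent.2 (conj_commute (commute_mem_zpowers (mem_cent.1 (hOX ha)) hzg))
    have : (Og.subgroupOf X).Normal := by
      refine ⟨?_⟩
      rintro n ⟨a, ha, hn⟩ y
      refine ⟨g⁻¹ * y * g * a * (g⁻¹ * y * g)⁻¹, hOnorm _ ?_ a ha, ?_⟩
      · refine mem_cent.2 ?_
        have h1 : Commute (g⁻¹ * (y : G) * g⁻¹⁻¹) D.z :=
          conj_commute (commute_mem_zpowers (mem_cent.1 y.2) (by rwa [inv_inv]))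
        rwa [inv_inv] at h1
      · simp only [MulEquiv.coe_toMonoidHom, MulAut.conj_apply] at hn ⊢
        show g * _ * g⁻¹ = (y : G) * (n : G) * (y : G)⁻¹
        rw [show (n : G) = g * a * g⁻¹ from hn.symm]
        group
    have hodd : Odd (Nat.card (Og.subgroupOf X)) := by
      rw [Nat.card_congr (Subgroup.subgroupOfEquivOfLe hOg).toEquiv,
        Subgroup.card_map_of_injective (MulAut.conj g).injective, hcard]
      exact hOo
    intro a ha
    have hag : g * a * g⁻¹ ∈ Og := ⟨a, ha, rfl⟩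
    exact ⟨⟨_, hOg hag⟩, CfsgLib.Base.le_oddCore hodd (mem_subgroupOf.2 hag), rfl⟩
  have hgen : X = O ⊔ H D := by
    refine le_antisymm (fun g hg => ?_) (sup_le hOX inf_le_right)
    set n : G := D.t⁻¹ * g⁻¹ * D.t * g with hn
    have htt : D.t⁻¹ = D.t := by
      rw [inv_eq_iff_mul_eq_one, ← pow_two, ← D.ord_t]; exact pow_orderOf_eq_one _
    have hnO : n ∈ O := by
      have := hcomm g⁻¹ (inv_mem hg)
      rw [inv_inv, htt] at this
      rwa [hn, htt]
    have hinv : D.t * n * D.t⁻¹ = n⁻¹ := by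
      rw [hn, htt, mul_inv_rev, mul_inv_rev, mul_inv_rev, inv_inv, htt]
      have h2 : D.t * D.t = 1 := by nth_rewrite 1 [← htt]; exact inv_mul_cancel _
      calc D.t * (D.t * g⁻¹ * D.t * g) * D.t = D.t * D.t * (g⁻¹ * D.t * g * D.t) := by group
        _ = _ := by rw [h2, one_mul]; group
    obtain ⟨k, hk⟩ := hcard ▸ hOo
    set m := n ^ (k + 1) with hm
    have hno : n ^ (2 * k + 1) = 1 := by
      rw [← hk]
      exact pow_card_mem hnO
    have hmm : m * m = n := by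
      rw [hm, ← pow_add, show k + 1 + (k + 1) = 2 * k + 1 + 1 by ring, pow_succ, hno, one_mul]
    have ham : D.t * m * D.t⁻¹ = m⁻¹ := by rw [hm, ← conj_pow, hinv, inv_pow]
    have hma : m⁻¹ * D.t = D.t * m := by rw [← ham]; group
    have hkey : m⁻¹ * D.t * m = g⁻¹ * D.t * g := by
      rw [hma, mul_assoc, hmm, hn]
      group
    have hh : m * g⁻¹ ∈ H D := by
      refine (mem_H D).2 ⟨?_, mem_cent.1 (mul_mem (hOX (pow_mem hnO _)) (inv_mem hg))⟩
      show m * g⁻¹ * D.t = D.t * (m * g⁻¹)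
      calc m * g⁻¹ * D.t = m * (g⁻¹ * D.t * g) * g⁻¹ := by group
        _ = m * (m⁻¹ * D.t * m) * g⁻¹ := by rw [hkey]
        _ = _ := by group
    rw [show g = (m * g⁻¹)⁻¹ * m by group]
    exact mul_mem (inv_mem (Subgroup.mem_sup_right hh))
      (Subgroup.mem_sup_left (pow_mem hnO _))
  refine ⟨⟨O, hOX, hcard ▸ hOo, fun g hg => mem_normalizer_iff.2 fun a => ⟨hnorm1 g hg a, fun ha => ?_⟩,
    hgen, hcomm, ?_⟩⟩
  · have := hnorm1 g⁻¹ (inv_mem hg) _ ha
    rwa [inv_inv, show g⁻¹ * (g * a * g⁻¹) * g = a by group] at this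
  · haveI : (zpowers Z).Normal := by
      refine ⟨fun n hn y => ?_⟩
      obtain ⟨j, rfl⟩ := hn
      have hc : Commute y Z := Subtype.ext (mem_cent.1 y.2)
      show y * Z ^ j * y⁻¹ ∈ zpowers Z
      rw [(hc.zpow_right j).eq, mul_inv_cancel_right]
      exact zpow_mem (mem_zpowers Z) j
    exact ⟨Z, CfsgLib.Base.le_oddCore (by
      rw [Nat.card_zpowers, ← Subgroup.orderOf_coe, D.ord_z]; decide) (mem_zpowers Z), rfl⟩

namespace Core

variable {D} (C : Core D)

theorem H_le_centralizer : H D ≤ centralizer ({D.z} : Set G) := inf_le_right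

theorem cent_le_norm : centralizer ({D.z} : Set G) ≤ normalizer (zpowers D.z : Set G) := by
  intro g hg
  rw [mem_normalizer_iff]
  intro a
  have hc : Commute g D.z := mem_cent.1 hg
  constructor
  · intro ha
    rw [(commute_mem_zpowers hc ha).eq, mul_inv_cancel_right]
    exact ha
  · intro ha
    have h := commute_mem_zpowers hc.inv_left ha
    rw [show a = g⁻¹ * (g * a * g⁻¹) * g by group, h.eq, inv_mul_cancel_right]
    exact ha

theorem conj_mem {g a : G} (hg : g ∈ centralizer ({D.z} : Set G)) (ha : a ∈ C.O) :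
    g * a * g⁻¹ ∈ C.O :=
  (mem_normalizer_iff.1 (C.norm (cent_le_norm hg)) a).1 ha

/-- `⟨z⟩` is central in `C(z)`. -/
theorem comm_z {g c : G} (hg : g ∈ centralizer ({D.z} : Set G)) (hc : c ∈ zpowers D.z) :
    Commute g c :=
  commute_mem_zpowers (mem_cent.1 hg) hc

theorem zpowers_le : zpowers D.z ≤ C.O := by
  exact Subgroup.zpowers_le.2 C.zO

theorem fix_t [Finite G] {r : G} (hr : r ∈ C.O) (h : Commute r D.t) : r ∈ zpowers D.z := by
  refine odd_le D (N := C.O ⊓ H D) inf_le_right (fun g hg => ?_) ?_ ⟨hr, (mem_H D).2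
    ⟨h, mem_cent.1 (C.le hr)⟩⟩
  · rw [mem_normalizer_iff]
    intro a
    simp only [Subgroup.mem_inf]
    refine ⟨fun ha => ⟨C.conj_mem (Subgroup.mem_inf.1 hg).2 ha.1,
      mul_mem (mul_mem hg ha.2) (inv_mem hg)⟩, fun ha => ?_⟩
    rw [show a = g⁻¹ * (g * a * g⁻¹) * g⁻¹⁻¹ by group]
    exact ⟨C.conj_mem (inv_mem (Subgroup.mem_inf.1 hg).2) ha.1,
      mul_mem (mul_mem (inv_mem hg) ha.2) (inv_mem (inv_mem hg))⟩
  · exact C.odd.of_dvd_nat (Subgroup.card_dvd_of_le inf_le_left)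

/-- `t` inverts `O` modulo `⟨z⟩`. -/
theorem inverts [Finite G] {r : G} (hr : r ∈ C.O) :
    D.t * r * D.t⁻¹ * r ∈ zpowers D.z := by
  have htt : D.t⁻¹ = D.t := by
    rw [inv_eq_iff_mul_eq_one, ← pow_two, ← D.ord_t]; exact pow_orderOf_eq_one _
  have h2 : D.t * D.t = 1 := by nth_rewrite 1 [← htt]; exact inv_mul_cancel _
  have htX : D.t ∈ centralizer ({D.z} : Set G) := (t_mem_H D).2
  set a : G := r⁻¹ * (D.t * r * D.t⁻¹) with ha
  have haO : a ∈ C.O := mul_mem (inv_mem hr) (C.conj_mem htX hr)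
  have hainv : D.t * a * D.t⁻¹ = a⁻¹ := by
    rw [ha, htt]
    calc D.t * (r⁻¹ * (D.t * r * D.t)) * D.t = D.t * r⁻¹ * D.t * r * (D.t * D.t) := by group
      _ = _ := by
        rw [h2, mul_one, mul_inv_rev, inv_inv, mul_inv_rev, mul_inv_rev, htt]
        group
  obtain ⟨k, hk⟩ := C.odd
  set y := a ^ (k + 1) with hy
  have hao : a ^ (2 * k + 1) = 1 := by
    rw [← hk]
    exact pow_card_mem haO
  have hyy : y * y = a := by
    rw [hy, ← pow_add, show k + 1 + (k + 1) = 2 * k + 1 + 1 by ring, pow_succ, hao, one_mul]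
  have hyt : D.t * y * D.t⁻¹ = y⁻¹ := by rw [hy, ← conj_pow, hainv, inv_pow]
  have hry : r * y ∈ zpowers D.z := by
    refine C.fix_t (mul_mem hr (pow_mem haO _)) (Commute.symm ?_)
    show D.t * (r * y) = r * y * D.t
    apply mul_inv_eq_iff_eq_mul.1
    calc D.t * (r * y) * D.t⁻¹ = (D.t * r * D.t⁻¹) * (D.t * y * D.t⁻¹) := by group
      _ = r * a * y⁻¹ := by rw [hyt, ha]; group
      _ = r * y := by rw [← hyy]; group
  have hyX : y ∈ centralizer ({D.z} : Set G) := C.le (pow_mem haO _)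
  have key : D.t * r * D.t⁻¹ * r = (r * y) * (r * y) := by
    have h1 : D.t * r * D.t⁻¹ = r * y * y := by
      rw [mul_assoc r y y, hyy, ha]; group
    rw [h1]
    calc r * y * y * r = (r * y) * (y * (r * y) * y⁻¹) := by group
      _ = _ := by rw [(comm_z hyX hry).eq, mul_inv_cancel_right]
  rw [key]
  exact mul_mem hry hry

/-- `O` has class at most two. -/
theorem commutator_mem [Finite G] {r q : G} (hr : r ∈ C.O) (hq : q ∈ C.O) :
    r * q * r⁻¹ * q⁻¹ ∈ zpowers D.z := by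
  set φ : G → G := fun a => D.t * a * D.t⁻¹ * a with hφ
  have h1 := C.inverts (mul_mem (inv_mem hr) (inv_mem hq))
  have h2 := C.inverts (inv_mem hr)
  have h3 := C.inverts (inv_mem hq)
  have htr : D.t * r⁻¹ * D.t⁻¹ = φ r⁻¹ * r := by simp only [hφ]; group
  have htq : D.t * q⁻¹ * D.t⁻¹ = φ q⁻¹ * q := by simp only [hφ]; group
  have e : φ (r⁻¹ * q⁻¹) = (φ r⁻¹ * r) * (φ q⁻¹ * q) * (r⁻¹ * q⁻¹) := by
    rw [← htr, ← htq]; simp only [hφ]; group
  have hc : Commute r (φ q⁻¹) := comm_z (C.le hr) h3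
  have e2 : r * q * r⁻¹ * q⁻¹ = (φ r⁻¹ * φ q⁻¹)⁻¹ * φ (r⁻¹ * q⁻¹) := by
    rw [e]
    calc r * q * r⁻¹ * q⁻¹
        = (φ r⁻¹ * φ q⁻¹)⁻¹ * (φ r⁻¹ * (φ q⁻¹ * r)) * q * (r⁻¹ * q⁻¹) := by group
      _ = _ := by rw [← hc.eq]; group
  rw [e2]
  exact mul_mem (inv_mem (mul_mem h2 h3)) h1

end Core

end CfsgLib.McLDouble.CentZ
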