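import Mathlib

/-!
# Centralizers and normalizers in `A₈` of a few permutations
-/

set_option autoImplicit false
set_option linter.unusedSectionVars false
set_option maxRecDepth 100000

namespace CfsgLib.McLDouble

open Subgroup Equiv

/-- `(0 1 2)` -/
def pz : alternatingGroup (Fin (6 + 2)) := ⟨swap 0 1 * swap 1 2, Perm.mem_alternatingGroup.2 (by decide)⟩

/-- `(3 4 5)` -/
def pb : alternatingGroup (Fin (6 + 2)) := ⟨swap 3 4 * swap 4 5, Perm.mem_alternatingGroup.2 (by decide)⟩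

/-- `(0 3)(1 4)(2 5)(6 7)` -/
def ps : alternatingGroup (Fin (6 + 2)) :=
  ⟨swap 0 3 * swap 1 4 * swap 2 5 * swap 6 7, Perm.mem_alternatingGroup.2 (by decide)⟩

/-- `(0 1)(3 4)` -/
def pr : alternatingGroup (Fin (6 + 2)) := ⟨swap 0 1 * swap 3 4, Perm.mem_alternatingGroup.2 (by decide)⟩

/-- `(0 1)(6 7)` -/
def pe : alternatingGroup (Fin (6 + 2)) := ⟨swap 0 1 * swap 6 7, Perm.mem_alternatingGroup.2 (by decide)⟩

theorem two_mul_card_centralizer (σ : alternatingGroup (Fin (6 + 2))) {h : Perm (Fin (6 + 2))}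
    (hc : h * σ = σ * h) (ho : Perm.sign h = -1) :
    2 * Nat.card (centralizer ({σ} : Set (alternatingGroup (Fin (6 + 2))))) =
      Nat.card (centralizer ({(σ : Perm (Fin (6 + 2)))} : Set (Perm (Fin (6 + 2))))) := by
  set K := centralizer ({(σ : Perm (Fin (6 + 2)))} : Set (Perm (Fin (6 + 2)))) with hK
  let f : K →* ℤˣ := Perm.sign.comp K.subtype
  have hf : f.range = ⊤ := by
    rw [eq_top_iff]
    intro u _
    rcases Int.units_eq_one_or u with rfl | rfl
    · exact one_mem _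
    · exact ⟨⟨h, mem_centralizer_singleton_iff.2 hc⟩, ho⟩
  have h2 : Nat.card f.range = 2 := by rw [hf, card_top, Nat.card_eq_fintype_card]; rfl
  have e : Nat.card f.ker = Nat.card (centralizer ({σ} : Set (alternatingGroup (Fin (6 + 2))))) :=
    Nat.card_congr
      { toFun := fun x => ⟨⟨x.1.1, Perm.mem_alternatingGroup.2 x.2⟩, mem_centralizer_singleton_iff.2
          (Subtype.ext (mem_centralizer_singleton_iff.1 x.1.2))⟩
        invFun := fun x => ⟨⟨x.1.1, mem_centralizer_singleton_iff.2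
          (congrArg Subtype.val (mem_centralizer_singleton_iff.1 x.2))⟩, Perm.mem_alternatingGroup.1 x.1.2⟩
        left_inv := fun x => rfl
        right_inv := fun x => rfl }
  rw [← f.ker.card_mul_index, index_ker, h2, e, mul_comm]

theorem card_cent_pz : Nat.card (centralizer ({pz} : Set (alternatingGroup (Fin (6 + 2))))) = 180 := by
  have h := two_mul_card_centralizer pz (h := swap 6 7) (by decide) (by decide)
  rw [Equiv.Perm.nat_card_centralizer,
    show (pz : Perm (Fin (6 + 2))).cycleType = {3} by decide +kernel] at h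
  simp [Nat.factorial] at h
  exact Nat.eq_of_mul_eq_mul_left two_pos (h.trans (by norm_num))

theorem card_cent_pzb :
    Nat.card (centralizer ({pz * pb} : Set (alternatingGroup (Fin (6 + 2))))) = 18 := by
  have h := two_mul_card_centralizer (pz * pb) (h := swap 6 7) (by decide) (by decide)
  rw [Equiv.Perm.nat_card_centralizer,
    show ((pz * pb : alternatingGroup (Fin (6 + 2))) : Perm (Fin (6 + 2))).cycleType = {3, 3} by
      decide +kernel] at h
  simp [Nat.factorial] at h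
  exact Nat.eq_of_mul_eq_mul_left two_pos (h.trans (by norm_num))

theorem card_cent_ps : Nat.card (centralizer ({ps} : Set (alternatingGroup (Fin (6 + 2))))) = 192 := by
  have h := two_mul_card_centralizer ps (h := swap 0 3) (by decide) (by decide)
  rw [Equiv.Perm.nat_card_centralizer,
    show (ps : Perm (Fin (6 + 2))).cycleType = {2, 2, 2, 2} by decide +kernel] at h
  simp [Nat.factorial] at h
  exact Nat.eq_of_mul_eq_mul_left two_pos (h.trans (by norm_num))

/-- What commutes with both three-cycles is a product of their powers. -/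
theorem commute_pz_pb {x : alternatingGroup (Fin (6 + 2))} (hz : Commute x pz) (hb : Commute x pb) :
    ∃ i j : Fin 3, x = pz ^ (i : ℕ) * pb ^ (j : ℕ) := by
  set σ := (x : Perm (Fin (6 + 2))) with hσ
  have h1 : ∀ p, σ ((pz : Perm (Fin (6 + 2))) p) = (pz : Perm (Fin (6 + 2))) (σ p) := fun p =>
    DFunLike.congr_fun (congrArg Subtype.val hz.eq) p
  have h2 : ∀ p, σ ((pb : Perm (Fin (6 + 2))) p) = (pb : Perm (Fin (6 + 2))) (σ p) := fun p =>
    DFunLike.congr_fun (congrArg Subtype.val hb.eq) p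
  have k1 : ∀ q : Fin (6 + 2), (pz : Perm (Fin (6 + 2))) q ≠ q → q.1 < 3 := by decide
  have k2 : ∀ q : Fin (6 + 2), (pb : Perm (Fin (6 + 2))) q ≠ q → 3 ≤ q.1 ∧ q.1 < 6 := by decide
  have h0 : (σ 0).1 < 3 := k1 _ fun e => by
    rw [← h1] at e
    exact absurd (σ.injective e) (by decide)
  have h3 : 3 ≤ (σ 3).1 ∧ (σ 3).1 < 6 := k2 _ fun e => by
    rw [← h2] at e
    exact absurd (σ.injective e) (by decide)
  refine ⟨⟨(σ 0).1, h0⟩, ⟨(σ 3).1 - 3, by omega⟩, ?_⟩
  set y := (pz ^ (σ 0).1 * pb ^ ((σ 3).1 - 3))⁻¹ * x with hy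
  suffices y = 1 by rwa [hy, inv_mul_eq_one, eq_comm] at this
  have hpq : Commute pz pb := show pz * pb = pb * pz by decide
  have cz : Commute y pz :=
    (((Commute.refl pz).pow_left _).mul_left (hpq.symm.pow_left _)).inv_left.mul_left hz
  have cb : Commute y pb :=
    ((hpq.pow_left _).mul_left ((Commute.refl pb).pow_left _)).inv_left.mul_left hb
  set τ := (y : Perm (Fin (6 + 2))) with hτ
  have g1 : ∀ p, τ ((pz : Perm (Fin (6 + 2))) p) = (pz : Perm (Fin (6 + 2))) (τ p) := fun p =>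
    DFunLike.congr_fun (congrArg Subtype.val cz.eq) p
  have g2 : ∀ p, τ ((pb : Perm (Fin (6 + 2))) p) = (pb : Perm (Fin (6 + 2))) (τ p) := fun p =>
    DFunLike.congr_fun (congrArg Subtype.val cb.eq) p
  have t0 : τ 0 = 0 := by
    have hh : ∀ a b : Fin 3,
        (((pz ^ (a : ℕ) * pb ^ (b : ℕ)) : Perm (Fin (6 + 2))) 0).1 = a.1 := by decide
    rw [hτ, hy, Subgroup.coe_mul, Perm.mul_apply, Subgroup.coe_inv, Perm.inv_eq_iff_eq]
    exact Fin.ext (hh ⟨(σ 0).1, h0⟩ ⟨(σ 3).1 - 3, by omega⟩).symm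
  have t3 : τ 3 = 3 := by
    have hh : ∀ a b : Fin 3,
        (((pz ^ (a : ℕ) * pb ^ (b : ℕ)) : Perm (Fin (6 + 2))) 3).1 = b.1 + 3 := by decide
    rw [hτ, hy, Subgroup.coe_mul, Perm.mul_apply, Subgroup.coe_inv, Perm.inv_eq_iff_eq]
    exact Fin.ext ((show (σ 3).1 = (σ 3).1 - 3 + 3 by omega).trans
      (hh ⟨(σ 0).1, h0⟩ ⟨(σ 3).1 - 3, by omega⟩).symm)
  have t1 : τ 1 = 1 := by
    have := g1 0
    rw [t0] at this
    exact (congrArg τ (show (1 : Fin (6 + 2)) = (pz : Perm (Fin (6 + 2))) 0 by decide)).trans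
      (this.trans (by decide))
  have t2 : τ 2 = 2 := by
    have := g1 1
    rw [t1] at this
    exact (congrArg τ (show (2 : Fin (6 + 2)) = (pz : Perm (Fin (6 + 2))) 1 by decide)).trans
      (this.trans (by decide))
  have t4 : τ 4 = 4 := by
    have := g2 3
    rw [t3] at this
    exact (congrArg τ (show (4 : Fin (6 + 2)) = (pb : Perm (Fin (6 + 2))) 3 by decide)).trans
      (this.trans (by decide))
  have t5 : τ 5 = 5 := by
    have := g2 4
    rw [t4] at this
    exact (congrArg τ (show (5 : Fin (6 + 2)) = (pb : Perm (Fin (6 + 2))) 4 by decide)).trans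
      (this.trans (by decide))
  have key : ∀ a b : Fin (6 + 2), a = 6 ∨ a = 7 → b = 6 ∨ b = 7 → a ≠ b → (a = 6 ∧ b = 7) ∨ (a = 7 ∧ b = 6) := by
    decide
  have m : ∀ q : Fin (6 + 2), q = 6 ∨ q = 7 → τ q = 6 ∨ τ q = 7 := by
    intro q hq
    have hn : ∀ p : Fin (6 + 2), p.1 < 6 → τ p = p := by
      intro p hp
      rcases p with ⟨p, hp'⟩
      simp only at hp
      interval_cases p <;> assumption
    by_contra hne
    push Not at hne
    have h6 : (τ q).1 < 6 := by
      have : (τ q).1 ≠ 6 := fun e => hne.1 (Fin.ext e)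
      have : (τ q).1 ≠ 7 := fun e => hne.2 (Fin.ext e)
      omega
    have := τ.injective (hn _ h6)
    rcases hq with rfl | rfl <;> rw [this] at h6 <;> exact absurd h6 (by decide)
  have hτ1 : τ = 1 := by
    rcases key _ _ (m 6 (Or.inl rfl)) (m 7 (Or.inr rfl)) (fun e => absurd (τ.injective e) (by decide))
      with ⟨a, b⟩ | ⟨a, b⟩
    · ext p
      fin_cases p <;> simp [t0, t1, t2, t3, t4, t5, a, b]
    · exfalso
      have : τ = swap 6 7 := by
        ext p
        fin_cases p <;> simp [t0, t1, t2, t3, t4, t5, a, b, swap_apply_def]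
      have hs := Perm.mem_alternatingGroup.1 y.2
      rw [show (y : Perm (Fin (6 + 2))) = τ from rfl, this] at hs
      exact absurd hs (by decide)
  exact Subtype.ext hτ1

theorem card_cent_pz_pb : Nat.card ↥(centralizer ({pz} : Set (alternatingGroup (Fin (6 + 2)))) ⊓
    centralizer ({pb} : Set (alternatingGroup (Fin (6 + 2))))) = 9 := by
  let f : Fin 3 × Fin 3 → ↥(centralizer ({pz} : Set (alternatingGroup (Fin (6 + 2)))) ⊓
      centralizer ({pb} : Set (alternatingGroup (Fin (6 + 2))))) := fun p =>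
    ⟨pz ^ (p.1 : ℕ) * pb ^ (p.2 : ℕ), by
      have hpq : Commute pz pb := show pz * pb = pb * pz by decide
      exact ⟨mem_centralizer_singleton_iff.2
        (((Commute.refl pz).pow_left _).mul_left (hpq.symm.pow_left _)).eq,
        mem_centralizer_singleton_iff.2
          ((hpq.pow_left _).mul_left ((Commute.refl pb).pow_left _)).eq⟩⟩
  have hb : Function.Bijective f := by
    refine ⟨fun p q h => ?_, fun x => ?_⟩
    · have key : ∀ p q : Fin 3 × Fin 3,
          pz ^ (p.1 : ℕ) * pb ^ (p.2 : ℕ) = pz ^ (q.1 : ℕ) * pb ^ (q.2 : ℕ) → p = q := by decide +kernel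
      exact key p q (congrArg Subtype.val h)
    · obtain ⟨i, j, e⟩ := commute_pz_pb (x := (x : alternatingGroup (Fin (6 + 2))))
        (mem_centralizer_singleton_iff.1 x.2.1) (mem_centralizer_singleton_iff.1 x.2.2)
      exact ⟨(i, j), Subtype.ext e.symm⟩
  rw [← Nat.card_congr (Equiv.ofBijective f hb), Nat.card_prod, Nat.card_fin]

/-- The conjugates of `pz` and `pb` inside `⟨pz, pb⟩`. -/
def IsPair (p q : alternatingGroup (Fin (6 + 2))) : Prop :=
  ((p = pz ∨ p = pz⁻¹) ∧ (q = pb ∨ q = pb⁻¹)) ∨ ((p = pb ∨ p = pb⁻¹) ∧ (q = pz ∨ q = pz⁻¹))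

theorem card_pairs : Nat.card {pq : alternatingGroup (Fin (6 + 2)) × alternatingGroup (Fin (6 + 2)) //
    IsPair pq.1 pq.2} = 8 := by
  classical
  let L : List (alternatingGroup (Fin (6 + 2)) × alternatingGroup (Fin (6 + 2))) :=
    [(pz, pb), (pz, pb⁻¹), (pz⁻¹, pb), (pz⁻¹, pb⁻¹), (pb, pz), (pb, pz⁻¹), (pb⁻¹, pz), (pb⁻¹, pz⁻¹)]
  have hn : L.Nodup := by decide +kernel
  rw [Nat.card_congr (Equiv.subtypeEquivRight (q := fun pq => pq ∈ L.toFinset) ?_), Nat.card_eq_finsetCard,
    List.toFinset_card_of_nodup hn]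
  · rfl
  · rintro ⟨p, q⟩
    simp only [List.mem_toFinset, L, List.mem_cons, List.mem_nil_iff, or_false, Prod.mk.injEq, IsPair,
      and_or_left, or_and_right, or_assoc]
    constructor <;> rintro (h | h | h | h | h | h | h | h) <;> simp only [h, true_and, true_or, or_true]

set_option maxHeartbeats 1000000 in
theorem card_norm_pz_pb :
    Nat.card (normalizer ((closure ({pz, pb} : Set (alternatingGroup (Fin (6 + 2)))) :
      Subgroup (alternatingGroup (Fin (6 + 2)))) : Set (alternatingGroup (Fin (6 + 2))))) = 72 := by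
  set A := closure ({pz, pb} : Set (alternatingGroup (Fin (6 + 2)))) with hA
  set N := normalizer (A : Set (alternatingGroup (Fin (6 + 2)))) with hN
  have hpq : Commute pz pb := show pz * pb = pb * pz by decide
  have hmem : ∀ a ∈ A, ∃ i j : Fin 3, a = pz ^ (i : ℕ) * pb ^ (j : ℕ) := fun a ha => by
    have hcm : A ≤ centralizer ({pz} : Set (alternatingGroup (Fin (6 + 2)))) ⊓
        centralizer ({pb} : Set (alternatingGroup (Fin (6 + 2)))) := by
      rw [hA, closure_le]
      rintro _ (rfl | rfl)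
      · exact ⟨mem_centralizer_singleton_iff.2 rfl, mem_centralizer_singleton_iff.2 hpq.eq⟩
      · exact ⟨mem_centralizer_singleton_iff.2 hpq.symm.eq, mem_centralizer_singleton_iff.2 rfl⟩
    exact commute_pz_pb (mem_centralizer_singleton_iff.1 (hcm ha).1)
      (mem_centralizer_singleton_iff.1 (hcm ha).2)
  -- the image of `pz` and of `pb`
  have hpair : ∀ x ∈ N, IsPair (x * pz * x⁻¹) (x * pb * x⁻¹) := by
    intro x hx
    obtain ⟨i, j, e1⟩ := hmem _ ((mem_normalizer_iff.1 hx pz).1 (subset_closure (Or.inl rfl)))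
    obtain ⟨k, l, e2⟩ := hmem _ ((mem_normalizer_iff.1 hx pb).1 (subset_closure (Or.inr rfl)))
    have c1 := congrArg (fun y : alternatingGroup (Fin (6 + 2)) =>
      (y : Perm (Fin (6 + 2))).support.card) e1
    have c2 := congrArg (fun y : alternatingGroup (Fin (6 + 2)) =>
      (y : Perm (Fin (6 + 2))).support.card) e2
    simp only [Subgroup.coe_mul, Subgroup.coe_inv, Perm.support_conj, Finset.card_map] at c1 c2
    have hne : x * pz * x⁻¹ ≠ x * pb * x⁻¹ ∧ x * pz * x⁻¹ ≠ (x * pb * x⁻¹)⁻¹ := by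
      rw [show (x * pb * x⁻¹)⁻¹ = x * pb⁻¹ * x⁻¹ by group]
      constructor <;> intro e <;> exact absurd (mul_left_cancel (mul_right_cancel e)) (by decide)
    have key : ∀ i j k l : Fin 3,
        (pz : Perm (Fin (6 + 2))).support.card =
          ((pz ^ (i : ℕ) * pb ^ (j : ℕ) : alternatingGroup (Fin (6 + 2))) : Perm (Fin (6 + 2))).support.card →
        (pb : Perm (Fin (6 + 2))).support.card =
          ((pz ^ (k : ℕ) * pb ^ (l : ℕ) : alternatingGroup (Fin (6 + 2))) : Perm (Fin (6 + 2))).support.card →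
        pz ^ (i : ℕ) * pb ^ (j : ℕ) ≠ pz ^ (k : ℕ) * pb ^ (l : ℕ) →
        pz ^ (i : ℕ) * pb ^ (j : ℕ) ≠ (pz ^ (k : ℕ) * pb ^ (l : ℕ))⁻¹ →
        (((pz ^ (i : ℕ) * pb ^ (j : ℕ) = pz ∨ pz ^ (i : ℕ) * pb ^ (j : ℕ) = pz⁻¹) ∧
          (pz ^ (k : ℕ) * pb ^ (l : ℕ) = pb ∨ pz ^ (k : ℕ) * pb ^ (l : ℕ) = pb⁻¹)) ∨
        ((pz ^ (i : ℕ) * pb ^ (j : ℕ) = pb ∨ pz ^ (i : ℕ) * pb ^ (j : ℕ) = pb⁻¹) ∧
          (pz ^ (k : ℕ) * pb ^ (l : ℕ) = pz ∨ pz ^ (k : ℕ) * pb ^ (l : ℕ) = pz⁻¹))) := by
      decide +kernel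
    rw [e1, e2] at hne
    rw [e1, e2]
    exact key i j k l c1 c2 hne.1 hne.2
  -- generators of the automizer
  have gen : ∀ p q : alternatingGroup (Fin (6 + 2)), IsPair p q →
      ∃ x ∈ N, x * pz * x⁻¹ = p ∧ x * pb * x⁻¹ = q := by
    have base : ∀ g : alternatingGroup (Fin (6 + 2)), IsPair (g * pz * g⁻¹) (g * pb * g⁻¹) → g ∈ N := by
      intro g hg
      have hsub : ({g * pz * g⁻¹, g * pb * g⁻¹} : Set (alternatingGroup (Fin (6 + 2)))) ⊆ A := by
        have hz : pz ∈ A := subset_closure (Or.inl rfl)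
        have hb : pb ∈ A := subset_closure (Or.inr rfl)
        rintro _ (rfl | rfl) <;>
          rcases hg with ⟨h1 | h1, h2 | h2⟩ | ⟨h1 | h1, h2 | h2⟩ <;>
          first
          | (rw [h1]; first | exact hz | exact hb | exact inv_mem hz | exact inv_mem hb)
          | (rw [h2]; first | exact hz | exact hb | exact inv_mem hz | exact inv_mem hb)
      have hle : A ≤ A.comap (MulAut.conj g).toMonoidHom := by
        rw [hA, closure_le]
        rintro _ (rfl | rfl)
        · exact hsub (Or.inl rfl)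
        · exact hsub (Or.inr rfl)
      refine mem_normalizer_iff.2 fun a => ⟨fun ha => hle ha, fun ha => ?_⟩
      have hmap : A.map (MulAut.conj g).toMonoidHom = A := eq_of_le_of_card_ge
        (map_le_iff_le_comap.2 hle) (by rw [card_map_of_injective (MulAut.conj g).injective])
      rw [← hmap] at ha
      obtain ⟨a', ha', e⟩ := ha
      rwa [← mul_left_cancel (mul_right_cancel (show g * a' * g⁻¹ = g * a * g⁻¹ from e))]
    intro p q hpq'
    have cases8 : ∀ i j k : Fin 2, IsPair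
        ((pe ^ (i : ℕ) * (ps * pe * ps) ^ (j : ℕ) * ps ^ (k : ℕ)) * pz *
          (pe ^ (i : ℕ) * (ps * pe * ps) ^ (j : ℕ) * ps ^ (k : ℕ))⁻¹)
        ((pe ^ (i : ℕ) * (ps * pe * ps) ^ (j : ℕ) * ps ^ (k : ℕ)) * pb *
          (pe ^ (i : ℕ) * (ps * pe * ps) ^ (j : ℕ) * ps ^ (k : ℕ))⁻¹) := by
      unfold IsPair
      decide +kernel
    have found : ∃ i j k : Fin 2,
        (pe ^ (i : ℕ) * (ps * pe * ps) ^ (j : ℕ) * ps ^ (k : ℕ)) * pz *
          (pe ^ (i : ℕ) * (ps * pe * ps) ^ (j : ℕ) * ps ^ (k : ℕ))⁻¹ = p ∧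
        (pe ^ (i : ℕ) * (ps * pe * ps) ^ (j : ℕ) * ps ^ (k : ℕ)) * pb *
          (pe ^ (i : ℕ) * (ps * pe * ps) ^ (j : ℕ) * ps ^ (k : ℕ))⁻¹ = q := by
      rcases hpq' with ⟨rfl | rfl, rfl | rfl⟩ | ⟨rfl | rfl, rfl | rfl⟩ <;> decide +kernel
    obtain ⟨i, j, k, h1, h2⟩ := found
    exact ⟨_, base _ (cases8 i j k), h1, h2⟩
  -- count
  let f : N → {pq : alternatingGroup (Fin (6 + 2)) × alternatingGroup (Fin (6 + 2)) // IsPair pq.1 pq.2} :=
    fun x => ⟨(x.1 * pz * x.1⁻¹, x.1 * pb * x.1⁻¹), hpair x x.2⟩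
  have hcard := card_pairs
  have hfib : ∀ v, Nat.card {x : N // f x = v} = 9 := by
    intro v
    obtain ⟨x0, hx0, e1, e2⟩ := gen _ _ v.2
    refine (Nat.card_congr ?_).trans card_cent_pz_pb
    refine
      { toFun := fun x => ⟨x0⁻¹ * x.1.1, ?_, ?_⟩
        invFun := fun c => ⟨⟨x0 * c.1, ?_⟩, ?_⟩
        left_inv := fun x => Subtype.ext (Subtype.ext (mul_inv_cancel_left _ _))
        right_inv := fun c => Subtype.ext (inv_mul_cancel_left _ _) }
    · refine mem_centralizer_singleton_iff.2 ?_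
      have := (congrArg (fun y => y.1.1) x.2 : x.1.1 * pz * x.1.1⁻¹ = v.1.1).trans e1.symm
      calc x0⁻¹ * x.1.1 * pz = x0⁻¹ * (x.1.1 * pz * x.1.1⁻¹) * x.1.1 := by group
        _ = x0⁻¹ * (x0 * pz * x0⁻¹) * x.1.1 := by rw [this]
        _ = _ := by group
    · refine mem_centralizer_singleton_iff.2 ?_
      have := (congrArg (fun y => y.1.2) x.2 : x.1.1 * pb * x.1.1⁻¹ = v.1.2).trans e2.symm
      calc x0⁻¹ * x.1.1 * pb = x0⁻¹ * (x.1.1 * pb * x.1.1⁻¹) * x.1.1 := by group
        _ = x0⁻¹ * (x0 * pb * x0⁻¹) * x.1.1 := by rw [this]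
        _ = _ := by group
    · refine mul_mem hx0 (mem_normalizer_iff.2 fun a => ?_)
      have hc : ∀ y ∈ A, (c.1 : alternatingGroup (Fin (6 + 2))) * y = y * c.1 := fun y hy => by
        obtain ⟨i, j, rfl⟩ := hmem y hy
        exact ((Commute.pow_right (mem_centralizer_singleton_iff.1 c.2.1) _).mul_right
          (Commute.pow_right (mem_centralizer_singleton_iff.1 c.2.2) _)).eq
      constructor
      · intro ha
        rw [hc a ha, mul_inv_cancel_right]; exact ha
      · intro ha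
        have := hc _ ha
        rw [show (c.1 : alternatingGroup (Fin (6 + 2))) * a * (c.1)⁻¹ * c.1 = c.1 * a by group] at this
        rwa [mul_left_cancel this] at ha
    · apply Subtype.ext
      refine Prod.ext ?_ ?_
      · show x0 * c.1 * pz * (x0 * c.1)⁻¹ = v.1.1
        rw [mul_assoc x0, mem_centralizer_singleton_iff.1 c.2.1, ← e1]; group
      · show x0 * c.1 * pb * (x0 * c.1)⁻¹ = v.1.2
        rw [mul_assoc x0, mem_centralizer_singleton_iff.1 c.2.2, ← e2]; group
  haveI : Fintype {pq : alternatingGroup (Fin (6 + 2)) × alternatingGroup (Fin (6 + 2)) //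
      IsPair pq.1 pq.2} := Fintype.ofFinite _
  rw [Nat.card_congr (Equiv.sigmaFiberEquiv f).symm, Nat.card_sigma, Finset.sum_congr rfl (fun v _ => hfib v),
    Finset.sum_const, Finset.card_univ, ← Nat.card_eq_fintype_card, hcard]
  rfl

end CfsgLib.McLDouble
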