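import Cfsg.Agent.Lib.McLDouble.Lifts
import Cfsg.Agent.Lib.McLDouble.PermFacts

/-!
# The named elements of a double cover of `A₈` as involution centralizer
-/

set_option autoImplicit false
set_option linter.unusedSectionVars false
set_option maxRecDepth 100000

namespace CfsgLib.McLDouble

open Subgroup Equiv CfsgLib.AltCover

universe u

section Double

variable {H : Type u} [Group H] [Finite H] {φ : H →* alternatingGroup (Fin (6 + 2))}

theorem isDouble_of_cover (h : Cfsg.IsNonsplitDoubleCover H (alternatingGroup (Fin (6 + 2)))) :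
    ∃ φ : H →* alternatingGroup (Fin (6 + 2)), IsDouble φ ∧ φ.ker = center H ∧ commutator H = ⊤ := by
  obtain ⟨hc, ⟨e⟩, hns⟩ := h
  refine ⟨e.toMonoidHom.comp (QuotientGroup.mk' (center H)), ?_, ?_, ?_⟩
  rotate_right 1
  · haveI : IsSimpleGroup (alternatingGroup (Fin (6 + 2))) :=
      alternatingGroup.isSimpleGroup (by rw [Nat.card_fin]; omega)
    by_contra hne
    have hmap : (commutator H).map (e.toMonoidHom.comp (QuotientGroup.mk' (center H))) = ⊤ := by
      rw [commutator_def, Subgroup.map_commutator,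
        map_top_of_surjective _ (e.surjective.comp (QuotientGroup.mk'_surjective _)), ← commutator_def]
      refine (IsSimpleGroup.eq_bot_or_eq_top_of_normal _ inferInstance).resolve_left fun hb => ?_
      rw [commutator_def, commutator_eq_bot_iff_le_centralizer] at hb
      have := hb (mem_top (⟨swap 0 1 * swap 1 2, Perm.mem_alternatingGroup.2 (by decide)⟩ :
        alternatingGroup (Fin (6 + 2))))
      have h2 := congrArg (fun y : alternatingGroup (Fin (6 + 2)) => (y : Perm (Fin (6 + 2))) 0)
        (mem_centralizer_iff.1 this (⟨swap 0 1 * swap 1 3, Perm.mem_alternatingGroup.2 (by decide)⟩ :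
          alternatingGroup (Fin (6 + 2))) (mem_top _))
      exact absurd h2 (by decide)
    have hsup : commutator H ⊔ center H = ⊤ := by
      have := congrArg (comap (e.toMonoidHom.comp (QuotientGroup.mk' (center H)))) hmap
      rw [comap_map_eq, comap_top] at this
      rwa [show (e.toMonoidHom.comp (QuotientGroup.mk' (center H))).ker = center H by
        ext x; simp [MonoidHom.mem_ker]] at this
    have hinf : commutator H ⊓ center H = ⊥ := by
      by_contra hb
      have h2 := card_dvd_of_le (inf_le_right : commutator H ⊓ center H ≤ center H)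
      rw [hc] at h2
      rcases (Nat.dvd_prime Nat.prime_two).1 h2 with h1 | h1
      · exact hb (card_eq_one.1 h1)
      · have he : commutator H ⊓ center H = center H :=
          eq_of_le_of_card_ge inf_le_right (by rw [h1, hc])
        rw [sup_eq_left.2 (he ▸ inf_le_left)] at hsup
        exact hne hsup
    exact hns _ (isComplement'_of_disjoint_and_mul_eq_univ (disjoint_iff.2 (by rw [inf_comm]; exact hinf))
      (by rw [← normal_mul, sup_comm, hsup]; rfl))
  · refine ⟨e.surjective.comp (QuotientGroup.mk'_surjective _), fun x hx => ?_, ?_⟩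
    · simpa [MonoidHom.mem_ker] using hx
    · rw [show (e.toMonoidHom.comp (QuotientGroup.mk' (center H))).ker = center H by
        ext x; simp [MonoidHom.mem_ker], hc]
  · ext x; simp [MonoidHom.mem_ker]

/-- Lifting an element of odd order. -/
theorem exists_odd_lift (hd : IsDouble φ) (p : alternatingGroup (Fin (6 + 2))) (hp : p ^ 3 = 1) :
    ∃ x : H, φ x = p ∧ x ^ 3 = 1 := by
  obtain ⟨x, hx⟩ := hd.surj p
  refine ⟨x ^ 4, by rw [map_pow, hx, pow_succ, hp, one_mul], ?_⟩
  rw [← pow_mul, show 4 * 3 = 3 + 3 + (3 + 3) by rfl, pow_add, pow_add,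
    hd.sq_one (t := x ^ 3) (by rw [map_pow, hx, hp]), one_mul]

theorem commute_of_odd (hd : IsDouble φ) {x y : H} (hy : Odd (orderOf y))
    (h : Commute (φ x) (φ y)) : Commute x y := by
  obtain ⟨t, ht, e⟩ := hd.eq_mul (show φ (x * y * x⁻¹) = φ y by
    rw [map_mul, map_mul, map_inv, h.eq, mul_inv_cancel_right])
  have h1 : (x * y * x⁻¹) ^ orderOf y = 1 := by rw [conj_pow, pow_orderOf_eq_one]; group
  rw [e, (hd.comm_ker ht y).symm.mul_pow, pow_orderOf_eq_one, one_mul] at h1
  obtain ⟨k, hk⟩ := hy
  rw [hk, pow_succ, pow_mul, pow_two, hd.sq_one ht, one_pow, one_mul] at h1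
  rw [h1, mul_one] at e
  exact mul_inv_eq_iff_eq_mul.1 e

theorem eq_of_odd (hd : IsDouble φ) {x y : H} (hx : Odd (orderOf x)) (hy : Odd (orderOf y))
    (h : φ x = φ y) : x = y := by
  obtain ⟨t, ht, rfl⟩ := hd.eq_mul h
  have hc : Commute y t := (hd.comm_ker ht y).symm
  obtain ⟨k, hk⟩ := hx
  obtain ⟨l, hl⟩ := hy
  have h1 : (y * t) ^ ((2 * l + 1) * (2 * k + 1)) = 1 := by
    rw [mul_comm, pow_mul, ← hk, pow_orderOf_eq_one, one_pow]
  rw [hc.mul_pow, pow_mul, ← hl, pow_orderOf_eq_one, one_pow, one_mul] at h1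
  have h2 : t ^ 2 = 1 := by rw [pow_two]; exact hd.sq_one ht
  rw [hl] at h1
  have h3 : t ^ Nat.gcd 2 ((2 * l + 1) * (2 * k + 1)) = 1 := pow_gcd_eq_one.2 ⟨h2, h1⟩
  rw [Nat.coprime_two_left.2 ((odd_two_mul_add_one l).mul (odd_two_mul_add_one k)), pow_one] at h3
  rw [h3, mul_one]

theorem card_comap (hd : IsDouble φ) (K : Subgroup (alternatingGroup (Fin (6 + 2)))) :
    Nat.card (K.comap φ) = 2 * Nat.card K := by
  have h1 : (φ.comp (K.comap φ).subtype).range = K := by
    rw [MonoidHom.range_comp, Subgroup.range_subtype, map_comap_eq_self_of_surjective hd.surj]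
  have h2 : Nat.card (φ.comp (K.comap φ).subtype).ker = 2 := by
    refine (Nat.card_congr ?_).trans hd.card_two
    exact
      { toFun := fun x => ⟨x.1.1, x.2⟩
        invFun := fun x => ⟨⟨x.1, show φ x.1 ∈ K by rw [x.2]; exact one_mem K⟩, x.2⟩
        left_inv := fun x => rfl
        right_inv := fun x => rfl }
  have h3 := (φ.comp (K.comap φ).subtype).ker.card_mul_index
  rw [index_ker, h1, h2] at h3
  exact h3.symm

end Double

variable {G : Type u} [Group G]

/-- A subgroup of `C(t)` described in `A₈`. -/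
theorem card_inf {t : G} [Finite G] {φ : ↥(centralizer ({t} : Set G)) →* alternatingGroup (Fin (6 + 2))}
    (hd : IsDouble φ) (X : Subgroup G) (K : Subgroup (alternatingGroup (Fin (6 + 2))))
    (h : ∀ x : ↥(centralizer ({t} : Set G)), (x : G) ∈ X ↔ φ x ∈ K) :
    Nat.card ↥(centralizer ({t} : Set G) ⊓ X) = 2 * Nat.card K := by
  rw [← card_comap hd K]
  exact Nat.card_congr
    { toFun := fun x => ⟨⟨x.1, x.2.1⟩, (h _).1 x.2.2⟩
      invFun := fun x => ⟨x.1.1, x.1.2, (h _).2 x.2⟩
      left_inv := fun x => rfl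
      right_inv := fun x => rfl }

theorem cov_exists : StmtCov.{u} := by
  intro G _ _ t ht hcov
  set C := centralizer ({t} : Set G) with hC
  obtain ⟨φ, hd, hker, hperf⟩ := isDouble_of_cover hcov
  have htC : t ∈ C := mem_centralizer_singleton_iff.2 rfl
  set τ : C := ⟨t, htC⟩ with hτ
  have hτ1 : τ ≠ 1 := fun e => by
    rw [show t = 1 from congrArg Subtype.val e, orderOf_one] at ht
    omega
  have hφτ : φ τ = 1 := by
    rw [← MonoidHom.mem_ker, hker, mem_center_iff]
    exact fun g => Subtype.ext (mem_centralizer_singleton_iff.1 g.2)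
  have hto : ∀ x : C, φ x = 1 ↔ (x : G) ∈ zpowers t := fun x => by
    constructor
    · intro hx
      rcases eq_or_eq hd hφτ hτ1 hx with rfl | rfl
      · exact one_mem _
      · exact mem_zpowers t
    · intro hx
      obtain ⟨k, hk⟩ := mem_zpowers_iff.1 hx
      rw [show x = τ ^ k from Subtype.ext (by rw [SubgroupClass.coe_zpow]; exact hk.symm), map_zpow, hφτ,
        one_zpow]
  obtain ⟨z, hz, hz3⟩ := exists_odd_lift hd pz (by decide +kernel)
  obtain ⟨b, hb, hb3⟩ := exists_odd_lift hd pb (by decide +kernel)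
  obtain ⟨s, hs⟩ := hd.surj ps
  obtain ⟨r, hr⟩ := hd.surj pr
  obtain ⟨e, he⟩ := hd.surj pe
  haveI : Fact (Nat.Prime 3) := ⟨Nat.prime_three⟩
  haveI : Fact (Nat.Prime 2) := ⟨Nat.prime_two⟩
  have hoz : orderOf z = 3 := orderOf_eq_prime hz3 fun h => by
    rw [h, map_one] at hz; exact absurd hz.symm (by decide)
  have hob : orderOf b = 3 := orderOf_eq_prime hb3 fun h => by
    rw [h, map_one] at hb; exact absurd hb.symm (by decide)
  have hzo : Odd (orderOf z) := by rw [hoz]; decide
  have hbo : Odd (orderOf b) := by rw [hob]; decide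
  have hs2 : s * s = 1 := sq_quad hd hperf (by rw [hs]; decide) (by rw [hs]; decide)
  have hos : orderOf s = 2 := orderOf_eq_prime (by rw [pow_two, hs2]) fun h => by
    rw [h, map_one] at hs; exact absurd hs.symm (by decide)
  have hzb : Commute z b := commute_of_odd hd hbo (by rw [hz, hb]; exact (show pz * pb = pb * pz by decide))
  have conj_odd : ∀ g x y : C, Odd (orderOf x) → Odd (orderOf y) → φ g * φ x * (φ g)⁻¹ = φ y →
      g * x * g⁻¹ = y := fun g x y hx hy h => eq_of_odd hd
    (by rw [show g * x * g⁻¹ = MulAut.conj g x from rfl, MulEquiv.orderOf_eq]; exact hx) hy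
    (by rw [map_mul, map_mul, map_inv, h])
  have hsz : s * z * s⁻¹ = b := conj_odd s z b hzo hbo (by rw [hs, hz, hb]; decide)
  have hsb : s * b * s⁻¹ = z := conj_odd s b z hbo hzo (by rw [hs, hz, hb]; decide)
  have hez : e * z * e⁻¹ = z⁻¹ := conj_odd e z z⁻¹ hzo (by rwa [orderOf_inv])
    (by rw [map_inv, he, hz]; decide)
  have heb : e * b * e⁻¹ = b := conj_odd e b b hbo hbo (by rw [he, hb]; decide)
  have hrs : r * s * r⁻¹ = s * τ := by
    obtain ⟨k, hk, ek⟩ := hd.eq_mul (show φ (r * s * r⁻¹) = φ s by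
      rw [map_mul, map_mul, map_inv, hr, hs]; decide)
    rcases eq_or_eq hd hφτ hτ1 hk with rfl | rfl
    · exfalso
      obtain ⟨c, hc⟩ := hd.surj ⟨dbl 0 3 1 4, dbl_mem (by decide) (by decide)⟩
      obtain ⟨d, hd'⟩ := hd.surj ⟨dbl 2 5 6 7, dbl_mem (by decide) (by decide)⟩
      replace hc : (φ c : Perm (Fin (6 + 2))) = dbl 0 3 1 4 := by rw [hc]
      replace hd' : (φ d : Perm (Fin (6 + 2))) = dbl 2 5 6 7 := by rw [hd']
      have hdr : Commute d r := commute_away (i := 2) (j := 6) (k := 5) (l := 7) hd hd' fun x hx => by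
        rw [hr]
        rcases hx with rfl | rfl | rfl | rfl <;> decide
      have hsr : Commute r s := mul_inv_eq_iff_eq_mul.1 (by rw [ek, mul_one])
      obtain ⟨m, hm, em⟩ := hd.eq_mul (show φ s = φ (c * d) from Subtype.ext (by
        rw [map_mul, Subgroup.coe_mul, hc, hd', hs]; decide))
      have hcr : Commute r c := by
        have h1 : c = s * m⁻¹ * d⁻¹ := by rw [em]; group
        rw [h1]
        exact (hsr.mul_right (hd.comm_ker hm r).symm.inv_right).mul_right hdr.symm.inv_right
      exact not_commute_four hd hperf (by omega) (show [(0 : Fin (6 + 2)), 1, 3, 4].Nodup by decide)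
        (U := r) (C := c) (by rw [hr]; rfl) hc hcr
    · exact ek
  have hcardC : Nat.card C = 40320 := by
    have h3 := φ.ker.card_mul_index
    rw [index_ker, MonoidHom.range_eq_top.2 hd.surj, card_top, hd.card_two, nat_card_alternatingGroup,
      Nat.card_fin] at h3
    rw [← h3]
    rfl
  have invol : ∀ v : C, orderOf v = 2 → v = τ ∨ ∃ k : C, k * s * k⁻¹ = v := by
    intro v hv
    have hv2 : v * v = 1 := by rw [← pow_two, ← hv, pow_orderOf_eq_one]
    by_cases h1 : φ v = 1
    · left
      rcases eq_or_eq hd hφτ hτ1 h1 with rfl | rfl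
      · rw [orderOf_one] at hv; omega
      · rfl
    right
    set σ := (φ v : Perm (Fin (6 + 2))) with hσ
    have hσ2 : σ * σ = 1 := by rw [hσ, ← Subgroup.coe_mul, ← map_mul, hv2, map_one, Subgroup.coe_one]
    have hall : ∀ n ∈ σ.cycleType, n = 2 := fun n hn => by
      have h1 := Perm.dvd_of_mem_cycleType hn
      have h3 := Perm.two_le_of_mem_cycleType hn
      have h4 : orderOf σ ∣ 2 := orderOf_dvd_of_pow_eq_one (by rw [pow_two, hσ2])
      have := Nat.le_of_dvd two_pos (h1.trans h4)
      omega
    have hct := Multiset.eq_replicate_card.2 hall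
    have hsign := Perm.mem_alternatingGroup.1 (φ v).2
    rw [← hσ, Perm.sign_of_cycleType, hct, Multiset.sum_replicate, Multiset.card_replicate, smul_eq_mul]
      at hsign
    have hle : Multiset.card σ.cycleType * 2 ≤ 8 := by
      have := σ.sum_cycleType
      rw [hct, Multiset.sum_replicate, smul_eq_mul] at this
      rw [this]
      exact (Finset.card_le_univ _).trans (by simp)
    have hne0 : Multiset.card σ.cycleType ≠ 0 := fun e0 => h1 (Subtype.ext
      (Perm.cycleType_eq_zero.1 (Multiset.card_eq_zero.1 e0)))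
    have hm : Multiset.card σ.cycleType = 2 ∨ Multiset.card σ.cycleType = 4 := by
      rcases (show Multiset.card σ.cycleType = 1 ∨ Multiset.card σ.cycleType = 2 ∨
        Multiset.card σ.cycleType = 3 ∨ Multiset.card σ.cycleType = 4 by omega) with h | h | h | h
      · rw [h] at hsign; exact absurd hsign (by decide)
      · exact Or.inl h
      · rw [h] at hsign; exact absurd hsign (by decide)
      · exact Or.inr h
    rcases hm with hm | hm
    · exfalso
      obtain ⟨g, hg⟩ := isConj_iff.1 ((Perm.isConj_iff_cycleType_eq (σ := dbl (0 : Fin (6 + 2)) 1 2 3)).2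
        (show _ = σ.cycleType by rw [hct, hm]; decide +kernel))
      rw [conj_dbl] at hg
      have := sq_dbl_kernel hd hperf hφτ hτ1 (V := v)
        ((show [(0 : Fin (6 + 2)), 1, 2, 3].Nodup by decide).map g.injective) hg.symm
      exact hτ1 (this.symm.trans hv2)
    · obtain ⟨g, hg⟩ := isConj_iff.1 ((Perm.isConj_iff_cycleType_eq (σ := (ps : Perm (Fin (6 + 2))))).2
        (show _ = σ.cycleType by rw [hct, hm]; decide +kernel))
      obtain ⟨g, hgs, hg⟩ : ∃ g : Perm (Fin (6 + 2)), Perm.sign g = 1 ∧
          g * (ps : Perm (Fin (6 + 2))) * g⁻¹ = σ := by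
        rcases Int.units_eq_one_or (Perm.sign g) with h | h
        · exact ⟨g, h, hg⟩
        · refine ⟨g * swap 0 3, by rw [map_mul, h, Perm.sign_swap (by decide)]; rfl, ?_⟩
          rw [show g * swap 0 3 * (ps : Perm (Fin (6 + 2))) * (g * swap 0 3)⁻¹ =
            g * (swap 0 3 * (ps : Perm (Fin (6 + 2))) * (swap 0 3)⁻¹) * g⁻¹ by group,
            show swap (0 : Fin (6 + 2)) 3 * (ps : Perm (Fin (6 + 2))) * (swap (0 : Fin (6 + 2)) 3)⁻¹ =
              (ps : Perm (Fin (6 + 2))) by decide, hg]
      obtain ⟨k, hk⟩ := hd.surj ⟨g, Perm.mem_alternatingGroup.2 hgs⟩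
      obtain ⟨m, hm', em⟩ := hd.eq_mul (show φ v = φ (k * s * k⁻¹) from Subtype.ext (by
        simp only [map_mul, map_inv, hk, hs, Subgroup.coe_mul, Subgroup.coe_inv]; exact hg.symm))
      rcases eq_or_eq hd hφτ hτ1 hm' with rfl | rfl
      · exact ⟨k, by rw [em, mul_one]⟩
      · refine ⟨k * r, ?_⟩
        rw [em, show k * r * s * (k * r)⁻¹ = k * (r * s * r⁻¹) * k⁻¹ by group, hrs,
          ← mul_assoc k s τ, mul_assoc (k * s) τ, (hd.comm_ker hφτ k⁻¹).eq, ← mul_assoc]
  have z_invol : ∀ v : C, Commute v z → orderOf v = 2 → v = τ := by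
    intro v hvz hv
    rcases invol v hv with h | ⟨k, hk⟩
    · exact h
    exfalso
    set σ := φ v with hσ
    have hf : ∀ i, (σ : Perm (Fin (6 + 2))) i ≠ i := by
      intro i e
      have := congrArg (fun y : alternatingGroup (Fin (6 + 2)) => (y : Perm (Fin (6 + 2))) i)
        (show φ k * φ s * (φ k)⁻¹ = σ by rw [hσ, ← hk]; simp)
      simp only [Subgroup.coe_mul, Subgroup.coe_inv, Perm.mul_apply, hs, e] at this
      have h2 : (ps : Perm (Fin (6 + 2))) ((φ k : Perm (Fin (6 + 2)))⁻¹ i) = (φ k : Perm (Fin (6 + 2)))⁻¹ i := by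
        apply (φ k : Perm (Fin (6 + 2))).injective
        rw [this, Perm.coe_inv, Equiv.apply_symm_apply]
      revert h2
      generalize (φ k : Perm (Fin (6 + 2)))⁻¹ i = j
      revert j
      decide
    have hc : ∀ p, (σ : Perm (Fin (6 + 2))) ((pz : Perm (Fin (6 + 2))) p) =
        (pz : Perm (Fin (6 + 2))) ((σ : Perm (Fin (6 + 2))) p) := fun p =>
      DFunLike.congr_fun (congrArg Subtype.val (show σ * pz = pz * σ by
        rw [hσ, ← hz, ← map_mul, hvz.eq, map_mul])) p
    have h2 : ∀ p, (σ : Perm (Fin (6 + 2))) ((σ : Perm (Fin (6 + 2))) p) = p := fun p =>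
      DFunLike.congr_fun (congrArg Subtype.val (show σ * σ = 1 by
        rw [hσ, ← map_mul, show v * v = 1 from orderOf_dvd_iff_pow_eq_one.1 hv.dvd |> (pow_two v).symm.trans,
          map_one])) p
    have key : ∀ a b : Fin (6 + 2), (pz : Perm (Fin (6 + 2))) a ≠ a → a ≠ 0 →
        b = (pz : Perm (Fin (6 + 2))) a → a = 1 ∧ b = 2 ∨ a = 2 ∧ b = 0 := by decide
    have hmv : (pz : Perm (Fin (6 + 2))) ((σ : Perm (Fin (6 + 2))) 0) ≠ (σ : Perm (Fin (6 + 2))) 0 := by
      rw [← hc]; intro e'; exact absurd ((σ : Perm (Fin (6 + 2))).injective e') (by decide)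
    rcases key _ ((σ : Perm (Fin (6 + 2))) 1) hmv (hf 0) (by
      rw [← hc]; rfl) with ⟨a1, a2⟩ | ⟨a1, a2⟩
    · have := h2 0
      rw [a1, a2] at this
      exact absurd this (by decide)
    · have h := h2 1
      rw [a2] at h
      exact hf 0 (by rw [a1] at *; exact absurd (a1.symm.trans h) (by decide))
  have coe_comm : ∀ {x y : C}, Commute (x : G) (y : G) ↔ Commute x y := fun {x y} =>
    ⟨fun h => Subtype.ext h, fun h => congrArg Subtype.val h⟩
  have cent_mem : ∀ (y : C), Odd (orderOf y) → ∀ x : C,
      (x : G) ∈ centralizer ({(y : G)} : Set G) ↔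
        φ x ∈ centralizer ({φ y} : Set (alternatingGroup (Fin (6 + 2)))) := fun y hy x => by
    rw [mem_centralizer_singleton_iff, mem_centralizer_singleton_iff]
    exact ⟨fun h => (Commute.map (coe_comm.1 h : Commute x y) φ).eq,
      fun h => (coe_comm.2 (commute_of_odd hd hy h)).eq⟩
  refine ⟨
    { t := t
      ord_t := ht
      π := φ
      π_surj := hd.surj
      π_ker := hto
      card_C := hcardC
      comm_odd := fun x y hy h => coe_comm.2 (commute_of_odd hd (by rwa [Subgroup.orderOf_coe] at hy) h)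
      dbl_quat := fun x i j k l h hx => congrArg Subtype.val
        (sq_dbl_kernel hd hperf hφτ hτ1 (V := x) h hx)
      quad_invol := fun x h hf => congrArg Subtype.val (sq_quad hd hperf (V := x) h hf)
      z := z
      b := b
      s := s
      r := r
      e := e
      mem_z := z.2
      mem_b := b.2
      mem_s := s.2
      mem_r := r.2
      mem_e := e.2
      π_z := by rw [Subtype.coe_eta, hz]; rfl
      π_b := by rw [Subtype.coe_eta, hb]; rfl
      π_s := by rw [Subtype.coe_eta, hs]; rfl
      π_r := by rw [Subtype.coe_eta, hr]; rfl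
      π_e := by rw [Subtype.coe_eta, he]; rfl
      ord_z := by rw [Subgroup.orderOf_coe, hoz]
      ord_b := by rw [Subgroup.orderOf_coe, hob]
      ord_s := by rw [Subgroup.orderOf_coe, hos]
      s_ne := fun h => by
        have h' : s = τ := Subtype.ext h
        rw [h', hφτ] at hs; exact absurd hs.symm (by decide)
      zb := coe_comm.2 hzb
      sz := congrArg Subtype.val hsz
      sb := congrArg Subtype.val hsb
      rs := congrArg Subtype.val hrs
      ez := congrArg Subtype.val hez
      eb := congrArg Subtype.val heb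
      invol := fun v hv ho => by
        rcases invol ⟨v, hv⟩ (by rw [← Subgroup.orderOf_coe]; exact ho) with h | ⟨k, hk⟩
        · exact Or.inl (congrArg Subtype.val h)
        · exact Or.inr ⟨k, k.2, congrArg Subtype.val hk⟩
      z_invol := fun v hv hc ho => congrArg Subtype.val
        (z_invol ⟨v, hv⟩ (Subtype.ext hc) (by rw [← Subgroup.orderOf_coe]; exact ho))
      cardTz := ?_
      cardTE := ?_
      cardTw := ?_
      cardTN := ?_
      cardTs := ?_ }, rfl⟩
  · rw [card_inf hd _ (centralizer ({pz} : Set (alternatingGroup (Fin (6 + 2))))) fun x => by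
      rw [← hz]; exact cent_mem z hzo x, card_cent_pz]
  · rw [inf_assoc, card_inf hd _ (centralizer ({pz} : Set (alternatingGroup (Fin (6 + 2)))) ⊓
      centralizer ({pb} : Set (alternatingGroup (Fin (6 + 2))))) fun x => by
      rw [mem_inf, mem_inf, ← hz, ← hb, cent_mem z hzo x, cent_mem b hbo x], card_cent_pz_pb]
  · have ho : Odd (orderOf (z * b)) := Odd.of_dvd_nat (show Odd 3 by decide)
      (orderOf_dvd_of_pow_eq_one (by rw [hzb.mul_pow, hz3, hb3, one_mul]))
    rw [← Subgroup.coe_mul, card_inf hd _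
      (centralizer ({pz * pb} : Set (alternatingGroup (Fin (6 + 2))))) fun x => by
      rw [← hz, ← hb, ← map_mul]; exact cent_mem (z * b) ho x, card_cent_pzb]
  · set E := closure ({(z : G), (b : G)} : Set G) with hE
    set E' := closure ({z, b} : Set C) with hE'
    have hmap : E'.map C.subtype = E := by
      rw [hE', MonoidHom.map_closure, Set.image_pair]; rfl
    have hmap2 : E'.map φ = closure ({pz, pb} : Set (alternatingGroup (Fin (6 + 2)))) := by
      rw [hE', MonoidHom.map_closure, Set.image_pair, hz, hb]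
    have hodd : ∀ a ∈ E', Odd (orderOf a) := fun a ha => by
      have h3 : a ^ 3 = 1 := by
        have hcm : ∀ x ∈ E', ∀ y ∈ ({z, b} : Set C), Commute x y := fun x hx y hy => by
          induction hx using closure_induction with
          | mem x hx =>
            rcases hx with rfl | rfl <;> rcases hy with rfl | rfl <;>
              first | exact Commute.refl _ | exact hzb | exact hzb.symm
          | one => exact Commute.one_left y
          | mul _ _ _ _ h1 h2 => exact h1.mul_left h2
          | inv _ _ h1 => exact h1.inv_left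
        induction ha using closure_induction_right with
        | one => exact one_pow 3
        | mul_right x hx y hy ih =>
          rw [(hcm x hx y hy).mul_pow, ih]
          rcases hy with rfl | rfl <;> simp [hz3, hb3]
        | mul_inv_cancel x hx y hy ih =>
          rw [((hcm x hx y hy).inv_right).mul_pow, ih]
          rcases hy with rfl | rfl <;> simp [inv_pow, hz3, hb3]
      exact Odd.of_dvd_nat (show Odd 3 by decide) (orderOf_dvd_of_pow_eq_one h3)
    have hmem : ∀ a : C, (a : G) ∈ E ↔ a ∈ E' := fun a => by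
      rw [← hmap]
      exact mem_map_iff_mem C.subtype_injective
    rw [card_inf hd _ (normalizer ((closure ({pz, pb} : Set (alternatingGroup (Fin (6 + 2)))) :
      Subgroup (alternatingGroup (Fin (6 + 2)))) : Set (alternatingGroup (Fin (6 + 2))))) fun x => ?_,
      card_norm_pz_pb]
    rw [← hmap2]
    constructor
    · intro hx
      have hle : (E'.map φ).map (MulAut.conj (φ x)).toMonoidHom ≤ E'.map φ := by
        rintro _ ⟨_, ⟨a, ha, rfl⟩, rfl⟩
        refine ⟨x * a * x⁻¹, (hmem _).1 ?_, by simp⟩
        simpa using (mem_normalizer_iff.1 hx (a : G)).1 ((hmem a).2 ha)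
      have heq := eq_of_le_of_card_ge hle
        (card_map_of_injective (f := (MulAut.conj (φ x)).toMonoidHom) (MulAut.conj (φ x)).injective).ge
      refine mem_normalizer_iff.2 fun p => ⟨fun hp => hle ⟨p, hp, rfl⟩, fun hp => ?_⟩
      rw [← heq] at hp
      obtain ⟨q, hq, e'⟩ := hp
      rwa [← mul_left_cancel (mul_right_cancel (show φ x * q * (φ x)⁻¹ = φ x * p * (φ x)⁻¹ from e'))]
    · intro hx
      have hle : E.map (MulAut.conj (x : G)).toMonoidHom ≤ E := by
        rintro _ ⟨a, ha, rfl⟩
        rw [← hmap] at ha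
        obtain ⟨a, ha, rfl⟩ := ha
        obtain ⟨a', ha', ea⟩ := (mem_normalizer_iff.1 hx (φ a)).1 ⟨a, ha, rfl⟩
        have := eq_of_odd hd (x := x * a * x⁻¹) (y := a')
          (by rw [show x * a * x⁻¹ = MulAut.conj x a from rfl, MulEquiv.orderOf_eq]; exact hodd a ha)
          (hodd a' ha') (by rw [ea]; simp)
        exact (hmem _).2 (by
          show x * a * x⁻¹ ∈ E'
          rw [this]; exact ha')
      have heq := eq_of_le_of_card_ge hle
        (card_map_of_injective (f := (MulAut.conj (x : G)).toMonoidHom) (MulAut.conj (x : G)).injective).ge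
      refine mem_normalizer_iff.2 fun p => ⟨fun hp => hle ⟨p, hp, rfl⟩, fun hp => ?_⟩
      rw [← heq] at hp
      obtain ⟨q, hq, e'⟩ := hp
      rwa [← mul_left_cancel (mul_right_cancel (show (x : G) * q * (x : G)⁻¹ = x * p * (x : G)⁻¹ from e'))]
  · have h384 : Nat.card ↥(Subgroup.comap φ (centralizer ({ps} : Set (alternatingGroup (Fin (6 + 2)))))) = 384 := by
      rw [card_comap hd, card_cent_ps]
    set K := Subgroup.comap φ (centralizer ({ps} : Set (alternatingGroup (Fin (6 + 2))))) with hK
    have hrK : r ∈ K := by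
      rw [hK, mem_comap, mem_centralizer_singleton_iff, hr]; decide
    set L := centralizer ({s} : Set C) with hL
    have hLK : L ≤ K := fun x hx => by
      rw [hK, mem_comap, mem_centralizer_singleton_iff, ← hs, ← map_mul, ← map_mul,
        mem_centralizer_singleton_iff.1 hx]
    have hidx : L.relIndex K = 2 := by
      rw [relIndex, index_eq_two_iff]
      refine ⟨⟨r, hrK⟩, fun y => ?_⟩
      have hy : Commute (φ (y : C)) (φ s) := by
        rw [hs]; exact mem_centralizer_singleton_iff.1 (mem_comap.1 y.2)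
      obtain ⟨m, hm, em⟩ := hd.eq_mul (show φ ((y : C) * s * (y : C)⁻¹) = φ s by
        rw [map_mul, map_mul, map_inv, hy.eq, mul_inv_cancel_right])
      simp only [mem_subgroupOf, Subgroup.coe_mul, hL, mem_centralizer_singleton_iff]
      rcases eq_or_eq hd hφτ hτ1 hm with rfl | rfl
      · refine Or.inr ⟨mul_inv_eq_iff_eq_mul.1 (by rw [em, mul_one]), fun h => hτ1 ?_⟩
        have h' : (y : C) * r * s * ((y : C) * r)⁻¹ = s := by rw [h, mul_inv_cancel_right]
        rw [show (y : C) * r * s * ((y : C) * r)⁻¹ = (y : C) * (r * s * r⁻¹) * (y : C)⁻¹ by group, hrs,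
          mul_assoc _ _ (y : C)⁻¹, mul_assoc s τ, ← (hd.comm_ker hφτ (y : C)⁻¹).symm.eq, ← mul_assoc,
          ← mul_assoc, em, mul_one, mul_eq_left] at h'
        exact h'
      · refine Or.inl ⟨?_, fun h => hτ1 ?_⟩
        · refine mul_inv_eq_iff_eq_mul.1 ?_
          rw [show (y : C) * r * s * ((y : C) * r)⁻¹ = (y : C) * (r * s * r⁻¹) * (y : C)⁻¹ by group, hrs,
            mul_assoc _ _ (y : C)⁻¹, mul_assoc s τ, ← (hd.comm_ker hφτ (y : C)⁻¹).symm.eq, ← mul_assoc,
            ← mul_assoc, em, mul_assoc, hd.sq_one hφτ, mul_one]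
        · rw [h, mul_inv_cancel_right, eq_comm, mul_eq_left] at em
          exact em
    have h3 := relIndex_mul_index (K := ⊤) (le_top : L ≤ ⊤)
    have h4 : Nat.card L * 2 = 384 := by
      rw [← h384, ← hidx, relIndex, ← (L.subgroupOf K).card_mul_index,
        Nat.card_congr (subgroupOfEquivOfLe hLK).toEquiv]
    have hcongr : Nat.card ↥(C ⊓ centralizer ({(s : G)} : Set G)) = Nat.card L := Nat.card_congr
      { toFun := fun x => ⟨⟨x.1, x.2.1⟩, mem_centralizer_singleton_iff.2
          (Subtype.ext (mem_centralizer_singleton_iff.1 x.2.2))⟩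
        invFun := fun x => ⟨x.1.1, x.1.2, mem_centralizer_singleton_iff.2
          (congrArg Subtype.val (mem_centralizer_singleton_iff.1 x.2))⟩
        left_inv := fun x => rfl
        right_inv := fun x => rfl }
    rw [hcongr]
    omega

end CfsgLib.McLDouble
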