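import Cfsg.Agent.Lib.McLDouble.Three
import Cfsg.Agent.Lib.Involutions.ZStar.Main

/-!
# The dichotomy from the `Z*`-theorem

If `t` is not isolated it is fused to `s`, and an element of order a power of three permutes the
involutions of `⟨t, s⟩` cyclically and centralises `w`.
-/

set_option autoImplicit false

namespace CfsgLib.McLDouble

open Subgroup Three9

universe u

namespace FusionP

variable {G : Type u} [Group G]

theorem conj_conj (p q v : G) : p * q * v * (p * q)⁻¹ = p * (q * v * q⁻¹) * p⁻¹ := by group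

/-- An element cycling `t → s → s * t` has a cube fixing both. -/
theorem cycle_pow (D : Cov G) {g : G} (h1 : g * D.t * g⁻¹ = D.s)
    (h2 : g * D.s * g⁻¹ = D.s * D.t) (j : ℕ) :
    g ^ (3 * j + 1) * D.t * (g ^ (3 * j + 1))⁻¹ = D.s ∧
      g ^ (3 * j + 1) * D.s * (g ^ (3 * j + 1))⁻¹ = D.s * D.t := by
  induction j with
  | zero => simpa using And.intro h1 h2
  | succ j ih =>
    have h3 : g * (D.s * D.t) * g⁻¹ = D.t := by
      rw [← conj_mul, h2, h1, mul_assoc, (comm_ts D).eq, ← mul_assoc, ss D, one_mul]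
    have e : g ^ (3 * (j + 1) + 1) = g * (g * (g * g ^ (3 * j + 1))) := by
      rw [← pow_succ', ← pow_succ', ← pow_succ']
      congr 1
    constructor
    · rw [e, conj_conj, conj_conj, conj_conj, ih.1, h2, h3, h1]
    · rw [e, conj_conj, conj_conj, conj_conj, ih.2, h3, h1, h2]

theorem ord_w (D : Cov G) : orderOf D.w = 3 := by
  haveI : Fact (Nat.Prime 3) := ⟨Nat.prime_three⟩
  refine orderOf_eq_prime (by rw [Cov.w, D.zb.mul_pow, zz, bb, mul_one]) fun h1 => ?_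
  exact b_notin_z D (by rw [eq_inv_of_mul_eq_one_right h1]; exact inv_mem (mem_zpowers _))

/-- The element permuting the involutions of `⟨t, s⟩`. -/
theorem exists_cycle [Finite G] (D : Cov G) {h : G} (hh : h * D.t * h⁻¹ = D.s) :
    ∃ x : G, Commute x D.w ∧ x * D.t * x⁻¹ = D.s ∧ x * D.s * x⁻¹ = D.s * D.t ∧
      ∃ k : ℕ, orderOf x = 3 ^ k := by
  haveI : Fact (Nat.Prime 3) := ⟨Nat.prime_three⟩
  -- an element swapping `t` and `s`
  obtain ⟨f, hf1, hf2⟩ : ∃ f, f * D.t * f⁻¹ = D.s ∧ f * D.s * f⁻¹ = D.t := by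
    have hm : h⁻¹ * D.t * h ∈ centralizer ({D.t} : Set G) := by
      refine (mem_C D).2 ?_
      have := (comm_ts D).map (MulAut.conj h⁻¹).toMonoidHom
      have e : h⁻¹ * D.s * h = D.t := by rw [← hh]; group
      simpa [e] using this
    rcases D.invol _ hm (by
      rw [show h⁻¹ * D.t * h = MulAut.conj h⁻¹ D.t by simp, MulEquiv.orderOf_eq, D.ord_t]) with
      e | ⟨k, hk, hk'⟩
    · exact absurd (by
        rw [← hh]
        nth_rewrite 1 [← e]
        group) D.s_ne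
    · refine ⟨h * k, ?_, ?_⟩
      · rw [conj_conj, ((mem_C D).1 hk).eq, mul_inv_cancel_right, hh]
      · rw [conj_conj, hk']; group
  -- an element cycling them
  obtain ⟨y, hy1, hy2⟩ : ∃ y, y * D.t * y⁻¹ = D.s ∧ y * D.s * y⁻¹ = D.s * D.t := by
    have hr : D.r * D.t * D.r⁻¹ = D.t := by
      rw [((mem_C D).1 D.mem_r).eq, mul_inv_cancel_right]
    have h1 : D.r * f * D.t * (D.r * f)⁻¹ = D.s * D.t := by rw [conj_conj, hf1, D.rs]
    have h2 : D.r * f * D.s * (D.r * f)⁻¹ = D.t := by rw [conj_conj, hf2, hr]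
    refine ⟨D.r * f * (D.r * f), ?_, by rw [conj_conj, h2, h1]⟩
    rw [conj_conj, h1, ← conj_mul, h2, h1, ← mul_assoc, (comm_ts D).eq, mul_assoc, tt D, mul_one]
  -- move it to the normalizer of `⟨w⟩`
  let H := centralizer ({D.t} : Set G) ⊓ centralizer ({D.s} : Set G)
  have hwH : D.w ∈ H := ⟨mem_w D, mem_centralizer_singleton_iff.2 (comm_sw D).symm⟩
  have hvH : y * D.w * y⁻¹ ∈ H := by
    have a1 : Commute (y * D.w * y⁻¹) D.s := hy1 ▸ (Commute.conj_iff y).2 (comm_tw D).symm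
    have a2 : Commute (y * D.w * y⁻¹) (D.s * D.t) :=
      hy2 ▸ (Commute.conj_iff y).2 (comm_sw D).symm
    have a3 := a1.mul_right a2
    rw [← mul_assoc, ss D, one_mul] at a3
    exact ⟨(mem_C D).2 a3, mem_centralizer_singleton_iff.2 a1⟩
  have hP : ∀ v : H, orderOf v = 3 → ∃ P : Sylow 3 H, (P : Subgroup H) = zpowers v := by
    intro v hv
    obtain ⟨P, hP⟩ := (IsPGroup.of_card (n := 1)
      (by rw [Nat.card_zpowers, hv, pow_one]) : IsPGroup 3 (zpowers v)).exists_le_sylow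
    refine ⟨P, (eq_of_le_of_card_ge hP ?_).symm⟩
    rw [P.card_eq_multiplicity, show Nat.card H = 192 from D.cardTs, Nat.card_zpowers, hv,
      show (192 : ℕ) = 2 ^ 6 * 3 by norm_num, Nat.factorization_mul (by norm_num) (by norm_num),
      Finsupp.add_apply, Nat.Prime.factorization_self Nat.prime_three,
      Nat.factorization_eq_zero_of_not_dvd (by norm_num : ¬ 3 ∣ 2 ^ 6)]
    norm_num
  obtain ⟨P, hPw⟩ := hP ⟨D.w, hwH⟩ (by rw [← orderOf_coe]; exact ord_w D)
  obtain ⟨Q, hQv⟩ := hP ⟨y * D.w * y⁻¹, hvH⟩ (by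
    rw [← orderOf_coe]
    exact (MulEquiv.orderOf_eq (MulAut.conj y) D.w).trans (ord_w D))
  obtain ⟨c, hc⟩ := MulAction.exists_smul_eq H Q P
  let v := (c : G) * y
  have hct : (c : G) * D.t * (c : G)⁻¹ = D.t := by
    rw [((mem_C D).1 c.2.1).eq, mul_inv_cancel_right]
  have hcs : (c : G) * D.s * (c : G)⁻¹ = D.s := by
    rw [(mem_centralizer_singleton_iff.1 c.2.2 : (c : G) * D.s = D.s * c), mul_inv_cancel_right]
  have hv1 : v * D.t * v⁻¹ = D.s := by rw [conj_conj, hy1, hcs]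
  have hv2 : v * D.s * v⁻¹ = D.s * D.t := by rw [conj_conj, hy2, ← conj_mul, hcs, hct]
  obtain ⟨i, hi⟩ : ∃ i : ℤ, v * D.w * v⁻¹ = D.w ^ i := by
    have hm : MulAut.conj c ⟨y * D.w * y⁻¹, hvH⟩ ∈ ((c • Q : Sylow 3 H) : Subgroup H) :=
      ⟨⟨y * D.w * y⁻¹, hvH⟩, hQv ▸ mem_zpowers _, rfl⟩
    rw [hc, hPw] at hm
    obtain ⟨i, hi⟩ := hm
    exact ⟨i, by
      rw [conj_conj]
      simpa using (congrArg Subtype.val hi).symm⟩
  -- its fourth power centralises `w`
  let g := v ^ (3 * 1 + 1)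
  obtain ⟨hg1, hg2⟩ := cycle_pow D hv1 hv2 1
  have hgw : Commute g D.w := by
    have hstep : ∀ n : ℕ, v ^ n * D.w * (v ^ n)⁻¹ = D.w ^ (i ^ n) := by
      intro n
      induction n with
      | zero => simp
      | succ n ih => rw [pow_succ, conj_conj, hi, ← conj_zpow, ih, ← zpow_mul, pow_succ]
    have hdvd : ¬ (3 : ℤ) ∣ i := by
      rintro ⟨j, rfl⟩
      have h3 : D.w ^ (3 : ℤ) = 1 := by
        rw [show (3 : ℤ) = ((3 : ℕ) : ℤ) from rfl, zpow_natCast, ← ord_w D, pow_orderOf_eq_one]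
      rw [zpow_mul, h3, one_zpow, conj_eq_one_iff] at hi
      have := ord_w D
      simp [hi] at this
    have h4 : D.w ^ (i ^ (3 * 1 + 1)) = D.w := by
      nth_rewrite 2 [← zpow_one D.w]
      rw [← zpow_mod_orderOf, ← zpow_mod_orderOf D.w 1, ord_w D]
      congr 1
      have : i % 3 = 1 ∨ i % 3 = 2 := by omega
      rcases this with e | e <;>
        simp [pow_succ, Int.mul_emod, e]
    exact mul_inv_eq_iff_eq_mul.1 ((hstep _).trans h4)
  -- its 3-part
  obtain ⟨m, q, hq, hord⟩ : ∃ m q, ¬ 3 ∣ q ∧ orderOf g = 3 ^ m * q :=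
    Nat.exists_eq_pow_mul_and_not_dvd (orderOf_pos g).ne' 3 (by norm_num)
  obtain ⟨n, j, hn, hnj⟩ : ∃ n j, q ∣ n ∧ n = 3 * j + 1 := by
    rcases (by omega : q % 3 = 1 ∨ q % 3 = 2) with e | e
    · exact ⟨q, q / 3, dvd_rfl, by omega⟩
    · exact ⟨2 * q, (2 * q) / 3, dvd_mul_left _ _, by omega⟩
  obtain ⟨h1, h2⟩ := cycle_pow D hg1 hg2 j
  refine ⟨g ^ n, hgw.pow_left n, hnj ▸ h1, hnj ▸ h2, ?_⟩
  have hd : orderOf (g ^ n) ∣ 3 ^ m := orderOf_dvd_of_pow_eq_one (by
    rw [← pow_mul, ← orderOf_dvd_iff_pow_eq_one, hord, mul_comm n]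
    exact Nat.mul_dvd_mul_left _ hn)
  obtain ⟨k, -, hk⟩ := (Nat.dvd_prime_pow Nat.prime_three).1 hd
  exact ⟨k, hk⟩

end FusionP

open FusionP in
/-- Piece P1b: the dichotomy from the `Z*`-theorem. -/
theorem fusedOrCore : StmtFused.{u} := by
  intro G _ _ D
  by_cases hiso : Cfsg.IsIsolatedInvolution D.t
  · left
    refine eq_top_iff.2 fun g _ => ?_
    obtain ⟨a, ha, c, hc, rfl⟩ := CfsgLib.Involutions.ZStar.exists_mul_centralizer hiso g
    exact mul_mem (mem_sup_right ha) (mem_sup_left hc)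
  · right
    simp only [Cfsg.IsIsolatedInvolution, not_and, not_forall] at hiso
    obtain ⟨g, hg, hne⟩ := hiso D.ord_t
    have hgC : g * D.t * g⁻¹ ∈ centralizer ({D.t} : Set G) := (mem_C D).2 (by
      first | exact hg | exact hg.symm)
    rcases D.invol _ hgC (by rw [← MulAut.conj_apply, MulEquiv.orderOf_eq, D.ord_t]) with
      e | ⟨k, hk, hk'⟩
    · exact absurd e hne
    have hh : k⁻¹ * g * D.t * (k⁻¹ * g)⁻¹ = D.s := by
      rw [conj_conj, ← hk']; group
    obtain ⟨x, hx1, hx2, hx3, hx4⟩ := exists_cycle D hh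
    refine ⟨⟨x, hx1, hx2, hx3, hx4, fun v hv hvt => ?_⟩⟩
    rcases D.invol v ((mem_C D).2 hvt) hv with rfl | ⟨c, -, rfl⟩
    · exact ⟨1, by simp⟩
    · exact ⟨c * (k⁻¹ * g), by rw [conj_conj, hh]⟩

end CfsgLib.McLDouble
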