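import Cfsg.Agent.Lib.McLDouble.Defs
import Cfsg.Agent.Lib.AltCover.Lift

/-!
# Lifting in a non-split double cover of `A₈`
-/

set_option autoImplicit false
set_option linter.unusedSectionVars false

namespace CfsgLib.McLDouble

open Subgroup Equiv CfsgLib.AltCover

universe u

variable {H : Type u} [Group H] [Finite H] {φ : H →* alternatingGroup (Fin (6 + 2))}

theorem sq_dbl_eq (hd : IsDouble φ) {i j k l a b c d : Fin (6 + 2)} (h : [i, j, k, l].Nodup)
    (h' : [a, b, c, d].Nodup) {U V : H} (hU : (φ U : Perm (Fin (6 + 2))) = dbl i j k l)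
    (hV : (φ V : Perm (Fin (6 + 2))) = dbl a b c d) : V * V = U * U := by
  obtain ⟨g, ga, gb, gc, gd⟩ := exists_perm_four h h'
  have hij : i ≠ j := by simp only [List.nodup_cons, List.mem_cons] at h; tauto
  have hik : i ≠ k := by simp only [List.nodup_cons, List.mem_cons] at h; tauto
  have hil : i ≠ l := by simp only [List.nodup_cons, List.mem_cons] at h; tauto
  have hjk : j ≠ k := by simp only [List.nodup_cons, List.mem_cons] at h; tauto
  have hjl : j ≠ l := by simp only [List.nodup_cons, List.mem_cons] at h; tauto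
  have hUU : φ U * φ U = 1 := by
    apply Subtype.ext
    rw [Subgroup.coe_mul, hU, Subgroup.coe_one, dbl]
    have : Commute (swap i j) (swap k l) :=
      (Perm.disjoint_iff_eq_or_eq.2 fun x => by
        by_cases hx : x = i ∨ x = j
        · right; rcases hx with rfl | rfl
          · exact swap_apply_of_ne_of_ne hik hil
          · exact swap_apply_of_ne_of_ne hjk hjl
        · left; push Not at hx; exact swap_apply_of_ne_of_ne hx.1 hx.2).commute
    rw [this.symm.mul_mul_mul_comm, swap_mul_self, swap_mul_self, one_mul]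
  have key : ∀ g : Perm (Fin (6 + 2)), Perm.sign g = 1 → g * dbl i j k l * g⁻¹ = dbl a b c d →
      V * V = U * U := by
    intro g hg hc
    obtain ⟨W, hW⟩ := hd.surj ⟨g, Perm.mem_alternatingGroup.2 hg⟩
    have e : φ (W * U * W⁻¹) = φ V := by
      apply Subtype.ext
      rw [map_mul, map_mul, map_inv, hW, Subgroup.coe_mul, Subgroup.coe_mul, Subgroup.coe_inv, hU, hV]
      exact hc
    rw [← hd.sq_congr e, show W * U * W⁻¹ * (W * U * W⁻¹) = W * (U * U) * W⁻¹ by group,
      ← (hd.sq_central hUU W).eq, mul_inv_cancel_right]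
  rcases Int.units_eq_one_or (Perm.sign g) with hg | hg
  · exact key g hg (by rw [conj_dbl, ga, gb, gc, gd])
  · refine key (g * swap i j) (by rw [map_mul, hg, Perm.sign_swap hij]; rfl) ?_
    rw [conj_dbl]
    simp only [Perm.mul_apply, swap_apply_left, swap_apply_right,
      swap_apply_of_ne_of_ne (Ne.symm hik) (Ne.symm hjk),
      swap_apply_of_ne_of_ne (Ne.symm hil) (Ne.symm hjl), ga, gb, gc, gd]
    rw [dbl, dbl, swap_comm b a]

theorem eq_or_eq (hd : IsDouble φ) {t : H} (ht : φ t = 1) (ht1 : t ≠ 1) {x : H} (hx : φ x = 1) :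
    x = 1 ∨ x = t := by
  obtain ⟨p, q, hpq, hu⟩ := Nat.card_eq_two_iff.1 hd.card_two
  have key : ∀ y : φ.ker, y = p ∨ y = q := fun y => by
    have := Set.eq_univ_iff_forall.1 hu y
    simpa using this
  rcases key ⟨x, hx⟩ with a | a <;> rcases key ⟨t, ht⟩ with b | b <;>
    rcases key ⟨1, map_one φ⟩ with c | c <;>
    first
    | exact Or.inl (congrArg Subtype.val (a.trans c.symm))
    | exact Or.inr (congrArg Subtype.val (a.trans b.symm))
    | exact absurd (congrArg Subtype.val (b.trans c.symm)) ht1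

/-- The double transpositions lift to elements of order four. -/
theorem sq_dbl_kernel (hd : IsDouble φ) (hperf : commutator H = ⊤) {t : H} (ht : φ t = 1)
    (ht1 : t ≠ 1) {V : H} {a b c d : Fin (6 + 2)} (h : [a, b, c, d].Nodup)
    (hV : (φ V : Perm (Fin (6 + 2))) = dbl a b c d) : V * V = t := by
  have h1 : φ (V * V) = 1 := by
    apply Subtype.ext
    rw [map_mul, Subgroup.coe_mul, hV, Subgroup.coe_one]
    obtain ⟨g, ga, gb, gc, gd⟩ := exists_perm_four (show [(0 : Fin (6 + 2)), 1, 2, 3].Nodup by decide) h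
    rw [← ga, ← gb, ← gc, ← gd, ← conj_dbl, conj_mul,
      show dbl (0 : Fin (6 + 2)) 1 2 3 * dbl 0 1 2 3 = 1 by decide, mul_one, mul_inv_cancel]
  refine (eq_or_eq hd ht ht1 h1).resolve_left fun e => ?_
  obtain ⟨U, hU⟩ := hd.surj ⟨dbl 0 1 2 3, dbl_mem (by decide) (by decide)⟩
  obtain ⟨C, hC⟩ := hd.surj ⟨dbl 0 2 1 3, dbl_mem (by decide) (by decide)⟩
  replace hU : (φ U : Perm (Fin (6 + 2))) = dbl 0 1 2 3 := by rw [hU]
  replace hC : (φ C : Perm (Fin (6 + 2))) = dbl 0 2 1 3 := by rw [hC]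
  have hUC : (φ (U * C) : Perm (Fin (6 + 2))) = dbl 0 3 1 2 := by
    rw [map_mul, Subgroup.coe_mul, hU, hC]; decide
  have u2 : U * U = 1 := by rw [sq_dbl_eq hd h (by decide) hV hU, e]
  have c2 : C * C = 1 := by rw [sq_dbl_eq hd h (by decide) hV hC, e]
  have uc2 : U * C * (U * C) = 1 := by rw [sq_dbl_eq hd h (by decide) hV hUC, e]
  refine not_commute_four hd hperf (by omega) (show [(0 : Fin (6 + 2)), 1, 2, 3].Nodup by decide) hU hC ?_
  show U * C = C * U
  rw [eq_inv_of_mul_eq_one_left uc2, mul_inv_rev, inv_eq_of_mul_eq_one_right u2,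
    inv_eq_of_mul_eq_one_right c2]

/-- A fixed-point-free involution lifts to an involution. -/
theorem sq_quad (hd : IsDouble φ) (hperf : commutator H = ⊤) {V : H}
    (h2 : φ V * φ V = 1) (hf : ∀ i, (φ V : Perm (Fin (6 + 2))) i ≠ i) : V * V = 1 := by
  obtain ⟨c, hc⟩ := hd.surj ⟨dbl 0 1 2 3, dbl_mem (by decide) (by decide)⟩
  obtain ⟨d, hd'⟩ := hd.surj ⟨dbl 4 5 6 7, dbl_mem (by decide) (by decide)⟩
  replace hc : (φ c : Perm (Fin (6 + 2))) = dbl 0 1 2 3 := by rw [hc]
  replace hd' : (φ d : Perm (Fin (6 + 2))) = dbl 4 5 6 7 := by rw [hd']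
  have hcd : Commute c d := commute_away (i := 0) (j := 2) (k := 1) (l := 3) hd hc fun x hx => by
    rw [hd']
    rcases hx with rfl | rfl | rfl | rfl <;> decide
  obtain ⟨t, ht, ht1⟩ : ∃ t : H, φ t = 1 ∧ t ≠ 1 := by
    haveI : Nontrivial φ.ker := Finite.one_lt_card_iff_nontrivial.1 (by rw [hd.card_two]; omega)
    obtain ⟨⟨t, ht⟩, hne⟩ := exists_ne (1 : φ.ker)
    exact ⟨t, ht, fun e => hne (Subtype.ext e)⟩
  have hW : c * d * (c * d) = 1 := by
    rw [hcd.symm.mul_mul_mul_comm, sq_dbl_kernel hd hperf ht ht1 (by decide) hc,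
      sq_dbl_kernel hd hperf ht ht1 (by decide) hd', hd.sq_one ht]
  set σ := (φ V : Perm (Fin (6 + 2))) with hσ
  have hs2 : σ * σ = 1 := by rw [hσ, ← Subgroup.coe_mul, h2, Subgroup.coe_one]
  have hs1 : σ ≠ 1 := fun e => hf 0 (by rw [e]; rfl)
  have hsupp : σ.support = Finset.univ := by
    ext x
    simp only [Perm.mem_support, Finset.mem_univ, iff_true]
    exact hf x
  have hct : σ.cycleType = Multiset.replicate 4 2 := by
    have hall : ∀ n ∈ σ.cycleType, n = 2 := fun n hn => by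
      have h1 := Perm.dvd_of_mem_cycleType hn
      have h3 := Perm.two_le_of_mem_cycleType hn
      have h4 : orderOf σ ∣ 2 := orderOf_dvd_of_pow_eq_one (by rw [pow_two, hs2])
      have := Nat.le_of_dvd two_pos (h1.trans h4)
      omega
    have hr := Multiset.eq_replicate_card.2 hall
    have hsum := σ.sum_cycleType
    rw [hsupp, Finset.card_univ, Fintype.card_fin, hr, Multiset.sum_replicate, smul_eq_mul] at hsum
    rw [hr, show Multiset.card σ.cycleType = 4 by omega]
  obtain ⟨g, hg⟩ := isConj_iff.1 ((Perm.isConj_iff_cycleType_eq (σ := dbl (0 : Fin (6 + 2)) 1 2 3 * dbl 4 5 6 7)).2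
    (show _ = σ.cycleType by rw [hct]; decide +kernel))
  obtain ⟨g, hgs, hg⟩ : ∃ g : Perm (Fin (6 + 2)), Perm.sign g = 1 ∧
      g * (dbl 0 1 2 3 * dbl 4 5 6 7) * g⁻¹ = σ := by
    rcases Int.units_eq_one_or (Perm.sign g) with h | h
    · exact ⟨g, h, hg⟩
    · refine ⟨g * swap 0 1, by rw [map_mul, h, Perm.sign_swap (by decide)]; rfl, ?_⟩
      rw [show g * swap 0 1 * (dbl 0 1 2 3 * dbl 4 5 6 7) * (g * swap 0 1)⁻¹ =
        g * (swap 0 1 * (dbl 0 1 2 3 * dbl 4 5 6 7) * (swap 0 1)⁻¹) * g⁻¹ by group,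
        show swap (0 : Fin (6 + 2)) 1 * (dbl 0 1 2 3 * dbl 4 5 6 7) * (swap 0 1)⁻¹ =
          dbl 0 1 2 3 * dbl 4 5 6 7 by decide, hg]
  obtain ⟨W, hW'⟩ := hd.surj ⟨g, Perm.mem_alternatingGroup.2 hgs⟩
  have e : φ (W * (c * d) * W⁻¹) = φ V := by
    apply Subtype.ext
    simp only [map_mul, map_inv, hW', Subgroup.coe_mul, Subgroup.coe_inv, hc, hd']
    exact hg
  rw [← hd.sq_congr e, show W * (c * d) * W⁻¹ * (W * (c * d) * W⁻¹) = W * (c * d * (c * d)) * W⁻¹ by group,
    hW, mul_one, mul_inv_cancel]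

end CfsgLib.McLDouble
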