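import Mathlib

/-!
# A bound on a 2-group with a fixed-point-free action of an elementary group of order 9

If two commuting automorphisms `a`, `b` of exponent three of a finite 2-group have no common fixed
point, the order of the group is at most the product of the numbers of fixed points of `a`, `b`,
`a * b` and `a⁻¹ * b`.
-/

set_option autoImplicit false

namespace CfsgLib.McLDouble.Three9

open Subgroup

universe u

variable {W : Type u} [Group W]

/-- The fixed points of an automorphism. -/
def fixS (σ : W ≃* W) : Subgroup W := σ.toMonoidHom.eqLocus (MonoidHom.id W)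

theorem mem_fixS {σ : W ≃* W} {v : W} : v ∈ fixS σ ↔ σ v = v := Iff.rfl

/-- The norm of an automorphism of exponent three in an abelian group is fixed. -/
theorem norm3_mem {A : Type u} [CommGroup A] (σ : A ≃* A) (hσ : ∀ v, σ (σ (σ v)) = v) (v : A) :
    v * σ v * σ (σ v) ∈ fixS σ := by
  rw [mem_fixS, map_mul, map_mul, hσ]
  ac_rfl

/-- The abelian case. -/
theorem card_le_fix_abelian {A : Type u} [CommGroup A] [Finite A] (h3 : (Nat.card A).Coprime 3)
    (a b : A ≃* A) (ha : ∀ v, a (a (a v)) = v) (hb : ∀ v, b (b (b v)) = v)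
    (hab : ∀ v, a (b v) = b (a v)) (hfree : ∀ v, a v = v → b v = v → v = 1) :
    Nat.card A ≤ Nat.card (fixS a) * Nat.card (fixS b) * Nat.card (fixS (b.trans a)) *
      Nat.card (fixS ((b.trans a).trans a)) := by
  have hc : ∀ v, (b.trans a) ((b.trans a) ((b.trans a) v)) = v := fun v => by
    simp only [MulEquiv.trans_apply, ← hab, ha, hb]
  have hd : ∀ v, ((b.trans a).trans a) (((b.trans a).trans a) (((b.trans a).trans a) v)) = v :=
    fun v => by simp only [MulEquiv.trans_apply, ← hab, ha, hb]
  let N : (A ≃* A) → A → A := fun σ v => v * σ v * σ (σ v)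
  have key : ∀ v, N a v * N b v * N (b.trans a) v * N ((b.trans a).trans a) v = v ^ 3 := by
    intro v
    have hNb : b (N b v) = N b v := norm3_mem b hb v
    have hfix : N a (N b v) = 1 := by
      refine hfree _ (norm3_mem a ha _) ?_
      simp only [N, map_mul, ← hab, hb]
      ac_rfl
    calc N a v * N b v * N (b.trans a) v * N ((b.trans a).trans a) v
        = v ^ 3 * N a (N b v) := by
          simp only [N, MulEquiv.trans_apply, map_mul, ← hab, ha, pow_succ, pow_zero, one_mul]
          ac_rfl
      _ = v ^ 3 := by rw [hfix, mul_one]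
  let f : A → ((fixS a × fixS b) × fixS (b.trans a)) × fixS ((b.trans a).trans a) := fun v =>
    (((⟨N a v, norm3_mem a ha v⟩, ⟨N b v, norm3_mem b hb v⟩), ⟨_, norm3_mem _ hc v⟩),
      ⟨_, norm3_mem _ hd v⟩)
  have hf : Function.Injective f := fun v w h => by
    simp only [f, Prod.mk.injEq, Subtype.ext_iff] at h
    obtain ⟨⟨⟨h1, h2⟩, h4⟩, h5⟩ := h
    have e : v ^ 3 = w ^ 3 := by
      rw [← key v, ← key w]
      simp only [N] at h1 h2 ⊢
      rw [h1, h2, h4, h5]
    exact (powCoprime h3).injective e
  have := Nat.card_le_card_of_injective f hf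
  simpa [Nat.card_prod] using this

/-- The restriction of an automorphism to the centre. -/
def centerAut (σ : W ≃* W) : center W ≃* center W :=
  (σ.subgroupMap (center W)).trans
    (MulEquiv.subgroupCongr (characteristic_iff_map_eq.1 inferInstance σ))

theorem centerAut_apply (σ : W ≃* W) (v : center W) : ((centerAut σ v : center W) : W) = σ v := rfl

/-- The automorphism of the quotient by the centre. -/
def quotAut (σ : W ≃* W) : W ⧸ center W ≃* W ⧸ center W :=
  QuotientGroup.congr _ _ σ (characteristic_iff_map_eq.1 inferInstance σ)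

theorem quotAut_mk (σ : W ≃* W) (v : W) :
    quotAut σ (QuotientGroup.mk v) = QuotientGroup.mk (σ v) := rfl

/-- A fixed coset contains a fixed point. -/
theorem exists_fixed_lift [Finite W] (h3 : ¬ 3 ∣ Nat.card W) (σ : W ≃* W)
    (hσ : ∀ v, σ (σ (σ v)) = v) (q : W ⧸ center W) (hq : quotAut σ q = q) :
    ∃ v, σ v = v ∧ (QuotientGroup.mk v : W ⧸ center W) = q := by
  classical
  haveI : Fact (Nat.Prime 3) := ⟨Nat.prime_three⟩
  let S := {v : W // (QuotientGroup.mk v : W ⧸ center W) = q}
  haveI : Fintype S := Fintype.ofFinite S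
  have hmem : ∀ v : S, (QuotientGroup.mk (σ v.1) : W ⧸ center W) = q := fun v => by
    rw [← quotAut_mk, v.2, hq]
  let π : Equiv.Perm S :=
    { toFun := fun v => ⟨σ v.1, hmem v⟩
      invFun := fun v => ⟨σ (σ v.1), hmem ⟨σ v.1, hmem v⟩⟩
      left_inv := fun v => Subtype.ext (hσ v.1)
      right_inv := fun v => Subtype.ext (hσ v.1) }
  have hcard : Fintype.card S = Nat.card (center W) := by
    rw [← Nat.card_eq_fintype_card]
    obtain ⟨v₀, hv₀⟩ := QuotientGroup.mk_surjective q
    refine Nat.card_congr
      { toFun := fun v => ⟨v₀⁻¹ * v.1, QuotientGroup.eq.1 (hv₀.trans v.2.symm)⟩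
        invFun := fun n => ⟨v₀ * n.1, (QuotientGroup.mk_mul_of_mem v₀ n.2).trans hv₀⟩
        left_inv := fun v => Subtype.ext (mul_inv_cancel_left _ _)
        right_inv := fun n => Subtype.ext (inv_mul_cancel_left _ _) }
  have hnd : ¬ 3 ∣ Fintype.card S := by
    rw [hcard]
    exact fun h => h3 (h.trans (card_subgroup_dvd_card _))
  obtain ⟨v, hv⟩ := Equiv.Perm.exists_fixed_point_of_prime (p := 3) (n := 1) hnd (σ := π)
    (Equiv.ext fun v => Subtype.ext (hσ v.1))
  exact ⟨v.1, congrArg Subtype.val hv, v.2⟩

/-- Fixed points of the centre and of the quotient. -/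
theorem card_fix_center_mul_le [Finite W] (h3 : ¬ 3 ∣ Nat.card W) (σ : W ≃* W)
    (hσ : ∀ v, σ (σ (σ v)) = v) :
    Nat.card (fixS (centerAut σ)) * Nat.card (fixS (quotAut σ)) ≤ Nat.card (fixS σ) := by
  classical
  choose l hl hlq using fun q : fixS (quotAut σ) => exists_fixed_lift h3 σ hσ q.1 q.2
  have hz : ∀ n : fixS (centerAut σ), σ ((n.1 : center W) : W) = ((n.1 : center W) : W) := fun n =>
    congrArg Subtype.val n.2
  rw [← Nat.card_prod]
  refine Nat.card_le_card_of_injective
    (fun p => ⟨l p.2 * ((p.1.1 : center W) : W), by rw [mem_fixS, map_mul, hl, hz]⟩) ?_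
  intro p q h
  have h' : l p.2 * ((p.1.1 : center W) : W) = l q.2 * ((q.1.1 : center W) : W) :=
    congrArg Subtype.val h
  have e2 : p.2 = q.2 := by
    apply Subtype.ext
    have := congrArg (QuotientGroup.mk (s := center W)) h'
    rwa [QuotientGroup.mk_mul_of_mem _ p.1.1.2, QuotientGroup.mk_mul_of_mem _ q.1.1.2, hlq,
      hlq] at this
  rw [e2] at h'
  exact Prod.ext (Subtype.ext (Subtype.ext (mul_left_cancel h'))) e2

/-- The bound. -/
theorem card_le_fix [Finite W] (hW : IsPGroup 2 W) (a b : W ≃* W) (ha : ∀ v, a (a (a v)) = v)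
    (hb : ∀ v, b (b (b v)) = v) (hab : ∀ v, a (b v) = b (a v))
    (hfree : ∀ v, a v = v → b v = v → v = 1) :
    Nat.card W ≤ Nat.card (fixS a) * Nat.card (fixS b) * Nat.card (fixS (b.trans a)) *
      Nat.card (fixS ((b.trans a).trans a)) := by
  induction hn : Nat.card W using Nat.strong_induction_on generalizing W with
  | _ n ih =>
    subst hn
    haveI : Fact (Nat.Prime 2) := ⟨Nat.prime_two⟩
    obtain ⟨k, hk⟩ := IsPGroup.iff_card.1 hW
    have hco : (Nat.card W).Coprime 3 := by
      rw [hk]; exact Nat.Coprime.pow_left _ (by norm_num)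
    have h3 : ¬ 3 ∣ Nat.card W := fun h => by
      simpa using Nat.eq_one_of_dvd_coprimes hco h dvd_rfl
    rcases subsingleton_or_nontrivial W with hs | hnt
    · rw [Nat.card_of_subsingleton (1 : W)]
      exact Nat.one_le_iff_ne_zero.2 (by simp [Nat.card_eq_zero])
    have hc : ∀ v, (b.trans a) ((b.trans a) ((b.trans a) v)) = v := fun v => by
      simp only [MulEquiv.trans_apply, ← hab, ha, hb]
    have hd : ∀ v, ((b.trans a).trans a) (((b.trans a).trans a) (((b.trans a).trans a) v)) = v :=
      fun v => by simp only [MulEquiv.trans_apply, ← hab, ha, hb]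
    -- the centre
    letI : CommGroup (center W) := { (inferInstance : Group (center W)) with
      mul_comm := fun p q => Subtype.ext ((mem_center_iff.1 q.2) p.1) }
    have hA := card_le_fix_abelian (A := center W)
      (Nat.Coprime.coprime_dvd_left (card_subgroup_dvd_card _) hco) (centerAut a) (centerAut b)
      (fun v => Subtype.ext (ha v.1)) (fun v => Subtype.ext (hb v.1))
      (fun v => Subtype.ext (hab v.1)) (fun v h1 h2 => Subtype.ext
        (hfree v.1 (congrArg Subtype.val h1) (congrArg Subtype.val h2)))
    -- the quotient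
    haveI : Nontrivial (center W) := hW.center_nontrivial
    have hlt : Nat.card (W ⧸ center W) < Nat.card W := by
      rw [card_eq_card_quotient_mul_card_subgroup (center W)]
      exact lt_mul_of_one_lt_right Nat.card_pos Finite.one_lt_card
    have hQ := ih _ hlt (hW.to_quotient _) (quotAut a) (quotAut b)
      (by rintro ⟨v⟩; exact congrArg QuotientGroup.mk (ha v))
      (by rintro ⟨v⟩; exact congrArg QuotientGroup.mk (hb v))
      (by rintro ⟨v⟩; exact congrArg QuotientGroup.mk (hab v))
      (by
        intro q h1 h2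
        obtain ⟨v, hv, rfl⟩ := exists_fixed_lift h3 a ha q h1
        rw [quotAut_mk] at h2
        -- average over the orbit of the other automorphism
        obtain ⟨u', hu', hu''⟩ := exists_fixed_lift h3 b hb (QuotientGroup.mk v) h2
        have hn : (v⁻¹ * u') ∈ center W := QuotientGroup.eq.1 hu''.symm
        let A' := center W
        have hau : a (u' * a u' * a (a u')) = u' * a u' * a (a u') := by
          obtain ⟨n₁, hn₁, rfl⟩ : ∃ n ∈ center W, u' = v * n := ⟨_, hn, by group⟩
          have hz1 : a n₁ ∈ center W := (centerAut a ⟨n₁, hn₁⟩).2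
          have hz2 : a (a n₁) ∈ center W := (centerAut a ⟨_, hz1⟩).2
          have e : v * n₁ * a (v * n₁) * a (a (v * n₁)) = v * v * v * (n₁ * a n₁ * a (a n₁)) := by
            simp only [map_mul, hv]
            have c1 : ∀ g, n₁ * g = g * n₁ := fun g => ((mem_center_iff.1 hn₁) g).symm
            have c2 : ∀ g, a n₁ * g = g * a n₁ := fun g => ((mem_center_iff.1 hz1) g).symm
            simp only [mul_assoc]
            rw [← mul_assoc n₁ v, c1 v, mul_assoc, ← mul_assoc (a n₁) v, c2 v, mul_assoc,
              ← mul_assoc n₁ v, c1 v, mul_assoc]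
          rw [e]
          have hm := congrArg Subtype.val
            (norm3_mem (centerAut a) (fun p => Subtype.ext (ha p.1)) ⟨n₁, hn₁⟩)
          skip
          rw [map_mul, map_mul, map_mul, hv]
          exact congrArg (v * v * v * ·) hm
        have hbu : b (u' * a u' * a (a u')) = u' * a u' * a (a u') := by
          simp only [map_mul, ← hab, hu']
        have h1' := hfree _ hau hbu
        have h2' := congrArg (QuotientGroup.mk (s := center W)) h1'
        rw [QuotientGroup.mk_mul, QuotientGroup.mk_mul, ← quotAut_mk, ← quotAut_mk, ← quotAut_mk,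
          hu'', quotAut_mk, hv, quotAut_mk, hv, QuotientGroup.mk_one] at h2'
        have hco' : (Nat.card (W ⧸ center W)).Coprime 3 :=
          Nat.Coprime.coprime_dvd_left (card_quotient_dvd_card _) hco
        refine (powCoprime hco').injective ?_
        show (QuotientGroup.mk v : W ⧸ center W) ^ 3 = (1 : W ⧸ center W) ^ 3
        rw [one_pow, pow_succ, pow_two, h2']) rfl
    have m1 := card_fix_center_mul_le h3 a ha
    have m2 := card_fix_center_mul_le h3 b hb
    have m3 := card_fix_center_mul_le h3 _ hc
    have m4 := card_fix_center_mul_le h3 _ hd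
    have e1 : quotAut (b.trans a) = (quotAut b).trans (quotAut a) :=
      MulEquiv.ext (by rintro ⟨v⟩; rfl)
    have e2 : quotAut ((b.trans a).trans a) = ((quotAut b).trans (quotAut a)).trans (quotAut a) :=
      MulEquiv.ext (by rintro ⟨v⟩; rfl)
    have e3 : centerAut (b.trans a) = (centerAut b).trans (centerAut a) :=
      MulEquiv.ext fun v => Subtype.ext rfl
    have e4 : centerAut ((b.trans a).trans a) =
        ((centerAut b).trans (centerAut a)).trans (centerAut a) :=
      MulEquiv.ext fun v => Subtype.ext rfl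
    rw [e1, e3] at m3
    rw [e2, e4] at m4
    calc Nat.card W = Nat.card (W ⧸ center W) * Nat.card (center W) :=
          card_eq_card_quotient_mul_card_subgroup _
      _ ≤ _ := Nat.mul_le_mul hQ hA
      _ = _ := by ring
      _ ≤ _ := Nat.mul_le_mul (Nat.mul_le_mul (Nat.mul_le_mul m1 m2) m3) m4

end CfsgLib.McLDouble.Three9
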