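import Cfsg.Agent.Lib.McLDouble.Defs
import Cfsg.Agent.Lib.McLDouble.ThreeFix

/-!
# The Sylow 3-subgroups have order more than 9

Otherwise an element moving `t` generates with `w` a conjugate of `⟨z, b⟩`; this group acts on the
largest normal 2-subgroup of the centraliser of `⟨t, s⟩` with too few fixed points.
-/

set_option autoImplicit false

namespace CfsgLib.McLDouble

namespace Three9

open Subgroup

universe u

variable {G : Type u} [Group G]

/-- A nontrivial 2-subgroup contains a central involution. -/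
theorem exists_central_invol [Finite G] {P : Subgroup G} (hP : IsPGroup 2 P) (hne : P ≠ ⊥) :
    ∃ c ∈ P, orderOf c = 2 ∧ ∀ p ∈ P, Commute p c := by
  haveI : Fact (Nat.Prime 2) := ⟨Nat.prime_two⟩
  haveI : Nontrivial P := (nontrivial_iff_ne_bot P).2 hne
  haveI : Nontrivial (center P) := hP.center_nontrivial
  obtain ⟨k, hk, hk'⟩ := (hP.to_subgroup (center P)).nontrivial_iff_card.1 inferInstance
  obtain ⟨c, hc⟩ := exists_prime_orderOf_dvd_card' (G := center P) 2
    (hk' ▸ dvd_pow_self 2 hk.ne')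
  exact ⟨((c.1 : P) : G), c.1.2, by rw [orderOf_coe, orderOf_coe, hc], fun p hp =>
    congrArg Subtype.val ((mem_center_iff.1 c.2) ⟨p, hp⟩)⟩

/-- A 2-subgroup is moved into a maximal one containing a given one. -/
theorem exists_conj_into [Finite G] {H T : Subgroup G} (hT : IsPGroup 2 T) (hTH : T ≤ H)
    {K : Subgroup G} (hK : IsPGroup 2 K) (hKH : K ≤ H) :
    ∃ P : Subgroup G, T ≤ P ∧ P ≤ H ∧ IsPGroup 2 P ∧
      ∃ h ∈ H, ∀ v ∈ K, h * v * h⁻¹ ∈ P := by
  haveI : Fact (Nat.Prime 2) := ⟨Nat.prime_two⟩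
  obtain ⟨P, hP⟩ := (hT.comap_subtype (K := H)).exists_le_sylow
  obtain ⟨R, hR⟩ := (hK.comap_subtype (K := H)).exists_le_sylow
  obtain ⟨h, hh⟩ := MulAction.exists_smul_eq H R P
  refine ⟨(P : Subgroup H).map H.subtype, fun v hv => ⟨⟨v, hTH hv⟩, hP hv, rfl⟩,
    map_subtype_le _, P.2.map _, h, h.2, fun v hv => ?_⟩
  refine ⟨h * ⟨v, hKH hv⟩ * h⁻¹, ?_, rfl⟩
  have hm : MulAut.conj h ⟨v, hKH hv⟩ ∈ ((h • R : Sylow 2 H) : Subgroup H) :=
    ⟨⟨v, hKH hv⟩, hR hv, rfl⟩
  rw [hh] at hm
  exact hm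

/-- A largest normal 2-subgroup and a bound on its index. -/
theorem exists_core {H : Type u} [Group H] [Finite H] (hH : Nat.card H = 192) :
    ∃ K : Subgroup H, K.Normal ∧ IsPGroup 2 K ∧ 32 ≤ Nat.card K ∧
      ∀ N : Subgroup H, N.Normal → IsPGroup 2 N → N ≤ K := by
  classical
  haveI : Fact (Nat.Prime 2) := ⟨Nat.prime_two⟩
  let P : Sylow 2 H := default
  have hPc : Nat.card P = 64 := by
    rw [P.card_eq_multiplicity, hH, show (192 : ℕ) = 2 ^ 6 * 3 by norm_num,
      Nat.factorization_mul (by norm_num) (by norm_num), Finsupp.add_apply,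
      Nat.prime_two.factorization_pow, Finsupp.single_eq_same,
      Nat.factorization_eq_zero_of_not_dvd (by norm_num : ¬ 2 ∣ 3)]
    norm_num
  have hidx : (P : Subgroup H).index = 3 := by
    have := (P : Subgroup H).card_mul_index
    rw [hPc, hH] at this
    omega
  have hdvd : (P : Subgroup H).normalCore.index ∣ 6 := by
    rw [normalCore_eq_ker, index_ker]
    refine (card_subgroup_dvd_card _).trans ?_
    rw [Nat.card_perm, ← index_eq_card, hidx]
    exact dvd_rfl
  refine ⟨(P : Subgroup H).normalCore, inferInstance, P.2.to_le (normalCore_le _), ?_, fun N hN hN2 => ?_⟩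
  · have h1 := (P : Subgroup H).normalCore.card_mul_index
    have h2 := Nat.le_of_dvd (by norm_num) hdvd
    nlinarith
  · haveI := hN
    obtain ⟨R, hR⟩ := hN2.exists_le_sylow
    obtain ⟨h, hh⟩ := MulAction.exists_smul_eq H R P
    refine normal_le_normalCore.2 fun v hv => ?_
    rw [← hh]
    exact ⟨h⁻¹ * v * h, hR (by simpa using hN.conj_mem v hv h⁻¹), by simp [mul_assoc]⟩

variable (D : Cov G)

theorem mem_C {g : G} : g ∈ centralizer ({D.t} : Set G) ↔ Commute g D.t :=
  mem_centralizer_singleton_iff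

theorem comm_tz : Commute D.t D.z := ((mem_C D).1 D.mem_z).symm
theorem comm_tb : Commute D.t D.b := ((mem_C D).1 D.mem_b).symm
theorem comm_tw : Commute D.t D.w := (comm_tz D).mul_right (comm_tb D)
theorem comm_ts : Commute D.t D.s := ((mem_C D).1 D.mem_s).symm
theorem mem_w : D.w ∈ centralizer ({D.t} : Set G) := mul_mem D.mem_z D.mem_b

theorem comm_sw : Commute D.s D.w := by
  have : D.s * D.w * D.s⁻¹ = D.w := by
    rw [Cov.w, ← conj_mul, D.sz, D.sb, D.zb.eq]
  exact mul_inv_eq_iff_eq_mul.1 this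

theorem t_ne : D.t ≠ 1 := fun h => by simpa [h] using D.ord_t
theorem s_ne_one : D.s ≠ 1 := fun h => by simpa [h] using D.ord_s
theorem tt : D.t * D.t = 1 := by rw [← sq, ← D.ord_t]; exact pow_orderOf_eq_one _
theorem ss : D.s * D.s = 1 := by rw [← sq, ← D.ord_s]; exact pow_orderOf_eq_one _
theorem zz : D.z ^ 3 = 1 := by rw [← D.ord_z]; exact pow_orderOf_eq_one _
theorem bb : D.b ^ 3 = 1 := by rw [← D.ord_b]; exact pow_orderOf_eq_one _

/-- The four group `{1, t, s, s t}`. -/
def four : Subgroup G where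
  carrier := {g | g = 1 ∨ g = D.t ∨ g = D.s ∨ g = D.s * D.t}
  one_mem' := Or.inl rfl
  mul_mem' := by
    have e := (comm_ts D).eq
    have ht := tt D
    have hs := ss D
    rintro _ _ (rfl | rfl | rfl | rfl) (rfl | rfl | rfl | rfl) <;>
      simp only [Set.mem_ofPred_eq, one_mul, mul_one] <;> grind
  inv_mem' := by
    have e := (comm_ts D).eq
    have ht : D.t⁻¹ = D.t := inv_eq_of_mul_eq_one_right (tt D)
    have hs : D.s⁻¹ = D.s := inv_eq_of_mul_eq_one_right (ss D)
    rintro _ (rfl | rfl | rfl | rfl) <;> simp [mul_inv_rev, ht, hs, e]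

theorem pow2_card_V [Finite G] : IsPGroup 2 (four D) := by
  intro g
  refine ⟨1, Subtype.ext ?_⟩
  have e := (comm_ts D).eq
  rw [SubmonoidClass.coe_pow, pow_one, sq, OneMemClass.coe_one]
  rcases g.2 with h | h | h | h <;> rw [h]
  · exact mul_one _
  · exact tt D
  · exact ss D
  · rw [mul_assoc, ← mul_assoc D.t, e, mul_assoc, tt D, mul_one, ss D]

theorem card_V_ge [Finite G] : 4 ≤ Nat.card (four D) := by
  let f : Fin 4 → (four D) := ![1, ⟨D.t, Or.inr (Or.inl rfl)⟩, ⟨D.s, Or.inr (Or.inr (Or.inl rfl))⟩,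
    ⟨D.s * D.t, Or.inr (Or.inr (Or.inr rfl))⟩]
  have h1 : D.s ≠ D.t := D.s_ne
  have h2 := t_ne D
  have h3 := s_ne_one D
  have h4 : D.s * D.t ≠ 1 := fun h => h1 (by rw [eq_inv_of_mul_eq_one_left h,
    inv_eq_of_mul_eq_one_right (tt D)])
  have hf : Function.Injective f := by
    intro i j h
    have h' := congrArg Subtype.val h
    fin_cases i <;> fin_cases j <;> simp [f] at h' ⊢ <;>
      first
        | exact absurd h' (by first | assumption | (intro e; exact absurd e.symm (by assumption)))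
        | exact absurd h'.symm (by assumption)
  simpa using Nat.card_le_card_of_injective f hf

/-- A 2-subgroup of the centraliser of `z` has at most one involution. -/
theorem invol_unique [Finite G] {K : Subgroup G} (hK : IsPGroup 2 K)
    (hKz : ∀ v ∈ K, Commute v D.z) {c d : G} (hc : c ∈ K) (hd : d ∈ K) (oc : orderOf c = 2)
    (od : orderOf d = 2) : c = d := by
  haveI : Fact (Nat.Prime 2) := ⟨Nat.prime_two⟩
  have hT : IsPGroup 2 (zpowers D.t) :=
    IsPGroup.of_card (n := 1) (by rw [Nat.card_zpowers, D.ord_t, pow_one])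
  obtain ⟨P, hTP, hPH, hP, h, -, hh⟩ := exists_conj_into (H := centralizer ({D.z} : Set G)) hT
    (zpowers_le.2 (mem_centralizer_singleton_iff.2 (comm_tz D)))
    hK (fun v hv => mem_centralizer_singleton_iff.2 (hKz v hv))
  have htP : D.t ∈ P := hTP (mem_zpowers _)
  obtain ⟨i, hi, oi, hcen⟩ := exists_central_invol hP fun h0 => t_ne D (by rw [h0] at htP; exact htP)
  have hzc : ∀ v ∈ P, Commute v D.z := fun v hv => mem_centralizer_singleton_iff.1 (hPH hv)
  have hit : i = D.t := D.z_invol i ((mem_C D).2 (hcen _ htP).symm) (hzc i hi) oi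
  have key : ∀ v ∈ K, orderOf v = 2 → h * v * h⁻¹ = D.t := fun v hv ov =>
    D.z_invol _ ((mem_C D).2 (hit ▸ hcen _ (hh v hv))) (hzc _ (hh v hv))
      (by rw [← MulAut.conj_apply, MulEquiv.orderOf_eq, ov])
  exact mul_left_cancel (mul_right_cancel ((key c hc oc).trans (key d hd od).symm))

/-- A 2-subgroup of the centraliser of `w` has order at most four. -/
theorem card_le_four [Finite G] (F : Fused D) {K : Subgroup G} (hK : IsPGroup 2 K)
    (hKw : ∀ v ∈ K, Commute v D.w) : Nat.card K ≤ 4 := by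
  haveI : Fact (Nat.Prime 2) := ⟨Nat.prime_two⟩
  have h36 : ∀ {Q : Subgroup G}, IsPGroup 2 Q →
      (∀ v ∈ Q, Commute v D.t ∧ Commute v D.w) → Nat.card Q ∣ 4 := by
    intro Q hQ hQc
    obtain ⟨n, hn⟩ := IsPGroup.iff_card.1 hQ
    have hd := card_dvd_of_le (H := Q) (K := centralizer ({D.t} : Set G) ⊓
      centralizer ({D.z * D.b} : Set G)) fun v hv => ⟨(mem_C D).2 (hQc v hv).1,
        mem_centralizer_singleton_iff.2 (hQc v hv).2⟩
    rw [D.cardTw, show (36 : ℕ) = 4 * 9 by norm_num] at hd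
    exact (Nat.Coprime.dvd_mul_right (hn ▸ Nat.Coprime.pow_left _ (by norm_num))).1 hd
  have hVw : ∀ v ∈ (four D), Commute v D.w := by
    rintro v (rfl | rfl | rfl | rfl)
    exacts [Commute.one_left _, comm_tw D, comm_sw D, (comm_sw D).mul_left (comm_tw D)]
  obtain ⟨P, hVP, hPH, hP, h, -, hh⟩ := exists_conj_into (H := centralizer ({D.w} : Set G))
    (pow2_card_V D) (fun v hv => mem_centralizer_singleton_iff.2 (hVw v hv))
    hK (fun v hv => mem_centralizer_singleton_iff.2 (hKw v hv))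
  have hPw : ∀ v ∈ P, Commute v D.w := fun v hv => mem_centralizer_singleton_iff.1 (hPH hv)
  have htP : D.t ∈ P := hVP (Or.inr (Or.inl rfl))
  obtain ⟨c, hc, oc, hcen⟩ := exists_central_invol hP fun h0 => t_ne D (by rw [h0] at htP; exact htP)
  -- the central involution lies in the four group
  let T : Subgroup G := P ⊓ centralizer ({D.t} : Set G)
  have hT4 : Nat.card T ∣ 4 := h36 (hP.to_le inf_le_left) fun v hv =>
    ⟨(mem_C D).1 hv.2, hPw v hv.1⟩
  have hVT : (four D) ≤ T := fun v hv => ⟨hVP hv, (mem_C D).2 (by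
    rcases hv with rfl | rfl | rfl | rfl
    exacts [Commute.one_left _, Commute.refl _, (comm_ts D).symm,
      (comm_ts D).symm.mul_left (Commute.refl _)])⟩
  have hTV : T = (four D) := (eq_of_le_of_card_ge hVT
    ((Nat.le_of_dvd (by norm_num) hT4).trans (card_V_ge D))).symm
  have hcV : c ∈ (four D) := hTV ▸ (⟨hc, (mem_C D).2 (hcen _ htP).symm⟩ : c ∈ T)
  -- it is a conjugate of `t` in the centraliser of `w`
  obtain ⟨g, hgw, hgc⟩ : ∃ g, Commute g D.w ∧ g * D.t * g⁻¹ = c := by
    rcases hcV with h' | h' | h' | h'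
    · simp [h'] at oc
    · exact ⟨1, Commute.one_left _, by simp [h']⟩
    · exact ⟨F.x, F.xw, by rw [h', F.xt]⟩
    · exact ⟨F.x * F.x, F.xw.mul_left F.xw, by
        rw [h', ← F.xs, ← F.xt]; simp [mul_assoc]⟩
  have hle : Nat.card (P.map (MulAut.conj g⁻¹).toMonoidHom) ∣ 4 := by
    refine h36 (hP.map _) ?_
    rintro _ ⟨v, hv, rfl⟩
    have e1 : g⁻¹ * c * g = D.t := by rw [← hgc]; group
    have e2 : g⁻¹ * D.w * g = D.w := by rw [mul_assoc, ← hgw.eq, inv_mul_cancel_left]
    refine ⟨?_, ?_⟩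
    · have := (hcen v hv).map (MulAut.conj g⁻¹).toMonoidHom
      simpa [e1] using this
    · have := (hPw v hv).map (MulAut.conj g⁻¹).toMonoidHom
      simpa [e2] using this
  have hinj : Nat.card K ≤ Nat.card P := Nat.card_le_card_of_injective
    (fun v : K => (⟨h * v.1 * h⁻¹, hh v.1 v.2⟩ : P)) fun v v' e => Subtype.ext (by
      simpa using congrArg Subtype.val e)
  rw [card_map_of_injective (MulAut.conj g⁻¹).injective] at hle
  exact hinj.trans (Nat.le_of_dvd (by norm_num) hle)

/-- The elements of `⟨z, b⟩` commute. -/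
theorem E_comm : ∀ p ∈ D.E, ∀ q ∈ D.E, Commute p q := by
  intro p hp q hq
  haveI : IsMulCommutative ↥(closure ({D.z, D.b} : Set G)) :=
    Subgroup.isMulCommutative_closure (k := ({D.z, D.b} : Set G)) (by
      rintro _ (rfl | rfl) _ (rfl | rfl)
      exacts [rfl, D.zb.eq, D.zb.symm.eq, rfl])
  exact congrArg Subtype.val
    (mul_comm' (⟨p, hp⟩ : closure ({D.z, D.b} : Set G)) ⟨q, hq⟩)

theorem b_notin_z : D.b ∉ zpowers D.z := by
  intro h
  obtain ⟨k, hk⟩ := mem_zpowers_iff.1 h
  have e : (D.π ⟨D.b, D.mem_b⟩ : Equiv.Perm (Fin 8)) =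
      (D.π ⟨D.z, D.mem_z⟩ : Equiv.Perm (Fin 8)) ^ k := by
    rw [show (⟨D.b, D.mem_b⟩ : centralizer ({D.t} : Set G)) = ⟨D.z, D.mem_z⟩ ^ k from
      Subtype.ext hk.symm, map_zpow]
    rfl
  rw [D.π_z, D.π_b] at e
  have := congrArg (fun σ : Equiv.Perm (Fin 8) => σ 3) e
  rw [Equiv.Perm.zpow_apply_eq_self_of_apply_eq_self (by decide)] at this
  exact absurd this (by decide)

/-- `⟨z, b⟩` has exponent three. -/
theorem pow3_E : IsPGroup 3 D.E := by
  intro g
  refine ⟨1, Subtype.ext ?_⟩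
  obtain ⟨g, hg⟩ := g
  show g ^ (3 ^ 1) = 1
  induction hg using closure_induction with
  | mem v hv => rcases hv with rfl | rfl
                exacts [zz D, bb D]
  | one => exact one_pow _
  | mul p q hp hq i j => rw [(E_comm D p hp q hq).mul_pow, i, j, mul_one]
  | inv p _ i => rw [inv_pow, i, inv_one]

theorem card_E_ge [Finite G] : 9 ∣ Nat.card D.E := by
  haveI : Fact (Nat.Prime 3) := ⟨Nat.prime_three⟩
  have hzE : zpowers D.z ≤ D.E := zpowers_le.2 (subset_closure (Set.mem_insert _ _))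
  have hE : IsPGroup 3 D.E := pow3_E D
  obtain ⟨n, hn⟩ := IsPGroup.iff_card.1 hE
  rcases lt_or_ge n 2 with h | h
  · exfalso
    apply b_notin_z D
    have e : zpowers D.z = D.E := eq_of_le_of_card_ge hzE (by
      rw [hn, Nat.card_zpowers, D.ord_z]
      calc 3 ^ n ≤ 3 ^ 1 := Nat.pow_le_pow_right (by norm_num) (by omega)
        _ = 3 := pow_one _)
    rw [e]; exact subset_closure (Set.mem_insert_of_mem _ rfl)
  · exact hn ▸ Nat.pow_dvd_pow 3 h

end Three9

universe u'

open Subgroup Three9 in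
/-- Piece P2: the Sylow 3-subgroups have order more than `9`. -/
theorem three : StmtThree.{u'} := by
  intro G _ _ D F
  classical
  by_contra h27
  haveI : Fact (Nat.Prime 3) := ⟨Nat.prime_three⟩
  haveI : Fact (Nat.Prime 2) := ⟨Nat.prime_two⟩
  -- 3-subgroups have order at most 9
  have h9 : ∀ K : Subgroup G, IsPGroup 3 K → Nat.card K ≤ 9 := by
    intro K hK
    obtain ⟨n, hn⟩ := IsPGroup.iff_card.1 hK
    have : n ≤ 2 := by
      by_contra hc
      exact h27 ((Nat.pow_dvd_pow 3 (by omega : 3 ≤ n)).trans (hn ▸ card_subgroup_dvd_card K))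
    exact hn ▸ Nat.pow_le_pow_right (by norm_num) this
  -- a conjugate of `E` in the centraliser of `w` contains `x`
  let H := centralizer ({D.w} : Set G)
  have hEH : D.E ≤ H := (closure_le _).2 (by
    rintro _ (rfl | rfl) <;>
      refine mem_centralizer_singleton_iff.2 ?_
    · exact (Commute.refl D.z).mul_right D.zb
    · exact D.zb.symm.mul_right (Commute.refl D.b))
  have hwE : D.w ∈ D.E := mul_mem (subset_closure (Set.mem_insert _ _))
    (subset_closure (Set.mem_insert_of_mem _ rfl))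
  have hE3 : IsPGroup 3 D.E := pow3_E D
  have hE9 : Nat.card D.E = 9 :=
    le_antisymm (h9 _ hE3) (Nat.le_of_dvd Nat.card_pos (card_E_ge D))
  obtain ⟨PE, hPE⟩ := (hE3.comap_subtype (K := H)).exists_le_sylow
  have hxH : F.x ∈ H := mem_centralizer_singleton_iff.2 F.xw
  obtain ⟨m, hm⟩ := F.xord
  have hX3 : IsPGroup 3 (zpowers (⟨F.x, hxH⟩ : H)) :=
    IsPGroup.of_card (n := m) (by rw [Nat.card_zpowers, ← orderOf_coe]; exact hm)
  obtain ⟨PX, hPX⟩ := hX3.exists_le_sylow
  obtain ⟨k, hk⟩ := MulAction.exists_smul_eq H PE PX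
  have hPE' : (PE : Subgroup H).map H.subtype = D.E :=
    (eq_of_le_of_card_ge (K := (PE : Subgroup H).map H.subtype)
      (fun v hv => ⟨⟨v, hEH hv⟩, hPE hv, rfl⟩)
      ((h9 _ (PE.2.map _)).trans hE9.ge)).symm
  -- the conjugates
  let κ : G := (k : G)
  have hκw : Commute κ D.w := mem_centralizer_singleton_iff.1 k.2
  let R : Subgroup G := D.E.map (MulAut.conj κ).toMonoidHom
  have hxR : F.x ∈ R := by
    have h1 : (⟨F.x, hxH⟩ : H) ∈ ((k • PE : Sylow 3 H) : Subgroup H) := hk ▸ hPX (mem_zpowers _)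
    obtain ⟨v, hv, hv'⟩ := h1
    exact ⟨v.1, hPE' ▸ ⟨v, hv, rfl⟩, congrArg Subtype.val hv'⟩
  have hwR : D.w ∈ R := ⟨D.w, hwE, by
    show κ * D.w * κ⁻¹ = D.w
    rw [hκw.eq, mul_inv_cancel_right]⟩
  have hRcomm : ∀ p ∈ R, ∀ q ∈ R, Commute p q := by
    rintro _ ⟨p, hp, rfl⟩ _ ⟨q, hq, rfl⟩
    exact (E_comm D p hp q hq).map _
  have hR9 : Nat.card R = 9 := by
    rw [card_map_of_injective (MulAut.conj κ).injective, hE9]
  have hRwx : R = closure ({D.w, F.x} : Set G) := by
    have hle : closure ({D.w, F.x} : Set G) ≤ R := (closure_le _).2 (by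
      rintro _ (rfl | rfl) <;> assumption)
    refine (eq_of_le_of_card_ge hle ?_).symm
    rw [hR9]
    obtain ⟨n, hn⟩ := IsPGroup.iff_card.1 ((hE3.map _).to_le hle)
    rcases lt_or_ge n 2 with h | h
    · exfalso
      have hww : orderOf D.w = 3 := by
        refine orderOf_eq_prime (by rw [Cov.w, D.zb.mul_pow, zz, bb, mul_one]) fun h1 => ?_
        exact b_notin_z D (by
          rw [eq_inv_of_mul_eq_one_right h1]; exact inv_mem (mem_zpowers _))
      have e : zpowers D.w = closure ({D.w, F.x} : Set G) := eq_of_le_of_card_ge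
        (zpowers_le.2 (subset_closure (Set.mem_insert _ _))) (by
          rw [hn, Nat.card_zpowers, hww]
          calc 3 ^ n ≤ 3 ^ 1 := Nat.pow_le_pow_right (by norm_num) (by omega)
            _ = 3 := pow_one _)
      have hx : F.x ∈ zpowers D.w := e ▸ subset_closure (Set.mem_insert_of_mem _ rfl)
      obtain ⟨i, hi⟩ := mem_zpowers_iff.1 hx
      have hc : Commute F.x D.t := hi ▸ ((comm_tw D).symm.zpow_left i)
      exact D.s_ne (by rw [← F.xt, hc.eq, mul_inv_cancel_right])
    · exact hn ▸ Nat.pow_le_pow_right (n := 3) (by norm_num) h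
  -- the largest normal 2-subgroup of the centraliser of the four group
  let C := centralizer ({D.t} : Set G) ⊓ centralizer ({D.s} : Set G)
  obtain ⟨N, hNn, hN2, hN32, hNmax⟩ := exists_core (H := C) D.cardTs
  let U : Subgroup G := N.map C.subtype
  have hU2 : IsPGroup 2 U := hN2.map _
  have hU32 : 32 ≤ Nat.card U := by rwa [card_map_of_injective C.subtype_injective]
  have hUt : ∀ v ∈ U, Commute v D.t ∧ Commute v D.s := fun v hv =>
    ⟨(mem_C D).1 (map_subtype_le N hv).1, mem_centralizer_singleton_iff.1 (map_subtype_le N hv).2⟩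
  -- it is normalised by the elements normalising the centraliser
  have hnorm : ∀ g : G, (∀ v, v ∈ C ↔ g * v * g⁻¹ ∈ C) → ∀ v ∈ U, g * v * g⁻¹ ∈ U := by
    intro g hg v hv
    obtain ⟨v, hv, rfl⟩ := hv
    let φ : C ≃* C :=
      { toFun := fun q => ⟨g * q.1 * g⁻¹, (hg _).1 q.2⟩
        invFun := fun q => ⟨g⁻¹ * q.1 * g, (hg _).2 (by simpa [mul_assoc] using q.2)⟩
        left_inv := fun q => Subtype.ext (by simp [mul_assoc])
        right_inv := fun q => Subtype.ext (by simp [mul_assoc])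
        map_mul' := fun p q => Subtype.ext (by simp [mul_assoc]) }
    exact ⟨φ v, hNmax _ (hNn.map φ.toMonoidHom φ.surjective) (hN2.map _) ⟨v, hv, rfl⟩, rfl⟩
  have hwC : ∀ v, v ∈ C ↔ D.w * v * D.w⁻¹ ∈ C := by
    have hw : D.w ∈ C := ⟨mem_w D, mem_centralizer_singleton_iff.2 (comm_sw D).symm⟩
    exact fun v => ⟨fun h => mul_mem (mul_mem hw h) (inv_mem hw), fun h => by
      simpa [mul_assoc] using mul_mem (mul_mem (inv_mem hw) h) hw⟩
  have hxC : ∀ v, v ∈ C ↔ F.x * v * F.x⁻¹ ∈ C := by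
    have hts : ∀ v : G, Commute v D.t → Commute v (D.s * D.t) → Commute v D.s := fun v h1 h2 => by
      simpa [mul_assoc, tt D] using h2.mul_right h1
    intro v
    show (v ∈ centralizer ({D.t} : Set G) ∧ v ∈ centralizer ({D.s} : Set G)) ↔
      (_ ∈ centralizer ({D.t} : Set G) ∧ _ ∈ centralizer ({D.s} : Set G))
    simp only [mem_centralizer_singleton_iff]
    constructor
    · rintro ⟨h1, h2⟩
      have a1 : Commute (F.x * v * F.x⁻¹) D.s := F.xt ▸ (Commute.conj_iff F.x).2 h1
      have a2 : Commute (F.x * v * F.x⁻¹) (D.s * D.t) := F.xs ▸ (Commute.conj_iff F.x).2 h2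
      have a3 := a1.mul_right a2
      rw [← mul_assoc, ss D, one_mul] at a3
      exact ⟨a3.eq, a1.eq⟩
    · rintro ⟨h1, h2⟩
      refine ⟨(Commute.conj_iff F.x).1 (F.xt.symm ▸ h2), (Commute.conj_iff F.x).1 ?_⟩
      exact F.xs.symm ▸ Commute.mul_right h2 h1
  have hRU : ∀ g ∈ R, ∀ v ∈ U, g * v * g⁻¹ ∈ U := by
    intro g hg
    rw [hRwx] at hg
    induction hg using closure_induction'' with
    | one => simp
    | mem g hg => rcases hg with rfl | rfl
                  exacts [hnorm _ hwC, hnorm _ hxC]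
    | inv_mem g hg =>
      intro v hv
      have hw : ∀ v, v ∈ C ↔ g⁻¹ * v * g⁻¹⁻¹ ∈ C := by
        intro v
        rcases hg with rfl | rfl
        · rw [hwC (_ * v * _)]; simp [mul_assoc]
        · rw [hxC (_ * v * _)]; simp [mul_assoc]
      exact hnorm _ hw v hv
    | mul p q _ _ hp hq =>
      intro v hv
      have := hp _ (hq v hv)
      simpa [mul_assoc] using this
  -- fixed points
  have hVU : (four D) ≤ U := by
    have hcen : ∀ v ∈ (four D), ∀ q ∈ C, Commute q v := by
      rintro v (rfl | rfl | rfl | rfl) q hq <;>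
        have h1 : Commute q D.t := (mem_C D).1 hq.1 <;>
        have h2 : Commute q D.s := mem_centralizer_singleton_iff.1 hq.2
      exacts [Commute.one_right _, h1, h2, h2.mul_right h1]
    have hVC : (four D) ≤ C := fun v hv => by
      have : Commute v D.t ∧ Commute v D.s := by
        rcases hv with rfl | rfl | rfl | rfl
        exacts [⟨Commute.one_left _, Commute.one_left _⟩, ⟨Commute.refl _, comm_ts D⟩,
          ⟨(comm_ts D).symm, Commute.refl _⟩,
          ⟨(comm_ts D).symm.mul_left (Commute.refl _), (Commute.refl _).mul_left (comm_ts D)⟩]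
      exact ⟨(mem_C D).2 this.1, mem_centralizer_singleton_iff.2 this.2⟩
    intro v hv
    refine ⟨⟨v, hVC hv⟩, hNmax ((four D).subgroupOf C) ⟨fun p hp q => ?_⟩
      ((pow2_card_V D).comap_subtype) hv, rfl⟩
    show (q : G) * (p : G) * (q : G)⁻¹ ∈ (four D)
    have hq : Commute (q : G) (p : G) := hcen _ hp _ q.2
    rw [hq.eq, mul_inv_cancel_right]
    exact hp
  let Fix : G → Subgroup G := fun g => U ⊓ centralizer ({g} : Set G)
  have hFw : Fix D.w = (four D) := by
    refine (eq_of_le_of_card_ge (H := (four D)) (K := Fix D.w)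
      (fun v hv => ⟨hVU hv, mem_centralizer_singleton_iff.2 ?_⟩) ?_).symm
    · rcases hv with rfl | rfl | rfl | rfl
      exacts [Commute.one_left _, comm_tw D, comm_sw D, (comm_sw D).mul_left (comm_tw D)]
    · exact (card_le_four D F (hU2.to_le inf_le_left) fun v hv =>
        mem_centralizer_singleton_iff.1 hv.2).trans (card_V_ge D)
  have hVx : ∀ v ∈ (four D), Commute F.x v → v = 1 := by
    intro v hv hc
    have hfix : F.x * v * F.x⁻¹ = v := by rw [hc.eq, mul_inv_cancel_right]
    rcases hv with rfl | rfl | rfl | rfl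
    · rfl
    · rw [F.xt] at hfix; exact absurd hfix D.s_ne
    · rw [F.xs] at hfix; exact absurd (mul_eq_left.1 hfix) (t_ne D)
    · rw [← conj_mul, F.xs, F.xt, mul_assoc, (comm_ts D).eq, ← mul_assoc, ss D, one_mul] at hfix
      exact absurd (right_eq_mul.1 hfix) (s_ne_one D)
  let a : G := κ * D.z * κ⁻¹
  let c : G := κ * D.b * κ⁻¹
  have hac : a * c = D.w := by
    show κ * D.z * κ⁻¹ * (κ * D.b * κ⁻¹) = D.w
    rw [conj_mul, ← Cov.w, hκw.eq, mul_inv_cancel_right]
  have haR : a ∈ R := mem_map_of_mem _ (subset_closure (Set.mem_insert _ _))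
  have hcR : c ∈ R := mem_map_of_mem _ (subset_closure (Set.mem_insert_of_mem _ rfl))
  -- no involution fixed by `a` or by `c`
  have htriv : ∀ (p h : G), p ∈ R → h * D.z * h⁻¹ = p → R = closure ({D.w, p} : Set G) →
      Fix p = ⊥ := by
    intro p h hp hh hgen
    by_contra hne
    obtain ⟨i, hi, oi, -⟩ := exists_central_invol (hU2.to_le (inf_le_left : Fix p ≤ U)) hne
    have hwi : D.w * i * D.w⁻¹ ∈ Fix p := by
      refine ⟨hRU _ hwR _ hi.1, mem_centralizer_singleton_iff.2 ?_⟩
      exact ((hRcomm _ hwR _ hp).mul_left (mem_centralizer_singleton_iff.1 hi.2)).mul_left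
        (hRcomm _ hwR _ hp).inv_left
    have huniq : D.w * i * D.w⁻¹ = i := by
      let M := (Fix p).map (MulAut.conj h⁻¹).toMonoidHom
      have hM : ∀ v ∈ M, Commute v D.z := by
        rintro _ ⟨v, hv, rfl⟩
        have e : h⁻¹ * p * h = D.z := by rw [← hh]; group
        have := Commute.map (mem_centralizer_singleton_iff.1 hv.2 : Commute v p)
          (MulAut.conj h⁻¹).toMonoidHom
        simpa [e] using this
      exact (MulAut.conj h⁻¹).injective (invol_unique D ((hU2.to_le inf_le_left).map _) hM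
        (mem_map_of_mem _ hwi) (mem_map_of_mem _ hi)
        (by
          show orderOf (MulAut.conj h⁻¹ (D.w * i * D.w⁻¹)) = 2
          rw [MulEquiv.orderOf_eq, ← MulAut.conj_apply, MulEquiv.orderOf_eq, oi])
        (by
          show orderOf (MulAut.conj h⁻¹ i) = 2
          rw [MulEquiv.orderOf_eq, oi]))
    have hiw : Commute D.w i := mul_inv_eq_iff_eq_mul.1 huniq
    have hiV : i ∈ (four D) := hFw ▸ (⟨hi.1, mem_centralizer_singleton_iff.2 hiw.symm⟩ : i ∈ Fix D.w)
    have hle : R ≤ centralizer ({i} : Set G) := hgen ▸ (closure_le _).2 (by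
      rintro _ (rfl | rfl)
      · exact mem_centralizer_singleton_iff.2 hiw
      · exact mem_centralizer_singleton_iff.2 (mem_centralizer_singleton_iff.1 hi.2 : Commute i _).symm)
    rw [hVx i hiV (mem_centralizer_singleton_iff.1 (hle hxR))] at oi
    simp at oi
  have hgen : ∀ p : G, p = a ∨ p = c → R = closure ({D.w, p} : Set G) := by
    intro p hp
    refine le_antisymm ?_ ((closure_le _).2 (by
      rintro _ (rfl | rfl)
      · exact hwR
      · rcases hp with rfl | rfl <;> assumption))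
    have hboth : a ∈ closure ({D.w, p} : Set G) ∧ c ∈ closure ({D.w, p} : Set G) := by
      have h1 : D.w ∈ closure ({D.w, p} : Set G) := subset_closure (Set.mem_insert _ _)
      have h2 : p ∈ closure ({D.w, p} : Set G) := subset_closure (Set.mem_insert_of_mem _ rfl)
      rcases hp with rfl | rfl
      · exact ⟨h2, eq_inv_mul_of_mul_eq hac ▸ mul_mem (inv_mem h2) h1⟩
      · exact ⟨eq_mul_inv_of_mul_eq hac ▸ mul_mem h1 (inv_mem h2), h2⟩
    show D.E.map _ ≤ _
    rw [map_le_iff_le_comap, Cov.E, closure_le]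
    rintro _ (rfl | rfl)
    exacts [hboth.1, hboth.2]
  have hFa : Fix a = ⊥ := htriv a κ haR rfl (hgen a (Or.inl rfl))
  have hFc : Fix c = ⊥ := htriv c (κ * D.s) hcR (by
    show κ * D.s * D.z * (κ * D.s)⁻¹ = κ * D.b * κ⁻¹
    rw [← D.sz]; group) (hgen c (Or.inr rfl))
  have hFd : Nat.card (Fix (a⁻¹ * c)) ≤ 4 := by
    let h := κ * D.e
    have e1 : h * D.w * h⁻¹ = a⁻¹ * c := by
      show κ * D.e * (D.z * D.b) * (κ * D.e)⁻¹ = (κ * D.z * κ⁻¹)⁻¹ * (κ * D.b * κ⁻¹)
      calc _ = κ * ((D.e * D.z * D.e⁻¹) * (D.e * D.b * D.e⁻¹)) * κ⁻¹ := by group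
        _ = _ := by rw [D.ez, D.eb]; group
    refine le_trans ?_ (card_le_four D F
      (K := (Fix (a⁻¹ * c)).map (MulAut.conj h⁻¹).toMonoidHom)
      ((hU2.to_le inf_le_left).map _) ?_)
    · rw [card_map_of_injective (MulAut.conj h⁻¹).injective]
    · rintro _ ⟨v, hv, rfl⟩
      have e2 : h⁻¹ * (a⁻¹ * c) * h = D.w := by rw [← e1]; group
      have := Commute.map (mem_centralizer_singleton_iff.1 hv.2 : Commute v (a⁻¹ * c))
        (MulAut.conj h⁻¹).toMonoidHom
      simpa [e2] using this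
  -- the automorphisms
  let act : ∀ g : G, g ∈ R → (U ≃* U) := fun g hg =>
    { toFun := fun q => ⟨g * q.1 * g⁻¹, hRU g hg _ q.2⟩
      invFun := fun q => ⟨g⁻¹ * q.1 * g, by simpa using hRU g⁻¹ (inv_mem hg) _ q.2⟩
      left_inv := fun q => Subtype.ext (by simp [mul_assoc])
      right_inv := fun q => Subtype.ext (by simp [mul_assoc])
      map_mul' := fun p q => Subtype.ext (by simp [mul_assoc]) }
  have hcube : ∀ g ∈ R, g * (g * g) = 1 := by
    rintro _ ⟨p, hp, rfl⟩
    rw [← map_mul, ← map_mul]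
    have : p ^ 3 = 1 := by
      induction hp using closure_induction with
      | mem v hv => rcases hv with rfl | rfl
                    exacts [zz D, bb D]
      | one => exact one_pow _
      | mul p q hp hq i j => rw [(E_comm D p hp q hq).mul_pow, i, j, mul_one]
      | inv p _ i => rw [inv_pow, i, inv_one]
    rw [pow_succ', pow_two] at this
    rw [this, map_one]
  have hord : ∀ g hg (v : U), act g hg (act g hg (act g hg v)) = v := fun g hg v => by
    apply Subtype.ext
    show g * (g * (g * v.1 * g⁻¹) * g⁻¹) * g⁻¹ = v.1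
    calc _ = g * (g * g) * v.1 * (g * (g * g))⁻¹ := by group
      _ = _ := by rw [hcube g hg, one_mul, inv_one, mul_one]
  have hfixle : ∀ g (σ : U ≃* U), (∀ v : U, σ v = v → Commute v.1 g) →
      Nat.card (fixS σ) ≤ Nat.card (Fix g) := fun g σ h =>
    Nat.card_le_card_of_injective
      (fun v => (⟨v.1.1, v.1.2, mem_centralizer_singleton_iff.2 (h v.1 v.2)⟩ : Fix g))
      fun v v' e => Subtype.ext (Subtype.ext (congrArg Subtype.val e :))
  have hfree : ∀ v : U, act a haR v = v → act c hcR v = v → v = 1 := fun v h1 _ => by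
    have hm : v.1 ∈ Fix a :=
      ⟨v.2, mem_centralizer_singleton_iff.2
        (mul_inv_eq_iff_eq_mul.1 (congrArg Subtype.val h1 : a * v.1 * a⁻¹ = v.1)).symm⟩
    rw [hFa] at hm
    exact Subtype.ext hm
  have hbound := card_le_fix hU2 (act a haR) (act c hcR) (hord a haR) (hord c hcR)
    (fun v => Subtype.ext (by
      show a * (c * v.1 * c⁻¹) * a⁻¹ = c * (a * v.1 * a⁻¹) * c⁻¹
      calc _ = a * c * v.1 * (a * c)⁻¹ := by group
        _ = _ := by rw [(hRcomm a haR c hcR).eq]; group)) hfree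
  have b1 : Nat.card (fixS (act a haR)) ≤ 1 := (hfixle a _ fun v h =>
    (mul_inv_eq_iff_eq_mul.1 (congrArg Subtype.val h : a * v.1 * a⁻¹ = v.1)).symm).trans
      (by rw [hFa, Subgroup.card_bot])
  have b2 : Nat.card (fixS (act c hcR)) ≤ 1 := (hfixle c _ fun v h =>
    (mul_inv_eq_iff_eq_mul.1 (congrArg Subtype.val h : c * v.1 * c⁻¹ = v.1)).symm).trans
      (by rw [hFc, Subgroup.card_bot])
  have b3 : Nat.card (fixS ((act c hcR).trans (act a haR))) ≤ 4 := (hfixle D.w _ fun v h => by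
    have e : a * (c * v.1 * c⁻¹) * a⁻¹ = v.1 := congrArg Subtype.val h
    rw [← hac]
    exact (mul_inv_eq_iff_eq_mul.1 (show a * c * v.1 * (a * c)⁻¹ = v.1 by
      exact Eq.trans (by group) e)).symm).trans (card_le_four D F (hU2.to_le inf_le_left) fun v hv =>
      mem_centralizer_singleton_iff.1 hv.2)
  have b4 : Nat.card (fixS (((act c hcR).trans (act a haR)).trans (act a haR))) ≤ 4 :=
    (hfixle (a⁻¹ * c) _ fun v h => by
      have e : a * (a * (c * v.1 * c⁻¹) * a⁻¹) * a⁻¹ = v.1 := congrArg Subtype.val h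
      have ha2 : a⁻¹ = a * a := inv_eq_of_mul_eq_one_right (hcube a haR)
      refine (mul_inv_eq_iff_eq_mul.1 (show a⁻¹ * c * v.1 * (a⁻¹ * c)⁻¹ = v.1 from ?_)).symm
      refine Eq.trans ?_ e
      rw [show a⁻¹ * c = a * a * c by rw [ha2]]
      simp only [mul_inv_rev, mul_assoc]).trans hFd
  have := Nat.mul_le_mul (Nat.mul_le_mul (Nat.mul_le_mul b1 b2) b3) b4
  omega

end CfsgLib.McLDouble
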