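import Cfsg.Agent.Lib.McLDouble.Cover
import Cfsg.Agent.Lib.McLDouble.Build
import Cfsg.Agent.Lib.McLDouble.Fusion
import Cfsg.Agent.Lib.McLDouble.JLocal
import Cfsg.Agent.Lib.McLDouble.Three
import Cfsg.Agent.Lib.McLThree.Main
import Cfsg.Agent.Lib.Spor.McLInvol.Main

/-!
# The McLaughlin group from the centralizer of an involution, modulo the last pieces
-/

set_option autoImplicit false
set_option linter.style.haveILetI false

namespace CfsgLib.McLDouble

open Subgroup

universe u

variable {G : Type u} [Group G] [Finite G]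

/-- In the McLaughlin group every involution centralizer has order `40320`. -/
theorem mcl_cent_card [Finite Cfsg.Spor.McL] {x : Cfsg.Spor.McL} (hx : orderOf x = 2) :
    Nat.card (centralizer ({x} : Set Cfsg.Spor.McL)) = 40320 := by
  obtain ⟨hcl, t, ht, hc, ⟨e⟩, -⟩ := CfsgLib.Spor.McLInvol.mcl_involutions
  obtain ⟨g, hg⟩ := isConj_iff.1 (hcl t x ht hx)
  have hmap : (centralizer ({t} : Set Cfsg.Spor.McL)).map (MulAut.conj g).toMonoidHom =
      centralizer ({x} : Set Cfsg.Spor.McL) := by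
    ext y
    rw [Subgroup.mem_map_equiv, mem_centralizer_singleton_iff, mem_centralizer_singleton_iff,
      MulAut.conj_symm_apply]
    constructor
    · intro h
      rw [← hg]
      calc y * (g * t * g⁻¹) = g * (g⁻¹ * y * g * t) * g⁻¹ := by group
        _ = g * (t * (g⁻¹ * y * g)) * g⁻¹ := by rw [h]
        _ = _ := by group
    · intro h
      rw [← hg] at h
      calc g⁻¹ * y * g * t = g⁻¹ * (y * (g * t * g⁻¹)) * g := by group
        _ = g⁻¹ * (g * t * g⁻¹ * y) * g := by rw [h]
        _ = _ := by group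
  rw [← hmap, card_map_of_injective (MulAut.conj g).injective,
    card_eq_card_quotient_mul_card_subgroup (center _), Nat.card_congr e.toEquiv, hc,
    nat_card_alternatingGroup, Nat.card_fin]
  rfl

/-- Recognition, given the pieces. -/
theorem recognise (P : McLThree.Pieces.{u}) (hY : StmtY.{u}) (hX : StmtX.{u}) (t : G)
    (ht : orderOf t = 2)
    (hcov : Cfsg.IsNonsplitDoubleCover (centralizer ({t} : Set G)) (alternatingGroup (Fin 8))) :
    centralizer ({t} : Set G) ⊔ Cfsg.oddCore G = ⊤ ∨ Nonempty (G ≃* Cfsg.Spor.McL) := by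
  obtain ⟨D, rfl⟩ := cov_exists G t ht hcov
  rcases fusedOrCore G D with h | ⟨⟨F⟩⟩
  · exact Or.inl h
  right
  obtain ⟨K⟩ := jData G D F (three G D F)
  obtain ⟨X⟩ := hX G D F K (hY G D F K)
  obtain ⟨C⟩ := X.cover D
  obtain ⟨G₀, ⟨e⟩, htG₀, -, hN, hC⟩ :=
    McLThree.core P.coverWords P.glue P.bound P.bound₀ P.model (X.loc D) C
  change D.t ∈ G₀ at htG₀
  change centralizer ({D.t} : Set G) ≤ normalizer (G₀ : Set G) at hN
  have hnorm := P.census G G₀ D.t ⟨e⟩ htG₀ D.ord_t hC hN
  haveI : G₀.Normal := Subgroup.normalizer_eq_top_iff.1 hnorm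
  haveI : Finite Cfsg.Spor.McL := Finite.of_equiv G₀ e.toEquiv
  have hone : ∀ a : G₀, orderOf a = 2 → IsConj (⟨D.t, htG₀⟩ : G₀) a := fun a ha => by
    have h := e.symm.toMonoidHom.map_isConj (CfsgLib.Spor.McLInvol.mcl_involutions.1
      (e ⟨D.t, htG₀⟩) (e a) (by rw [MulEquiv.orderOf_eq, orderOf_mk]; exact D.ord_t)
      (by rw [MulEquiv.orderOf_eq]; exact ha))
    simpa using h
  have hcent : centralizer ({D.t} : Set G) ≤ G₀ := by
    have h1 : Nat.card ↥((centralizer ({D.t} : Set G)).subgroupOf G₀) = 40320 := by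
      rw [show (centralizer ({D.t} : Set G)).subgroupOf G₀ = centralizer ({⟨D.t, htG₀⟩} : Set G₀) by
        ext y
        rw [mem_subgroupOf, mem_centralizer_singleton_iff, mem_centralizer_singleton_iff, Subtype.ext_iff]
        rfl]
      rw [← mcl_cent_card (x := e ⟨D.t, htG₀⟩) (by rw [MulEquiv.orderOf_eq, orderOf_mk]; exact D.ord_t)]
      exact Nat.card_congr
        { toFun := fun y => ⟨e y.1, mem_centralizer_singleton_iff.2 (by
            rw [← map_mul, ← map_mul, mem_centralizer_singleton_iff.1 y.2])⟩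
          invFun := fun y => ⟨e.symm y.1, mem_centralizer_singleton_iff.2 (e.injective (by
            rw [map_mul, map_mul, e.apply_symm_apply, mem_centralizer_singleton_iff.1 y.2]))⟩
          left_inv := fun y => Subtype.ext (e.symm_apply_apply _)
          right_inv := fun y => Subtype.ext (e.apply_symm_apply _) }
    have h2 : Nat.card ↥(centralizer ({D.t} : Set G) ⊓ G₀) = 40320 := by
      rw [← h1, ← inf_subgroupOf_right,
        Nat.card_congr (subgroupOfEquivOfLe (inf_le_right : centralizer ({D.t} : Set G) ⊓ G₀ ≤ G₀)).toEquiv]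
    have h3 := Subgroup.eq_of_le_of_card_ge (inf_le_left : centralizer ({D.t} : Set G) ⊓ G₀ ≤ _)
      (by rw [h2, D.card_C])
    exact inf_eq_left.1 h3
  have htop : G₀ = ⊤ := by
    refine eq_top_iff.2 fun g _ => ?_
    have hmem : g * D.t * g⁻¹ ∈ G₀ := Subgroup.Normal.conj_mem inferInstance _ htG₀ g
    obtain ⟨h, hh⟩ := isConj_iff.1 (hone ⟨_, hmem⟩ (by
      rw [orderOf_mk, show g * D.t * g⁻¹ = MulAut.conj g D.t from rfl, MulEquiv.orderOf_eq]; exact D.ord_t))
    have e' : (h : G) * D.t * (h : G)⁻¹ = g * D.t * g⁻¹ := congrArg Subtype.val hh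
    have hc : (h : G)⁻¹ * g ∈ centralizer ({D.t} : Set G) := mem_centralizer_singleton_iff.2 (by
      calc (h : G)⁻¹ * g * D.t = (h : G)⁻¹ * (g * D.t * g⁻¹) * g := by group
        _ = (h : G)⁻¹ * ((h : G) * D.t * (h : G)⁻¹) * g := by rw [e']
        _ = _ := by group)
    rw [show g = (h : G) * ((h : G)⁻¹ * g) by group]
    exact mul_mem h.2 (hcent hc)
  exact ⟨((MulEquiv.subgroupCongr htop).trans Subgroup.topEquiv).symm.trans e⟩

end CfsgLib.McLDouble
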